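import Cfsg.Agent.Lib.PrimeDefect.Family
import Cfsg.Agent.Lib.Blk7.PConjugate
import Cfsg.Agent.Lib.Blocks.PrincipalSq

/-!
# Sylow subgroups of prime order: `p`-conjugacy inside a block
-/

set_option autoImplicit false
set_option linter.unusedSectionVars false
set_option linter.style.haveILetI false

noncomputable section

namespace CfsgLib.PrimeDefect

open Cfsg CfsgLib.Characters CfsgLib.SelfCentralPrime
open scoped ComplexConjugate

universe u

variable {G : Type u} [Group G] {p : ℕ} [hp : Fact p.Prime] {x : G} {C V : Subgroup G}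
variable (D : Data p x C V) [Fintype G] [Fintype C] [Fintype V]

namespace Data

include D

/-- A `p`-singular element is conjugate into `x ^ i V`. -/
theorem exists_conj_singular {g : G} (hg : p ∣ orderOf g) :
    ∃ (h : G) (i : ZMod p), i ≠ 0 ∧ ∃ v : V, h * g * h⁻¹ = pw x i * v := by
  classical
  obtain ⟨P, hP⟩ : ∃ P : Sylow p G, (P : Subgroup G) = Subgroup.zpowers x := by
    refine ⟨Sylow.ofCard (Subgroup.zpowers x) ?_, rfl⟩
    rw [Nat.card_zpowers, D.hx, D.factorization_card_eq, pow_one]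
  set m := orderOf g / p with hm
  set z := g ^ m with hz
  have hzord : orderOf z = p := by
    rw [hz, orderOf_pow_of_dvd (by
      exact (Nat.div_pos (Nat.le_of_dvd (orderOf_pos g) hg) hp.out.pos).ne') (Nat.div_dvd_of_dvd hg),
      Nat.div_div_self hg (orderOf_pos g).ne']
  obtain ⟨Q, hQ⟩ : ∃ Q : Sylow p G, (Q : Subgroup G) = Subgroup.zpowers z := by
    refine ⟨Sylow.ofCard (Subgroup.zpowers z) ?_, rfl⟩
    rw [Nat.card_zpowers, hzord, D.factorization_card_eq, pow_one]
  obtain ⟨h, hh⟩ := MulAction.exists_smul_eq G Q P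
  have hmem : h * z * h⁻¹ ∈ (P : Subgroup G) := by
    rw [← hh]
    exact Subgroup.smul_mem_pointwise_smul _ (MulAut.conj h) _
      (by rw [hQ]; exact Subgroup.mem_zpowers z)
  rw [hP, ← (isOfFinOrder_of_finite x).mem_powers_iff_mem_zpowers] at hmem
  obtain ⟨n, hn⟩ := hmem
  have hn' : pw x (n : ZMod p) = h * z * h⁻¹ := by
    rw [← pow_eq_pw D.hx]; exact hn
  have hn0 : (n : ZMod p) ≠ 0 := fun h0 => by
    rw [h0, D.pw_zero, eq_comm, conj_eq_one_iff] at hn'
    rw [hn', orderOf_one] at hzord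
    exact hp.out.ne_one hzord.symm
  set g' := h * g * h⁻¹ with hg'
  have hcomm : g' ∈ C := by
    have h1 : Commute g' (pw x (n : ZMod p)) := by
      rw [hn', hz, hg', ← conj_pow]
      exact Commute.self_pow _ m
    exact (D.pow hn0).mem_C_iff.2 h1
  obtain ⟨i, hi⟩ := D.exists_decomp hcomm
  refine ⟨h, i, ?_, ⟨_, hi⟩, (mul_inv_cancel_left _ _).symm⟩
  rintro rfl
  rw [D.pw_zero, inv_one, one_mul] at hi
  refine D.regular hi ?_
  have h2 : orderOf g' = orderOf g :=
    orderOf_injective (MulAut.conj h).toMonoidHom (MulAut.conj h).injective g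
  rwa [h2]

variable {M : Ideal AlgInt}

/-- Two characters of a block agreeing on `p`-regular elements with the same multiplicities at
`β` are equal. -/
theorem ext_of_mult (hM : IsPModular p M) {B : Set (IrrCharacter G)} (hB : IsPBlock M B)
    {β : IrrCharacter V} (hβ : D.Hits M B β) {χ ψ : IrrCharacter G} (hχ : χ ∈ B) (hψ : ψ ∈ B)
    (hreg : ∀ g : G, ¬ p ∣ orderOf g → (χ : G → ℂ) g = (ψ : G → ℂ) g)
    (hmult : ∀ a, D.mult χ a β = D.mult ψ a β) : χ = ψ := by
  classical
  refine Subtype.ext (funext fun g => ?_)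
  by_cases hg : p ∣ orderOf g
  · obtain ⟨h, i, hi, v, hv⟩ := D.exists_conj_singular hg
    rw [← irr_isClassFunction χ g h, ← irr_isClassFunction ψ g h, hv, D.value_eq_coef,
      D.value_eq_coef]
    refine Finset.sum_congr rfl fun γ _ => ?_
    congr 1
    by_cases hγ : D.Hits M B γ
    · obtain ⟨n, rfl⟩ := D.exists_cj_of_hits hM hβ hγ
      rw [D.coef_cj, D.coef_cj, D.coef_eq, D.coef_eq]
      simp only [hmult]
    · rw [D.coef_eq_zero hM hB hχ hi hγ, D.coef_eq_zero hM hB hψ hi hγ]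
  · exact hreg g hg

theorem pow_of_regular {k : ℕ}
    (hk : k % (Nat.card G / p ^ (Nat.card G).factorization p) =
      1 % (Nat.card G / p ^ (Nat.card G).factorization p)) {g : G} (hg : ¬ p ∣ orderOf g) :
    g ^ k = g := by
  have hd : orderOf g ∣ Nat.card G / p ^ (Nat.card G).factorization p := by
    have h1 := orderOf_dvd_natCard g
    rw [PConj.card_eq_mul (G := G) p] at h1
    exact (Nat.Coprime.pow_right _
      (Nat.coprime_comm.1 (hp.out.coprime_iff_not_dvd.2 hg))).dvd_of_dvd_mul_left h1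
  conv_rhs => rw [← pow_one g]
  exact pow_eq_pow_iff_modEq.2 ((show k ≡ 1 [MOD _] from hk).of_dvd hd)

/-- A power map prime to the order preserves a block of positive defect. -/
theorem twist_mem (hM : IsPModular p M) {B : Set (IrrCharacter G)} (hB : IsPBlock M B)
    (hd : 0 < blockDefect p B) {χ ψ : IrrCharacter G} (hχ : χ ∈ B) {k : ℕ}
    (hk : k % (Nat.card G / p ^ (Nat.card G).factorization p) =
      1 % (Nat.card G / p ^ (Nat.card G).factorization p))
    (hψ : (ψ : G → ℂ) = PConj.twist χ k) : ψ ∈ B := by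
  rw [Blocks.IsPBlock.eq_blockOf hM hB hχ]
  intro g
  unfold centralChar
  have hdeg := D.not_dvd_charDegree hM hB hd hχ
  have hψ1 : (ψ : G → ℂ) 1 = (χ : G → ℂ) 1 := by
    rw [hψ]; exact congrArg (χ : G → ℂ) (one_pow k)
  have hpow : g ^ p ^ 1 = (g ^ k) ^ p ^ 1 := by
    rw [pow_one, ← pow_mul]
    refine pow_eq_pow_iff_modEq.2 (Nat.ModEq.of_dvd (orderOf_dvd_natCard g) ?_)
    have h2 : k * p ≡ 1 * p [MOD Nat.card G / p ^ (Nat.card G).factorization p * p] :=
      Nat.ModEq.mul_right' p (show k ≡ 1 [MOD _] from hk)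
    rw [one_mul] at h2
    have hc : Nat.card G / p ^ (Nat.card G).factorization p * p = Nat.card G := by
      conv_rhs => rw [PConj.card_eq_mul (G := G) p, D.factorization_card_eq, pow_one, mul_comm]
      rw [D.factorization_card_eq, pow_one]
    rw [hc] at h2
    exact h2.symm
  have h1 : MemLocalIdeal M ((χ : G → ℂ) g - (ψ : G → ℂ) g) := by
    rw [hψ]
    exact PrincipalSq.char_congr_of_pow_eq hM (irr_isCharacter χ) hpow
  rw [hψ1, div_sub_div_same, ← mul_sub, mul_comm, mul_div_assoc, mul_comm,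
    LinearTwist.apply_one_eq_charDegree (irr_isCharacter χ), div_eq_mul_inv]
  exact Blocks.MemLocalIdeal.mul_left hM ((Blocks.lRing hM).mul_mem
    (natCast_mem _ _) (Blocks.inv_natCast_mem_lRing hM hdeg)) h1

/-- The multiplicities of a twisted character. -/
theorem mult_twist {χ ψ : IrrCharacter G} {k : ℕ}
    (hk : k % (Nat.card G / p ^ (Nat.card G).factorization p) =
      1 % (Nat.card G / p ^ (Nat.card G).factorization p))
    (hψ : (ψ : G → ℂ) = PConj.twist χ k) (κ : (ZMod p)ˣ) (hκ : (κ : ZMod p) = k)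
    (a : ZMod p) (γ : IrrCharacter V) :
    D.mult ψ a γ = D.mult χ ((κ⁻¹ : (ZMod p)ˣ) * a) γ := by
  have hcoef : ∀ i : ZMod p, D.coef ψ i γ = D.coef χ ((κ : ZMod p) * i) γ := by
    intro i
    simp only [Data.coef]
    congr 1
    refine Finset.sum_congr rfl fun v _ => ?_
    congr 1
    rw [hψ]
    show (χ : G → ℂ) ((pw x i * v) ^ k) = _
    rw [(D.commute_pw (D.V_le v.2) i).symm.mul_pow, D.pow_of_regular hk (D.regular v.2),
      pw_pow D.hx, hκ, mul_comm i]
  have h : (p : ℂ) * (D.mult ψ a γ : ℂ) = (p : ℂ) * (D.mult χ ((κ⁻¹ : (ZMod p)ˣ) * a) γ : ℂ) := by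
    rw [D.mult_eq, D.mult_eq]
    refine Fintype.sum_equiv (Units.mulLeft κ) _ _ fun i => ?_
    rw [Units.mulLeft_apply, hcoef]
    congr 2
    linear_combination (i * a) * κ.mul_inv
  exact_mod_cast mul_left_cancel₀ (Nat.cast_ne_zero.2 hp.out.ne_zero) h

/-- Every residue prime to `p` comes from a power map fixing the `p'`-roots of unity. -/
theorem exists_power (κ : (ZMod p)ˣ) :
    ∃ k : ℕ, k.Coprime (Nat.card G) ∧
      k % (Nat.card G / p ^ (Nat.card G).factorization p) =
        1 % (Nat.card G / p ^ (Nat.card G).factorization p) ∧ (κ : ZMod p) = k := by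
  set q := Nat.card G / p ^ (Nat.card G).factorization p
  have hcop : Nat.Coprime q p :=
    Nat.coprime_comm.1 (Nat.coprime_ordCompl hp.out Nat.card_pos.ne')
  obtain ⟨k, hk1, hk2⟩ := Nat.chineseRemainder hcop 1 (κ : ZMod p).val
  have hκ : (κ : ZMod p) = k := by
    rw [(ZMod.natCast_eq_natCast_iff k _ p).2 hk2, ZMod.natCast_zmod_val]
  refine ⟨k, ?_, hk1, hκ⟩
  rw [PConj.card_eq_mul (G := G) p]
  refine Nat.Coprime.mul_right (Nat.Coprime.pow_right _ (Nat.coprime_comm.1
    (hp.out.coprime_iff_not_dvd.2 fun h => ?_))) ?_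
  · exact κ.ne_zero (hκ.trans ((ZMod.natCast_eq_zero_iff k p).2 h))
  · exact (Nat.ModEq.gcd_eq hk1).trans (Nat.gcd_one_left q)

end Data

namespace Family

variable {D} {M : Ideal AlgInt} {B : Set (IrrCharacter G)} {β : IrrCharacter V}
  (F : Family D B β)

include F

/-- Power maps fix the characters of `X`. -/
theorem twist_X (hM : IsPModular p M) (hB : IsPBlock M B) (hd : 0 < blockDefect p B)
    (hβ : D.Hits M B β) {χ ψ : IrrCharacter G} (hχ : χ ∈ F.X) (h : PConj.Conj p χ ψ) :
    ψ = χ := by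
  obtain ⟨k, -, hcop, hk, hψ⟩ := PConj.exists_exp h
  have hpk : ¬ p ∣ k := fun hd' => hp.out.ne_one (Nat.eq_one_of_dvd_one
    (hcop ▸ Nat.dvd_gcd hd' (D.hx ▸ orderOf_dvd_natCard x)))
  have hk0 : (k : ZMod p) ≠ 0 := fun h0 => hpk ((ZMod.natCast_eq_zero_iff k p).1 h0)
  refine D.ext_of_mult hM hB hβ (D.twist_mem hM hB hd (F.mem_of_mem_X hχ) hk hψ)
    (F.mem_of_mem_X hχ) (fun g hg => ?_) fun a => ?_
  · rw [hψ]
    show (χ : G → ℂ) (g ^ k) = _
    rw [D.pow_of_regular hk hg]
  · rw [D.mult_twist hk hψ (Units.mk0 _ hk0) (Units.val_mk0 hk0)]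
    by_cases ha : a = 0
    · rw [ha, mul_zero]
    · have h1 := F.mult_X χ hχ ((Units.mk0 _ hk0)⁻¹ * Units.mk0 a ha)
      have h2 := F.mult_X χ hχ (Units.mk0 a ha)
      rw [Units.val_mul, Units.val_mk0] at h1
      rw [Units.val_mk0] at h2
      exact_mod_cast h1.trans h2.symm

/-- A power map moves the exceptional characters by its residue. -/
theorem twist_θ (hM : IsPModular p M) (hB : IsPBlock M B) (hd : 0 < blockDefect p B)
    (hβ : D.Hits M B β) (q : D.Orbits β) {ψ : IrrCharacter G} {k : ℕ}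
    (hk : k % (Nat.card G / p ^ (Nat.card G).factorization p) =
      1 % (Nat.card G / p ^ (Nat.card G).factorization p))
    (hψ : (ψ : G → ℂ) = PConj.twist (F.θ q) k) (κ : (ZMod p)ˣ) (hκ : (κ : ZMod p) = k) :
    ψ = F.θ ((κ : D.Orbits β) * q) := by
  classical
  refine D.ext_of_mult hM hB hβ (D.twist_mem hM hB hd (F.θ_mem q) hk hψ) (F.θ_mem _)
    (fun g hg => ?_) fun a => ?_
  · rw [hψ]
    show (F.θ q : G → ℂ) (g ^ k) = _
    rw [D.pow_of_regular hk hg, F.θ_regular_eq hg q ((κ : D.Orbits β) * q)]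
  · rw [D.mult_twist hk hψ κ hκ]
    by_cases ha : a = 0
    · rw [ha, mul_zero, F.mult_zero_θ_eq q ((κ : D.Orbits β) * q)]
    · have h1 := F.mult_θ q (κ⁻¹ * Units.mk0 a ha)
      have h2 := F.mult_θ ((κ : D.Orbits β) * q) (Units.mk0 a ha)
      rw [Units.val_mul, Units.val_mk0] at h1
      rw [Units.val_mk0] at h2
      rw [F.mult_zero_θ_eq q ((κ : D.Orbits β) * q)] at h1
      have hiff : (((κ⁻¹ * Units.mk0 a ha : (ZMod p)ˣ)) : D.Orbits β) = q ↔
          ((Units.mk0 a ha : (ZMod p)ˣ) : D.Orbits β) = (κ : D.Orbits β) * q := by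
        rw [QuotientGroup.mk_mul, QuotientGroup.mk_inv]
        exact inv_mul_eq_iff_eq_mul
      simp only [hiff] at h1
      exact_mod_cast h1.trans h2.symm

end Family

end CfsgLib.PrimeDefect
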