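import Cfsg.Agent.Lib.PrimeDefect.Family
import Cfsg.Agent.Lib.Blk7.SmallTensor
import Cfsg.Agent.Lib.Characters.Values

/-!
# Sylow subgroups of prime order: the square modulus of a character of small degree

A constituent of `ψ ψ̄` in a block `B`, for `ψ` of degree at most `p / 2`, has no component at a
character of `V` outside the local orbit of `B`.
-/

set_option autoImplicit false
set_option linter.unusedSectionVars false
set_option linter.style.haveILetI false

noncomputable section

namespace CfsgLib.PrimeDefect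

open Cfsg CfsgLib.Characters CfsgLib.SelfCentralPrime
open MonoidAlgebra (of)
open scoped ComplexConjugate

universe u

variable {G : Type u} [Group G] {p : ℕ} [hp : Fact p.Prime]

/-- A map of the valuation ring to a field of characteristic `p` kills the modular ideal. -/
theorem map_eq_zero_of_memLocalIdeal {M : Ideal AlgInt} (hM : IsPModular p M)
    (O : ValuationSubring ℂ) (hO : ∀ z : ℂ, MemLocalRing M z → z ∈ O) {R : Type} [Field R]
    [CharP R p] (φ : O →+* R) {z : O} (hz : MemLocalIdeal M (z : ℂ)) : φ z = 0 := by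
  haveI := hM.2.1
  let f : AlgInt →+* O :=
    { toFun := fun a => ⟨(a : ℂ), hO _ (Blocks.coe_mem_lRing hM a)⟩
      map_one' := rfl
      map_mul' := fun _ _ => rfl
      map_zero' := rfl
      map_add' := fun _ _ => rfl }
  set P := RingHom.ker (φ.comp f) with hPdef
  haveI : P.IsPrime := RingHom.ker_isPrime _
  have hpP : (p : AlgInt) ∈ P := by
    rw [hPdef, RingHom.mem_ker, map_natCast, CharP.cast_eq_zero]
  have hPmax : P.IsMaximal := by
    refine Ideal.isMaximal_of_isIntegral_of_isMaximal_comap (R := ℤ) P ?_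
    have hle : Ideal.span {(p : ℤ)} ≤ P.comap (algebraMap ℤ AlgInt) := by
      rw [Ideal.span_le, Set.singleton_subset_iff]
      show algebraMap ℤ AlgInt (p : ℤ) ∈ P
      rwa [map_natCast]
    have hmax' : (Ideal.span {(p : ℤ)}).IsMaximal :=
      PrincipalIdealRing.isMaximal_of_irreducible (Nat.prime_iff_prime_int.1 hp.out).irreducible
    rw [← hmax'.eq_of_le (Ideal.IsPrime.ne_top inferInstance) hle]
    exact hmax'
  have hunit : ∀ b : AlgInt, b ∉ M → φ (f b) ≠ 0 := by
    intro b hb h
    have hinv : ((b : ℂ))⁻¹ ∈ O := hO _ ⟨1, b, hb, by simp⟩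
    have hb0 : (b : ℂ) ≠ 0 := fun h0 => hb (by
      rw [show b = 0 from Subtype.ext h0]; exact M.zero_mem)
    have h1 : f b * ⟨_, hinv⟩ = 1 := Subtype.ext (mul_inv_cancel₀ hb0)
    have h2 := congrArg φ h1
    rw [map_mul, h, zero_mul, map_one] at h2
    exact zero_ne_one h2
  have hPM : P = M := hPmax.eq_of_le hM.2.1.ne_top fun b hb => by
    by_contra h
    exact hunit b h hb
  obtain ⟨a, b, ha, hb, hab⟩ := hz
  have hb0 : (b : ℂ) ≠ 0 := fun h0 => hb (by
    rw [show b = 0 from Subtype.ext h0]; exact M.zero_mem)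
  have h1 : z * f b = f a := Subtype.ext (by
    show (z : ℂ) * (b : ℂ) = a
    rw [← hab, div_mul_cancel₀ _ hb0])
  have h2 := congrArg φ h1
  rw [map_mul, show φ (f a) = 0 from (show a ∈ P from hPM ▸ ha)] at h2
  exact (mul_eq_zero.1 h2).resolve_right (hunit b hb)

variable {x : G} {C V : Subgroup G} (D : Data p x C V) [Fintype G] [Fintype C] [Fintype V]

namespace Data

include D

omit D in
/-- A central element of `ℂ[V]` acts on the idempotent of `γ` as a scalar. -/
theorem ofFun_mul_blockIdem (γ : IrrCharacter V) {f : V → ℂ}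
    (hf : Blocks.ofFun f ∈ Subalgebra.center ℂ (MonoidAlgebra ℂ V)) :
    Blocks.ofFun f * Blocks.blockIdem {γ} =
      ((∑ v : V, f v * (γ : V → ℂ) v) / (γ : V → ℂ) 1) • Blocks.blockIdem {γ} := by
  classical
  refine Blocks.central_ext (mul_mem hf (Blocks.blockIdem_mem_center _))
    (Subalgebra.smul_mem _ (Blocks.blockIdem_mem_center _) _) fun χ => ?_
  rw [Blocks.omega_mul χ hf, map_smul, Blocks.omega_blockIdem, smul_eq_mul]
  split_ifs with h
  · rw [Set.mem_singleton_iff] at h
    rw [h, Blocks.omega_ofFun]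
  · simp

open scoped Classical in
/-- A constituent of `ψ ψ̄` in `B` has no component at a `γ` not hitting `B`. -/
theorem mult_eq_zero_of_small {M : Ideal AlgInt} (hM : IsPModular p M)
    (O : ValuationSubring ℂ) (hpO : (p : O) ∈ IsLocalRing.maximalIdeal O)
    (hO : ∀ z : ℂ, MemLocalRing M z → z ∈ O) {ψ : IrrCharacter G}
    (hψ : 2 * charDegree (ψ : G → ℂ) ≤ p) {ξ : IrrCharacter G}
    (hξ : classInner (fun g => (ψ : G → ℂ) g * conj ((ψ : G → ℂ) g)) (ξ : G → ℂ) ≠ 0)
    {B : Set (IrrCharacter G)} (hB : IsPBlock M B) (hξB : ξ ∈ B) {γ : IrrCharacter V}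
    (hγ : ¬ D.Hits M B γ) (a : ZMod p) : D.mult ξ a γ = 0 := by
  -- the idempotent
  have hcB : ∀ g, blockCoeff B g ∈ O := fun g => hO _ (Blocks.memLocalRing_blockCoeff hM hB g)
  have hcγ : ∀ v : V, blockCoeff {γ} v ∈ O := fun v => by
    refine hO _ ?_
    rw [Blocks.blockCoeff_eq_sum]
    simp only [Set.mem_singleton_iff, Finset.filter_eq', Finset.mem_univ, if_true,
      Finset.sum_singleton]
    exact (Blocks.lRing hM).mul_mem (Blocks.inv_natCast_mem_lRing hM D.not_dvd_card_V)
      (Blocks.isIntegral_mem_lRing hM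
        ((CharCorr.irr_isIntegral γ 1).mul (isIntegral_conj (CharCorr.irr_isIntegral γ v))))
  let eB : MonoidAlgebra O G := ∑ g : G, (⟨_, hcB g⟩ : O) • of O G g
  let zV : MonoidAlgebra O G := ∑ v : V, (⟨_, hcB (v : G)⟩ : O) • of O G (v : G)
  let eγ : MonoidAlgebra O G := ∑ v : V, (⟨_, hcγ v⟩ : O) • of O G (v : G)
  let toC : MonoidAlgebra O G →+* MonoidAlgebra ℂ G := MonoidAlgebra.mapRingHom G O.subtype
  have hinj : Function.Injective toC := by
    intro a b h
    ext g
    have := congrArg (fun z : MonoidAlgebra ℂ G => z.coeff g) h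
    simpa [toC] using this
  have hjV : ∀ z : MonoidAlgebra ℂ V, MonoidAlgebra.mapDomainRingHom ℂ V.subtype z =
      ∑ v : V, z.coeff v • of ℂ G (v : G) := by
    intro z
    conv_lhs => rw [Hit.eq_sum_of z, map_sum]
    exact Finset.sum_congr rfl fun v _ => by simp [MonoidAlgebra.of_apply]
  have hCB : toC eB = Blocks.blockIdem B := by
    rw [Hit.eq_sum_of (Blocks.blockIdem B), map_sum]
    refine Finset.sum_congr rfl fun g _ => ?_
    simp [toC, MonoidAlgebra.of_apply]
  have hCγ : toC eγ = MonoidAlgebra.mapDomainRingHom ℂ V.subtype (Blocks.blockIdem {γ}) := by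
    rw [hjV, map_sum]
    refine Finset.sum_congr rfl fun g _ => ?_
    simp [toC, MonoidAlgebra.of_apply]
  have hCV : toC zV = MonoidAlgebra.mapDomainRingHom ℂ V.subtype
      (Blocks.ofFun fun v : V => blockCoeff B (v : G)) := by
    rw [hjV, map_sum]
    refine Finset.sum_congr rfl fun g _ => ?_
    simp [toC, MonoidAlgebra.of_apply]
  have hcentral : ∀ r, Commute eB r := fun r => hinj (by
    rw [map_mul, map_mul, hCB]
    exact ((Subalgebra.mem_center_iff.1 (Blocks.blockIdem_mem_center B)) (toC r)).symm)
  have hBidem : eB * eB = eB := hinj (by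
    rw [map_mul, hCB]; exact Blocks.isIdempotentElem_blockIdem B)
  have hγidem : eγ * eγ = eγ := hinj (by
    rw [map_mul, hCγ, ← map_mul, Blocks.isIdempotentElem_blockIdem])
  have hfc : Blocks.ofFun (fun v : V => blockCoeff B (v : G)) ∈
      Subalgebra.center ℂ (MonoidAlgebra ℂ V) := by
    rw [Blocks.mem_center_iff_coeff]
    intro g k
    simp only [Blocks.coeff_ofFun, Subgroup.coe_mul, InvMemClass.coe_inv, Blocks.blockCoeff_conj]
  set ω := (∑ v : V, blockCoeff B (v : G) * (γ : V → ℂ) v) / (γ : V → ℂ) 1 with hω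
  -- the scalar is in the ideal
  have hωM : MemLocalIdeal M ω := by
    obtain ⟨B', hB', hγ'⟩ := D.exists_hits hM γ
    obtain ⟨χ', hχ'⟩ := Blocks.IsPBlock.nonempty hM hB'
    have hnB : χ' ∉ B := fun h => hγ (by
      rwa [Blocks.IsPBlock.eq_blockOf hM hB h, ← Blocks.IsPBlock.eq_blockOf hM hB' hχ'])
    have h1 : ∑ c : ConjClasses G, blockCoeff B c.out * centralChar (χ' : G → ℂ) c.out = 0 := by
      have h2 := Blocks.omega_eq_sum_classes χ' (Blocks.blockIdem_mem_center B)
      rw [Blocks.omega_blockIdem, if_neg hnB] at h2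
      simpa using h2.symm
    have h3 : ω =
        ∑ K : ConjClasses G, blockCoeff B K.out * inducedCentralChar C (D.irrC 0 γ : C → ℂ) K.out := by
      have key : ∀ K : ConjClasses G, inducedCentralChar C (D.irrC 0 γ : C → ℂ) K.out =
          ∑ c ∈ Finset.univ.filter (fun c : C => ConjClasses.mk (c : G) = K),
            (D.irrC 0 γ : C → ℂ) c / (D.irrC 0 γ : C → ℂ) 1 := by
        intro K
        unfold inducedCentralChar
        rw [finsum_mem_eq_sum_of_inter_support_eq _ (t := Finset.univ.filter
          (fun c : C => ConjClasses.mk (c : G) = K))]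
        ext c
        simp only [Set.mem_inter_iff, Set.mem_ofPred_eq, Finset.coe_filter, Finset.mem_univ,
          true_and, and_congr_left_iff]
        intro _
        conv_rhs => rw [show K = ConjClasses.mk K.out from (Quotient.out_eq K).symm]
        rw [ConjClasses.mk_eq_mk_iff_isConj]
        exact isConj_comm
      have hcl : ∀ (K : ConjClasses G) (g : G), ConjClasses.mk g = K →
          blockCoeff B K.out = blockCoeff B g := fun K g h =>
        Blocks.blockCoeff_of_isConj B (ConjClasses.mk_eq_mk_iff_isConj.1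
          ((Quotient.out_eq K).trans h.symm))
      simp only [key, Finset.mul_sum]
      rw [Finset.sum_congr rfl fun K _ => Finset.sum_congr rfl fun c hc => by
          rw [hcl K (c : G) (Finset.mem_filter.1 hc).2],
        Finset.sum_fiberwise Finset.univ (fun c : C => ConjClasses.mk (c : G))
          (fun c => blockCoeff B (c : G) * ((D.irrC 0 γ : C → ℂ) c / (D.irrC 0 γ : C → ℂ) 1)),
        D.sum_C, Finset.sum_eq_single (0 : ZMod p) ?_ (fun h => absurd (Finset.mem_univ _) h),
        hω, Finset.sum_div]
      · refine Finset.sum_congr rfl fun v _ => ?_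
        rw [D.equivC_coe, D.irrC_equivC, D.irrC_one, D.pw_zero, one_mul, zero_mul,
          AddChar.map_zero_eq_one, mul_one, mul_div_assoc]
      · intro i _ hi
        refine Finset.sum_eq_zero fun v _ => ?_
        rw [D.equivC_coe, Blocks.blockCoeff_eq_zero_of_singular hM hB ?_, zero_mul]
        rw [(D.commute_pw (D.V_le v.2) i).symm.orderOf_mul_eq_mul_orderOf_of_coprime
          (by rw [D.orderOf_pw hi]; exact hp.out.coprime_iff_not_dvd.2 (D.regular v.2)),
          D.orderOf_pw hi]
        exact dvd_mul_right _ _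
    rw [h3, ← sub_zero (∑ K : ConjClasses G, _), ← h1, ← Finset.sum_sub_distrib]
    refine Blocks.MemLocalIdeal.sum hM _ fun K _ => ?_
    rw [← mul_sub]
    exact Blocks.MemLocalIdeal.mul_left hM (Blocks.memLocalRing_blockCoeff hM hB _)
      (hγ'.2.2 _ ((D.mem_block_iff hM 0 γ γ).2 rfl) χ' hχ' _)
  have hωR : MemLocalRing M ω := by
    obtain ⟨a, b, -, hb, hab⟩ := hωM
    exact ⟨a, b, hb, hab⟩
  have hVγ : zV * eγ = (⟨ω, hO _ hωR⟩ : O) • eγ := by
    apply hinj
    rw [map_mul, hCV, hCγ, ← map_mul, ofFun_mul_blockIdem γ hfc, ← hω,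
      show ∀ z : MonoidAlgebra O G, toC ((⟨ω, hO _ hωR⟩ : O) • z) = ω • toC z from fun z => by
        ext g; simp [toC], hCγ]
    rw [hjV, hjV, Finset.smul_sum]
    exact Finset.sum_congr rfl fun v _ => by simp [mul_assoc, smul_smul]
  -- the vanishing on the modules
  let E : MonoidAlgebra O G := eB * eγ
  have hvan : ∀ (R : Type) [Field R] [CharP R p] (φ : O →+* R) (W : Type) [AddCommGroup W]
      [Module R W] (σ : Representation R G W), (σ x - 1) ^ (p - 1) = 0 →
        ∑ g, φ (E.coeff g) • σ g = 0 := by
    intro R _ _ φ W _ _ σ hσ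
    let Lσ : MonoidAlgebra R G →ₐ[R] Module.End R W :=
      MonoidAlgebra.lift R (Module.End R W) G σ
    letI : Module (MonoidAlgebra R G) W := Module.compHom W Lσ.toRingHom
    have hsmul : ∀ (r : MonoidAlgebra R G) (w : W), r • w = Lσ r w := fun _ _ => rfl
    haveI : IsScalarTower R (MonoidAlgebra R G) W := ⟨fun c r w => by
      rw [hsmul, hsmul, map_smul]; rfl⟩
    let π : MonoidAlgebra O G →+* MonoidAlgebra R G := MonoidAlgebra.mapRingHom G φ
    have hπsum : ∀ {ι : Type u} [Fintype ι] (c : ι → O) (h : ι → G),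
        π (∑ i, c i • of O G (h i)) = ∑ i, φ (c i) • of R G (h i) := by
      intro ι _ c h
      rw [map_sum]
      refine Finset.sum_congr rfl fun i _ => ?_
      ext g
      simp [π, MonoidAlgebra.of_apply, Finsupp.single_apply, apply_ite φ]
    have hX : ∀ w : W, (of R G x - 1) ^ (p - 1) • w = 0 := fun w => by
      rw [hsmul, map_pow, map_sub, map_one, MonoidAlgebra.lift_of, hσ]
      rfl
    have hfix : ∀ b : W, of R G x • b = b → π (eB * eγ) • b = 0 := by
      intro b hb
      have hγfix : of R G x • (π eγ • b) = π eγ • b := by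
        rw [show π eγ = _ from hπsum _ _, ← mul_smul, Finset.mul_sum, Finset.sum_smul,
          Finset.sum_smul]
        refine Finset.sum_congr rfl fun v _ => ?_
        rw [mul_smul_comm, smul_assoc, smul_assoc, ← map_mul,
          (D.mem_C_iff.1 (D.V_le v.2)).symm.eq, map_mul, mul_smul, hb]
      let σc : Equiv.Perm G := (MulAut.conj x).toEquiv
      have hσc : σc ^ p = 1 := by
        ext g
        have : ∀ i : ℕ, (σc ^ i) g = x ^ i * g * (x ^ i)⁻¹ := by
          intro i
          induction i with
          | zero => simp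
          | succ i ih =>
            rw [pow_succ', Equiv.Perm.mul_apply, ih]
            show x * (x ^ i * g * (x ^ i)⁻¹) * x⁻¹ = _
            rw [pow_succ', mul_inv_rev]
            simp only [mul_assoc]
        rw [this, ← D.hx, pow_orderOf_eq_one]
        simp
      obtain ⟨w, hw⟩ := Hit.sum_mem_range (W := W) (k := R) x σc hσc
        (fun g => φ ⟨_, hcB g⟩ • (of R G g • (π eγ • b))) (fun g => by
          show φ ⟨_, hcB (x * g * x⁻¹)⟩ • (of R G (x * g * x⁻¹) • (π eγ • b)) = _
          rw [smul_comm (of R G x)]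
          congr 1
          · exact congrArg φ (Subtype.ext (Blocks.blockCoeff_conj B g x))
          conv_lhs => rw [← hγfix]
          rw [← mul_smul, ← map_mul, inv_mul_cancel_right, map_mul, mul_smul])
        (Finset.univ.filter fun g : G => ¬ Commute x g)
        (fun g hg => by
          simp only [Finset.mem_filter, Finset.mem_univ, true_and] at hg ⊢
          intro h
          refine hg ?_
          have h' : x * (x * g * x⁻¹) = x * g * x⁻¹ * x := h
          rw [inv_mul_cancel_right] at h'
          exact mul_inv_eq_iff_eq_mul.1 (mul_left_cancel h'))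
        (fun g hg h => by
          simp only [Finset.mem_filter, Finset.mem_univ, true_and] at hg
          exact hg (mul_inv_eq_iff_eq_mul.1 h))
      rw [Hit.nsum_eq_pow, hX] at hw
      have hV : ∑ g ∈ Finset.univ.filter (fun g : G => Commute x g),
          φ ⟨_, hcB g⟩ • (of R G g • (π eγ • b)) = π zV • (π eγ • b) := by
        rw [show π zV = _ from hπsum _ _, Finset.sum_smul]
        rw [← Finset.sum_subset
          (s₁ := Finset.univ.map (⟨fun v : V => (v : G), Subtype.val_injective⟩))
          (s₂ := Finset.univ.filter (fun g : G => Commute x g)) ?_ ?_, Finset.sum_map]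
        · exact Finset.sum_congr rfl fun v _ => (smul_assoc _ _ _).symm
        · intro g hg
          obtain ⟨v, -, rfl⟩ := Finset.mem_map.1 hg
          exact Finset.mem_filter.2 ⟨Finset.mem_univ _, (D.mem_C_iff.1 (D.V_le v.2)).symm⟩
        · intro g hg hgV
          rw [show (⟨_, hcB g⟩ : O) = 0 from Subtype.ext
            (Blocks.blockCoeff_eq_zero_of_singular hM hB ?_), map_zero, zero_smul]
          by_contra hreg
          exact hgV (Finset.mem_map.2 ⟨⟨g, (D.hV g).2
            ⟨D.mem_C_iff.2 (Finset.mem_filter.1 hg).2.symm, hreg⟩⟩, Finset.mem_univ _, rfl⟩)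
      calc π (eB * eγ) • b = ∑ g : G, φ ⟨_, hcB g⟩ • (of R G g • (π eγ • b)) := by
            rw [map_mul, mul_smul, show π eB = _ from hπsum _ _, Finset.sum_smul]
            exact Finset.sum_congr rfl fun g _ => smul_assoc _ _ _
        _ = π zV • (π eγ • b) := by
            rw [← Finset.sum_filter_add_sum_filter_not Finset.univ (fun g : G => Commute x g),
              hV, ← hw, add_zero]
        _ = 0 := by
            rw [← mul_smul, ← map_mul, hVγ,
              show ∀ (c : O) z, π (c • z) = φ c • π z from fun c z => by ext g; simp [π],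
              map_eq_zero_of_memLocalIdeal hM O hO φ (z := ⟨ω, hO _ hωR⟩) hωM, zero_smul, zero_smul]
    have hEidem : π (eB * eγ) * π (eB * eγ) = π (eB * eγ) := by
      rw [← map_mul, (hcentral eγ).symm.mul_mul_mul_comm, hBidem, hγidem]
    have hEcomm : Commute (of R G x - 1) (π (eB * eγ)) := by
      refine Commute.sub_left ?_ (Commute.one_left _)
      rw [map_mul]
      refine Commute.mul_right ?_ ?_
      · have h1 : of R G x = π (of O G x) := by
          ext g; simp [π, MonoidAlgebra.of_apply, Finsupp.single_apply, apply_ite φ]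
        rw [h1]
        exact ((hcentral (of O G x)).symm).map π
      · rw [show π eγ = _ from hπsum _ _]
        refine Commute.sum_right _ _ _ fun v _ => Commute.smul_right ?_ _
        exact ((D.mem_C_iff.1 (D.V_le v.2)).symm).map (of R G)
    -- a fixed vector in the image
    have hzero : ∀ (j : ℕ) (w : W), (of R G x - 1) ^ j • (π (eB * eγ) • w) = 0 →
        π (eB * eγ) • w = 0 := by
      intro j
      induction j with
      | zero => intro w h; simpa using h
      | succ j ih =>
        intro w h
        refine ih w ?_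
        rw [← mul_smul, (hEcomm.pow_left j).eq, mul_smul]
        have hfx : of R G x • ((π (eB * eγ)) • ((of R G x - 1) ^ j • w)) =
            π (eB * eγ) • ((of R G x - 1) ^ j • w) := by
          rw [← sub_eq_zero]
          conv_lhs => rw [← one_smul (MonoidAlgebra R G) (π (eB * eγ) • ((of R G x - 1) ^ j • w)),
            ← mul_smul (of R G x), mul_one, ← sub_smul]
          rw [← h, pow_succ']
          simp only [← mul_smul]
          rw [mul_assoc ((of R G) x - 1), (hEcomm.pow_left j).eq]
        have h2 := hfix _ hfx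
        rwa [← mul_smul, hEidem] at h2
    have hL : Lσ (π E) = 0 :=
      LinearMap.ext fun w => hzero (p - 1) w (hX _)
    rw [← hL]
    conv_rhs => rw [Hit.eq_sum_of (π E), map_sum]
    refine Finset.sum_congr rfl fun g _ => ?_
    rw [map_smul, MonoidAlgebra.lift_of]
    simp [π]
  -- the trace on the square modulus
  obtain ⟨c₀, n, ρ, hρ, rfl⟩ := ψ
  have hn : charDegree (ρ.character : G → ℂ) = n := by
    refine CfsgLib.LinearTwist.charDegree_eq_of_apply_one ?_
    rw [Representation.char_one, Module.finrank_fin_fun]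
  have hE : Blocks.ofFun (fun g => E.coeff g) = E := by ext h; simp
  have h0 := SmallTensor.sum_eq_zero_of_small O hpO ρ (d := n) (by rw [← hn]; exact hψ)
    (u := x) (by rw [← D.hx, pow_orderOf_eq_one]) (fun g => E.coeff g)
    (by
      rw [hE, IsIdempotentElem]
      show eB * eγ * (eB * eγ) = eB * eγ
      rw [(hcentral eγ).symm.mul_mul_mul_comm, hBidem, hγidem])
    hvan
  set X : G → ℂ := fun g => ρ.character g * conj (ρ.character g)
  have hXc : IsCharacter G X :=
    isCharacter_mul ⟨n, ρ, rfl⟩ (isCharacter_conj ⟨n, ρ, rfl⟩)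
  choose m hm using fun η : IrrCharacter G => classInner_char_nat hXc (irr_isCharacter η)
  have hXexp : ∀ g, X g = ∑ η : IrrCharacter G, (m η : ℂ) * (η : G → ℂ) g := by
    intro g
    conv_lhs => rw [classFunction_eq_sum (isClassFunction_of_isCharacter hXc)]
    simp [hm]
  have hEC : ∀ g, ((E.coeff g : O) : ℂ) = (Blocks.blockIdem B *
      MonoidAlgebra.mapDomainRingHom ℂ V.subtype (Blocks.blockIdem {γ})).coeff g := by
    intro g
    rw [← hCB, ← hCγ, ← map_mul]
    simp [toC, E, -map_mul]
  have hval : ∀ η : IrrCharacter G, ∑ g : G, ((E.coeff g : O) : ℂ) * (η : G → ℂ) g =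
      if η ∈ B then (γ : V → ℂ) 1 * ∑ i : ZMod p, (D.mult η i γ : ℂ) else 0 := by
    intro η
    have h := Blocks.omega_mul η (Blocks.blockIdem_mem_center B)
      (MonoidAlgebra.mapDomainRingHom ℂ V.subtype (Blocks.blockIdem {γ}))
    rw [Blocks.omega_blockIdem, Blocks.omega_apply] at h
    simp only [← hEC] at h
    rw [div_eq_iff (irr_one_ne_zero η)] at h
    rw [h]
    split_ifs with hη
    · rw [one_mul, hjV, map_sum, Finset.sum_mul]
      have hc0 := D.coef_eq η 0 γ
      simp only [zero_mul, AddChar.map_zero_eq_one, mul_one] at hc0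
      rw [← hc0]
      simp only [Data.coef, D.pw_zero, one_mul, Finset.mul_sum]
      refine Finset.sum_congr rfl fun v _ => ?_
      rw [map_smul, MonoidAlgebra.of_apply, Blocks.omega_single, smul_eq_mul, one_mul,
        mul_assoc, div_mul_cancel₀ _ (irr_one_ne_zero η), Blocks.coeff_blockIdem,
        Blocks.blockCoeff_eq_sum]
      simp only [Set.mem_singleton_iff, Finset.filter_eq', Finset.mem_univ, if_true,
        Finset.sum_singleton]
      ring
    · rw [zero_mul, zero_mul]
  choose dd hdd hdd0 _hdvd using fun η : IrrCharacter V => irr_degree_dvd_card η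
  have hsum : ∑ η ∈ Finset.univ.filter (fun η : IrrCharacter G => η ∈ B),
      m η * (dd γ * ∑ i : ZMod p, D.mult η i γ) = 0 := by
    have h : ∑ η : IrrCharacter G, (m η : ℂ) *
        (if η ∈ B then (γ : V → ℂ) 1 * ∑ i : ZMod p, (D.mult η i γ : ℂ) else 0) = 0 := by
      refine Eq.trans ?_ h0
      simp only [← hval]
      simp only [Finset.mul_sum]
      rw [Finset.sum_comm]
      refine Finset.sum_congr rfl fun g _ => ?_
      rw [show ρ.character g * conj (ρ.character g) = X g from rfl, hXexp g, Finset.mul_sum]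
      exact Finset.sum_congr rfl fun η _ => by ring
    simp only [hdd, mul_ite, mul_zero, ← Finset.sum_filter] at h
    exact_mod_cast h
  have h1 := Finset.sum_eq_zero_iff.1 hsum ξ (Finset.mem_filter.2 ⟨Finset.mem_univ _, hξB⟩)
  rcases Nat.mul_eq_zero.1 h1 with h2 | h2
  · refine absurd ?_ hξ
    show classInner X (ξ : G → ℂ) = 0
    rw [hm, h2, Nat.cast_zero]
  rcases Nat.mul_eq_zero.1 h2 with h3 | h3
  · exact absurd h3 (hdd0 γ).ne'
  exact Finset.sum_eq_zero_iff.1 h3 a (Finset.mem_univ a)

end Data

end CfsgLib.PrimeDefect
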