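import Cfsg.Agent.Lib.PrimeDefect.Setup
import Cfsg.Agent.Lib.Blocks.BlockParts
import Cfsg.Agent.Lib.BlockCover.CentralizedDefect
import Cfsg.Agent.Lib.CharCorr.Basic

/-!
# Sylow subgroups of prime order: blocks and orbits on the characters of `V`
-/

set_option autoImplicit false
set_option linter.unusedSectionVars false
set_option linter.style.haveILetI false

noncomputable section

namespace CfsgLib.PrimeDefect

open Cfsg CfsgLib.Characters CfsgLib.SelfCentralPrime
open scoped ComplexConjugate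

universe u

variable {G : Type u} [Group G] {p : ℕ} [hp : Fact p.Prime] {x : G} {C V : Subgroup G}

/-- The normaliser of the subgroup generated by `x`. -/
def nrm (x : G) : Subgroup G := Subgroup.normalizer ((Subgroup.zpowers x : Subgroup G) : Set G)

variable (D : Data p x C V)

include D

namespace Data

/-- The data of another generator. -/
theorem pow {i : ZMod p} (hi : i ≠ 0) : Data p (pw x i) C V := by
  refine ⟨D.orderOf_pw hi, D.hsq, ?_, D.hV⟩
  ext g
  rw [Subgroup.mem_centralizer_singleton_iff, D.mem_C_iff]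
  refine ⟨fun h => ?_, fun h => h.pow_right _⟩
  have h2 := (show Commute g (pw x i) from h).pow_right (i⁻¹ : ZMod p).val
  rwa [pw_pow_val D.hx, mul_inv_cancel₀ hi, pw_one] at h2

theorem exists_mu {g : G} (hg : g ∈ nrm x) :
    ∃ u : (ZMod p)ˣ, g * x * g⁻¹ = pw x (u : ZMod p) := by
  have h := (Subgroup.mem_normalizer_iff.1 hg x).1 (Subgroup.mem_zpowers x)
  have hfin : IsOfFinOrder x := orderOf_pos_iff.1 (by rw [D.hx]; exact hp.out.pos)
  rw [← hfin.mem_powers_iff_mem_zpowers, Submonoid.mem_powers_iff] at h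
  obtain ⟨n, hn⟩ := h
  rw [pow_eq_pw D.hx] at hn
  have hn0 : (n : ZMod p) ≠ 0 := fun h0 => by
    rw [h0, D.pw_zero, eq_comm, conj_eq_one_iff] at hn
    have := D.hx
    rw [hn, orderOf_one] at this
    exact hp.out.ne_one this.symm
  exact ⟨Units.mk0 _ hn0, by rw [Units.val_mk0]; exact hn.symm⟩

/-- The exponent by which a normalising element acts. -/
def mu (g : nrm x) : (ZMod p)ˣ := (D.exists_mu g.2).choose

theorem mu_spec (g : nrm x) : (g : G) * x * (g : G)⁻¹ = pw x (D.mu g : ZMod p) :=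
  (D.exists_mu g.2).choose_spec

theorem conj_pw (g : nrm x) (i : ZMod p) :
    (g : G) * pw x i * (g : G)⁻¹ = pw x ((D.mu g : ZMod p) * i) := by
  rw [pw, ← conj_pow, D.mu_spec, pw_pow_val D.hx]

theorem mu_mul (g h : nrm x) : D.mu (g * h) = D.mu g * D.mu h := by
  refine Units.ext (D.pw_inj ?_)
  rw [Units.val_mul, ← D.mu_spec, ← D.conj_pw g, ← D.mu_spec, Subgroup.coe_mul]
  group

/-- The exponents as a homomorphism. -/
def muHom : nrm x →* (ZMod p)ˣ := MonoidHom.mk' D.mu D.mu_mul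

theorem mu_eq_one_iff (g : nrm x) : D.mu g = 1 ↔ (g : G) ∈ C := by
  rw [D.mem_C_iff, show Commute (g : G) x ↔ (g : G) * x * (g : G)⁻¹ = x from mul_inv_eq_iff_eq_mul.symm,
    D.mu_spec]
  constructor
  · intro h; rw [h, Units.val_one, pw_one]
  · intro h
    refine Units.ext (D.pw_inj ?_)
    rw [h, Units.val_one, pw_one]

theorem C_le : C ≤ nrm x := by
  intro g hg
  rw [nrm, Subgroup.mem_normalizer_iff]
  intro h
  have hgx := D.mem_C_iff.1 hg
  constructor
  · intro hh
    obtain ⟨n, rfl⟩ := Subgroup.mem_zpowers_iff.1 hh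
    rw [(hgx.zpow_right n).eq, mul_inv_cancel_right]
    exact ⟨n, rfl⟩
  · intro hh
    obtain ⟨n, hn⟩ := Subgroup.mem_zpowers_iff.1 hh
    refine ⟨n, ?_⟩
    show x ^ n = h
    have h1 : g⁻¹ * x ^ n * g = h := by rw [hn]; group
    rw [← h1, mul_assoc, ← (hgx.zpow_right n).eq, inv_mul_cancel_left]

theorem conj_C (g : nrm x) {c : G} (hc : c ∈ C) : (g : G) * c * (g : G)⁻¹ ∈ C := by
  have h := D.commute_pw hc ((D.mu g⁻¹ : ZMod p))
  rw [← D.mu_spec] at h
  rw [D.mem_C_iff]
  have h2 := h.map (MulAut.conj (g : G)).toMonoidHom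
  simpa [MulAut.conj_apply, mul_assoc] using h2

theorem conj_V (g : nrm x) {v : G} (hv : v ∈ V) : (g : G) * v * (g : G)⁻¹ ∈ V :=
  (D.hV _).2 ⟨D.conj_C g (D.V_le hv), fun h => D.regular hv (h.trans (dvd_of_eq
    (orderOf_injective (MulAut.conj (g : G)).toMonoidHom (MulAut.conj (g : G)).injective v)))⟩

/-- Conjugation on `V`. -/
def cjV (g : nrm x) : V →* V where
  toFun v := ⟨(g : G) * v * (g : G)⁻¹, D.conj_V g v.2⟩
  map_one' := Subtype.ext (by simp)
  map_mul' a b := Subtype.ext (by simp [mul_assoc])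

theorem cjV_coe (g : nrm x) (v : V) : ((D.cjV g v : V) : G) = (g : G) * v * (g : G)⁻¹ := rfl

theorem cjV_mul (g h : nrm x) (v : V) : D.cjV (g * h) v = D.cjV g (D.cjV h v) :=
  Subtype.ext (by simp [cjV_coe, mul_assoc])

theorem cjV_one (v : V) : D.cjV 1 v = v := Subtype.ext (by simp [cjV_coe])

theorem cjV_bijective (g : nrm x) : Function.Bijective (D.cjV g) :=
  Function.bijective_iff_has_inverse.2 ⟨D.cjV g⁻¹,
    fun v => by rw [← D.cjV_mul, inv_mul_cancel, D.cjV_one],
    fun v => by rw [← D.cjV_mul, mul_inv_cancel, D.cjV_one]⟩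

/-- The conjugate of a character of `V`. -/
def cj (g : nrm x) (β : IrrCharacter V) : IrrCharacter V :=
  ⟨fun v => (β : V → ℂ) (D.cjV g v),
    Clifford.isIrrCharacter_pullback β.2 (D.cjV g) (D.cjV_bijective g).2⟩

theorem cj_apply (g : nrm x) (β : IrrCharacter V) (v : V) :
    (D.cj g β : V → ℂ) v = (β : V → ℂ) (D.cjV g v) := rfl

theorem cj_one_apply (g : nrm x) (β : IrrCharacter V) :
    (D.cj g β : V → ℂ) 1 = (β : V → ℂ) 1 := by
  rw [cj_apply, map_one]

theorem cj_one (β : IrrCharacter V) : D.cj 1 β = β :=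
  Subtype.ext (funext fun v => by rw [cj_apply, D.cjV_one])

theorem cj_mul (g h : nrm x) (β : IrrCharacter V) : D.cj h (D.cj g β) = D.cj (g * h) β :=
  Subtype.ext (funext fun v => by rw [cj_apply, cj_apply, cj_apply, D.cjV_mul])

theorem cj_injective (g : nrm x) : Function.Injective (D.cj g) := fun β γ h => by
  have h' := congrArg (D.cj g⁻¹) h
  rwa [D.cj_mul, D.cj_mul, mul_inv_cancel, D.cj_one, D.cj_one] at h'

theorem cj_of_mem (g : nrm x) (hg : (g : G) ∈ V) (β : IrrCharacter V) : D.cj g β = β :=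
  Subtype.ext (funext fun v => by
    rw [cj_apply]
    exact (classFunction_eq_of_isConj (irr_isClassFunction β)
      (isConj_iff.2 ⟨⟨g, hg⟩, Subtype.ext (by simp [cjV_coe])⟩)).symm)

variable [Finite G]

theorem cj_of_mem_C (g : nrm x) (hg : (g : G) ∈ C) (β : IrrCharacter V) : D.cj g β = β :=
  Subtype.ext (funext fun v => by
    rw [cj_apply]
    have hpart := D.part_spec ⟨g, hg⟩
    refine (classFunction_eq_of_isConj (irr_isClassFunction β)
      (isConj_iff.2 ⟨D.part ⟨g, hg⟩, Subtype.ext ?_⟩)).symm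
    rw [D.cjV_coe]
    simp only at hpart
    conv_rhs => rw [hpart]
    rw [Subgroup.coe_mul, Subgroup.coe_mul, InvMemClass.coe_inv]
    have hc := D.commute_pw (D.V_le (mul_mem (mul_mem (D.part ⟨g, hg⟩).2 v.2)
      (V.inv_mem (D.part ⟨g, hg⟩).2))) (D.idx ⟨g, hg⟩)
    generalize (D.part ⟨g, hg⟩ : G) = w at hc ⊢
    generalize pw x (D.idx ⟨g, hg⟩) = z at hc ⊢
    calc w * v * w⁻¹ = z * (w * v * w⁻¹) * z⁻¹ := by rw [← hc.eq, mul_inv_cancel_right]
      _ = z * w * v * (z * w)⁻¹ := by group)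

/-- Elements of `C` of order divisible by `p` are fused by the normaliser. -/
theorem mem_nrm_of_conj {i : ZMod p} (hi : i ≠ 0) {v g : G} (hv : v ∈ V)
    (hg : g * (pw x i * v) * g⁻¹ ∈ C) : g ∈ nrm x := by
  obtain ⟨j, hj⟩ := D.exists_decomp hg
  set c' := g * (pw x i * v) * g⁻¹
  have h1 : IsPPart p c' (g * pw x i * g⁻¹) := by
    refine ⟨g * v * g⁻¹, by simp only [c']; group, ?_, ⟨1, ?_⟩, ?_⟩
    · exact ((D.commute_pw (D.V_le hv) i).symm).map (MulAut.conj g).toMonoidHom
    · rw [pow_one]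
      exact (orderOf_injective (MulAut.conj g).toMonoidHom (MulAut.conj g).injective _).trans
        (D.orderOf_pw hi)
    · exact fun h => D.regular hv (h.trans (dvd_of_eq
        (orderOf_injective (MulAut.conj g).toMonoidHom (MulAut.conj g).injective v)))
  have hj0 : j ≠ 0 := by
    rintro rfl
    rw [D.pw_zero, inv_one, one_mul] at hj
    have h2 : IsPPart p c' 1 :=
      ⟨c', one_mul _, Commute.one_left _, ⟨0, by simp⟩, D.regular hj⟩
    have h3 := Blocks.IsPPart.unique hp.out h1 h2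
    rw [conj_eq_one_iff, pw_eq_one_iff D.hx] at h3
    exact hi h3
  have h2 : IsPPart p c' (pw x j) :=
    ⟨_, mul_inv_cancel_left _ _, (D.commute_pw (D.V_le hj) j).symm,
      ⟨1, by rw [pow_one]; exact D.orderOf_pw hj0⟩, D.regular hj⟩
  have h3 := Blocks.IsPPart.unique hp.out h1 h2
  -- `g` maps `⟨x⟩` to itself
  have h4 : g * x * g⁻¹ = pw x (j * i⁻¹) := by
    have h5 := congrArg (· ^ (i⁻¹ : ZMod p).val) h3
    simp only [conj_pow, pw_pow_val D.hx] at h5
    rwa [mul_inv_cancel₀ hi, pw_one] at h5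
  rw [nrm]
  refine Subgroup.mem_normalizer_fintype fun h hh => ?_
  obtain ⟨n, rfl⟩ := Subgroup.mem_zpowers_iff.1 hh
  rw [← conj_zpow, h4]
  exact Subgroup.zpow_mem _ (Subgroup.npow_mem_zpowers x _) n

/-- Elements of `V` conjugate in `G` are conjugate by the normaliser. -/
theorem exists_nrm_conj {v w : V} (h : IsConj (v : G) w) :
    ∃ n : nrm x, D.cjV n v = w := by
  obtain ⟨g, hg⟩ := isConj_iff.1 h
  set K := Subgroup.centralizer ({(w : G)} : Set G)
  have hxK : x ∈ K := Subgroup.mem_centralizer_singleton_iff.2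
    (D.mem_C_iff.1 (D.V_le w.2)).symm
  have hyK : g * x * g⁻¹ ∈ K := Subgroup.mem_centralizer_singleton_iff.2 (by
    rw [← hg]
    exact ((D.mem_C_iff.1 (D.V_le v.2)).symm).map (MulAut.conj g).toMonoidHom)
  have hpg : ∀ (z : K), orderOf (z : G) = p → ∃ P : Sylow p K,
      (P : Subgroup K) = Subgroup.zpowers z := by
    intro z hz
    rw [Subgroup.orderOf_coe] at hz
    obtain ⟨P, hP⟩ := (IsPGroup.of_card (n := 1) (by rw [Nat.card_zpowers, hz, pow_one]) :
      IsPGroup p (Subgroup.zpowers z)).exists_le_sylow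
    refine ⟨P, (Subgroup.eq_of_le_of_card_ge hP ?_).symm⟩
    obtain ⟨k, hk⟩ := IsPGroup.iff_card.1 P.isPGroup'
    have hk1 : k ≤ 1 := by
      by_contra hlt
      exact D.hsq ((pow_dvd_pow p (by omega : 2 ≤ k)).trans
        (hk ▸ (Subgroup.card_subgroup_dvd_card _).trans (Subgroup.card_subgroup_dvd_card K)))
    rw [hk, Nat.card_zpowers, hz]
    exact le_trans (Nat.pow_le_pow_right hp.out.pos hk1) (pow_one p).le
  obtain ⟨P, hP⟩ := hpg ⟨x, hxK⟩ D.hx
  obtain ⟨Q, hQ⟩ := hpg ⟨g * x * g⁻¹, hyK⟩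
    ((orderOf_injective (MulAut.conj g).toMonoidHom (MulAut.conj g).injective x).trans D.hx)
  obtain ⟨k, hk⟩ := MulAction.exists_smul_eq K Q P
  have hmem : k * ⟨g * x * g⁻¹, hyK⟩ * k⁻¹ ∈ (P : Subgroup K) := by
    rw [← hk]
    exact Subgroup.smul_mem_pointwise_smul _ (MulAut.conj k) _
      (by rw [hQ]; exact Subgroup.mem_zpowers _)
  rw [hP] at hmem
  obtain ⟨n, hn⟩ := Subgroup.mem_zpowers_iff.1 hmem
  have hn' : x ^ n = ((k : G) * g) * x * ((k : G) * g)⁻¹ := by
    have := congrArg Subtype.val hn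
    simp only [SubgroupClass.coe_zpow, Subgroup.coe_mul, InvMemClass.coe_inv] at this
    rw [this]; group
  have hmemN : (k : G) * g ∈ nrm x := by
    rw [nrm]
    refine Subgroup.mem_normalizer_fintype fun a ha => ?_
    obtain ⟨m, rfl⟩ := Subgroup.mem_zpowers_iff.1 ha
    rw [← conj_zpow, ← hn', ← zpow_mul]
    exact ⟨_, rfl⟩
  refine ⟨⟨_, hmemN⟩, Subtype.ext ?_⟩
  rw [D.cjV_coe]
  have hkw := Subgroup.mem_centralizer_singleton_iff.1 k.2
  calc (k : G) * g * v * ((k : G) * g)⁻¹ = (k : G) * (g * v * g⁻¹) * (k : G)⁻¹ := by group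
    _ = w := by rw [hg, hkw, mul_inv_cancel_right]

/-! ### Blocks -/

variable [Fintype G] [Fintype C] [Fintype V] {M : Ideal AlgInt}

/-- The block `B` has the character `β` of `V` in its local orbit. -/
def Hits (M : Ideal AlgInt) (B : Set (IrrCharacter G)) (β : IrrCharacter V) : Prop :=
  IsInducedBlock M C (blockOf M (D.irrC 0 β : C → ℂ)) B

theorem sameBlock_irrC (hM : IsPModular p M) (a : ZMod p) (β : IrrCharacter V) :
    SameBlock M (D.irrC 0 β : C → ℂ) (D.irrC a β : C → ℂ) := by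
  intro c
  unfold centralChar
  rw [D.irrC_one, D.irrC_one, D.irrC_apply, D.irrC_apply, mul_zero, AddChar.map_zero_eq_one,
    mul_one]
  have h1 : MemLocalRing M (((Subgroup.centralizer ({c} : Set C)).index : ℂ) *
      (β : V → ℂ) (D.part c) / (β : V → ℂ) 1) := by
    have h := Blocks.centralChar_mem_lRing hM (D.irrC 0 β) c
    rw [centralChar, D.irrC_one, D.irrC_apply, mul_zero, AddChar.map_zero_eq_one, mul_one] at h
    exact h
  have h2 : MemLocalIdeal M (ZMod.stdAddChar (D.idx c * a) - 1) := by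
    refine CentralDefect.root_sub_one_mem (p := p) hM (k := 1) ?_
    rw [pow_one, ← AddChar.map_nsmul_eq_pow, nsmul_eq_mul, ZMod.natCast_self, zero_mul,
      AddChar.map_zero_eq_one]
  convert Blocks.MemLocalIdeal.neg hM (Blocks.MemLocalIdeal.mul_left hM h1 h2) using 1
  ring

/-- The idempotent coefficients of a set of characters of `V`. -/
def aV (O : Finset (IrrCharacter V)) (v : V) : ℂ :=
  (Nat.card V : ℂ)⁻¹ * ∑ β ∈ O, (β : V → ℂ) 1 * conj ((β : V → ℂ) v)

omit D in
theorem sum_aV (O : Finset (IrrCharacter V)) (γ : IrrCharacter V) [DecidableEq (IrrCharacter V)] :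
    ∑ v : V, aV O v * (γ : V → ℂ) v / (γ : V → ℂ) 1 = if γ ∈ O then 1 else 0 := by
  classical
  have h : ∀ β : IrrCharacter V,
      (Nat.card V : ℂ)⁻¹ * ∑ v : V, (γ : V → ℂ) v * conj ((β : V → ℂ) v) =
        if γ = β then 1 else 0 := fun β => classInner_irr γ β
  calc ∑ v : V, aV O v * (γ : V → ℂ) v / (γ : V → ℂ) 1
      = ∑ β ∈ O, (β : V → ℂ) 1 / (γ : V → ℂ) 1 *
          ((Nat.card V : ℂ)⁻¹ * ∑ v : V, (γ : V → ℂ) v * conj ((β : V → ℂ) v)) := by
        simp only [aV, Finset.mul_sum, Finset.sum_mul, Finset.sum_div]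
        rw [Finset.sum_comm]
        exact Finset.sum_congr rfl fun β _ => Finset.sum_congr rfl fun v _ => by ring
    _ = _ := by
        simp only [h, mul_ite, mul_one, mul_zero, Finset.sum_ite_eq]
        split_ifs
        · rw [div_self (irr_one_ne_zero γ)]
        · rfl

theorem aV_mem (hM : IsPModular p M) (O : Finset (IrrCharacter V)) (v : V) :
    MemLocalRing M (aV O v) :=
  (Blocks.lRing hM).mul_mem (Blocks.inv_natCast_mem_lRing hM D.not_dvd_card_V)
    ((Blocks.lRing hM).sum_mem fun β _ => Blocks.isIntegral_mem_lRing hM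
      ((CharCorr.irr_isIntegral β 1).mul (isIntegral_conj (CharCorr.irr_isIntegral β v))))

theorem eq_of_sameBlock (hM : IsPModular p M) {a : ZMod p} {β γ : IrrCharacter V}
    (h : SameBlock M (D.irrC 0 β : C → ℂ) (D.irrC a γ : C → ℂ)) : γ = β := by
  classical
  by_contra hne
  set z : MonoidAlgebra ℂ C :=
    Blocks.ofFun fun c : C => if D.idx c = 0 then aV {β} (D.part c) else 0
  have hz : z ∈ Subalgebra.center ℂ (MonoidAlgebra ℂ C) := by
    rw [Blocks.mem_center_iff_coeff]
    intro g k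
    simp only [z, Blocks.coeff_ofFun]
    have e1 : D.idx (k * g * k⁻¹) = D.idx g := by
      have h := D.idx_mul (k * g * k⁻¹) k
      rw [inv_mul_cancel_right, D.idx_mul, add_comm] at h
      exact (add_right_cancel h).symm
    have e2 : D.part (k * g * k⁻¹) = D.part k * D.part g * (D.part k)⁻¹ := by
      show D.partHom _ = _
      rw [map_mul, map_mul, map_inv]
      rfl
    rw [e1, e2]
    simp only [aV, irr_isClassFunction _ (D.part g) (D.part k)]
  have hR : ∀ c, MemLocalRing M (z.coeff c) := by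
    intro c
    simp only [z, Blocks.coeff_ofFun]
    split_ifs
    · exact D.aV_mem hM _ _
    · exact (Blocks.lRing hM).zero_mem
  have hom : ∀ (b : ZMod p) (δ : IrrCharacter V),
      Blocks.omega (D.irrC b δ : C → ℂ) z = if δ ∈ ({β} : Finset _) then 1 else 0 := by
    intro b δ
    simp only [z, Blocks.omega_ofFun]
    rw [D.irrC_one, D.sum_C, Finset.sum_eq_single (0 : ZMod p) (fun i _ hi => by
        refine Finset.sum_eq_zero fun v _ => ?_
        rw [D.idx_equivC, if_neg hi, zero_mul]) (fun h => absurd (Finset.mem_univ _) h),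
      ← sum_aV {β} δ, Finset.sum_div]
    refine Finset.sum_congr rfl fun v _ => ?_
    rw [D.idx_equivC, D.part_equivC, if_pos rfl, D.irrC_equivC, zero_mul, AddChar.map_zero_eq_one,
      mul_one]
  have h1 := Blocks.omega_congr_of_sameBlock hM h hz hR
  rw [hom, hom, if_pos (Finset.mem_singleton_self β), if_neg (by simpa using hne), sub_zero] at h1
  exact Blocks.not_memLocalIdeal_one hM h1

theorem mem_block_iff (hM : IsPModular p M) (a : ZMod p) (β γ : IrrCharacter V) :
    D.irrC a γ ∈ blockOf M (D.irrC 0 β : C → ℂ) ↔ γ = β := by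
  refine ⟨D.eq_of_sameBlock hM, ?_⟩
  rintro rfl
  exact D.sameBlock_irrC hM a _

theorem exists_hits (hM : IsPModular p M) (β : IrrCharacter V) :
    ∃ B : Set (IrrCharacter G), IsPBlock M B ∧ D.Hits M B β := by
  obtain rfl := D.hC
  obtain ⟨B, hB⟩ := Blocks.inducedBlockDefined_centralizer hM ⟨1, by rw [pow_one, D.hx]⟩
    (Blocks.isPBlock_blockOf (M := M) (D.irrC 0 β))
  exact ⟨B, hB.2.1, hB⟩

theorem hits_unique (hM : IsPModular p M) {B B' : Set (IrrCharacter G)} {β : IrrCharacter V}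
    (h : D.Hits M B β) (h' : D.Hits M B' β) : B = B' :=
  Blocks.IsInducedBlock.unique hM h h'

theorem coef_eq_zero_aux (hM : IsPModular p M) {i : ZMod p} (hi : i ≠ 0) (χ : IrrCharacter G)
    (β : IrrCharacter V) (h : ¬ D.Hits M (blockOf M (χ : G → ℂ)) β) :
    D.coef χ i β = 0 := by
  classical
  have D' := D.pow hi
  obtain rfl := D'.hC
  have h0 := Blocks.blockPart_sectionFun_eq_zero hM (x := pw x i)
    ⟨1, by rw [pow_one]; exact D.orderOf_pw hi⟩
    (Blocks.isPBlock_blockOf (M := M) (D.irrC 0 β)) (χ := χ) h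
    (y := 1) (by rw [orderOf_one]; exact hp.out.not_dvd_one)
  rw [Blocks.blockPart_eq_sum, Finset.sum_filter,
    ← Fintype.sum_equiv (Equiv.ofBijective _ D.irrC_bijective) _ _ fun _ => rfl,
    Fintype.sum_prod_type, Finset.sum_comm] at h0
  simp only [Equiv.ofBijective_apply, D.mem_block_iff hM, D.irrC_one] at h0
  rw [Finset.sum_eq_single β (fun γ _ hγ => Finset.sum_eq_zero fun a _ => if_neg hγ)
    (fun hβ => absurd (Finset.mem_univ β) hβ)] at h0
  simp only [if_true, ← Finset.sum_mul, mul_eq_zero, irr_one_ne_zero β, or_false] at h0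
  have hinner : ∀ a : ZMod p,
      classInner (Blocks.sectionFun (pw x i) (χ : G → ℂ)) (D.irrC a β : _ → ℂ) =
        (p : ℂ)⁻¹ * ∑ j : ZMod p, D.coef χ (i + j) β * ZMod.stdAddChar (j * -a) := by
    intro a
    unfold classInner
    rw [D.sum_C, D.card_C]
    push_cast
    rw [mul_inv, mul_assoc, Finset.mul_sum]
    congr 1
    refine Finset.sum_congr rfl fun j _ => ?_
    show _ = (Nat.card V : ℂ)⁻¹ * _ * _
    rw [mul_assoc, Finset.sum_mul]
    congr 1
    refine Finset.sum_congr rfl fun v _ => ?_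
    rw [D.irrC_equivC, map_mul, conj_std, mul_neg, Blocks.sectionFun, D.equivC_coe]
    dsimp only
    rw [← mul_assoc (pw x i) (pw x j) (v : G), ← D.pw_add]
    ring
  simp only [hinner, ← Finset.mul_sum] at h0
  rw [Finset.sum_comm] at h0
  simp only [← Finset.mul_sum] at h0
  have e : ∀ j : ZMod p, ∑ a : ZMod p, ZMod.stdAddChar (j * -a) = if j = 0 then (p : ℂ) else 0 := by
    intro j
    rw [← sum_std (p := p) j, ← Equiv.sum_comp (Equiv.neg (ZMod p))]
    exact Finset.sum_congr rfl fun a _ => by simp [mul_comm]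
  simp only [e, mul_ite, mul_zero, Finset.sum_ite_eq', Finset.mem_univ, if_true, add_zero] at h0
  rw [mul_comm, mul_assoc, mul_inv_cancel₀ (Nat.cast_ne_zero.2 hp.out.ne_zero), mul_one] at h0
  exact h0

theorem coef_eq_zero (hM : IsPModular p M) {B : Set (IrrCharacter G)} (hB : IsPBlock M B)
    {χ : IrrCharacter G} (hχ : χ ∈ B) {i : ZMod p} (hi : i ≠ 0) {β : IrrCharacter V}
    (h : ¬ D.Hits M B β) : D.coef χ i β = 0 :=
  D.coef_eq_zero_aux hM hi χ β (by rwa [← Blocks.IsPBlock.eq_blockOf hM hB hχ])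

theorem icc_irrC_cj (n : nrm x) (a : ZMod p) (β : IrrCharacter V) (g : G) :
    inducedCentralChar C (D.irrC a (D.cj n β) : C → ℂ) g =
      inducedCentralChar C (D.irrC (((D.mu n)⁻¹ : (ZMod p)ˣ) * a) β : C → ℂ) g := by
  classical
  unfold inducedCentralChar
  have key : ∀ F : C → ℂ, ∑ᶠ h ∈ {h : C | IsConj g (h : G)}, F h =
      ∑ h ∈ Finset.univ.filter (fun h : C => IsConj g (h : G)), F h := fun F => by
    rw [finsum_mem_eq_sum_of_inter_support_eq]
    simp
  rw [key, key]
  have hbij : ∀ c : C, (n : G) * c * (n : G)⁻¹ ∈ C := fun c => D.conj_C n c.2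
  refine Finset.sum_bij (fun c _ => (⟨_, hbij c⟩ : C)) (fun c hc => ?_) (fun a _ b _ h => ?_)
    (fun c hc => ?_) (fun c _ => ?_)
  · rw [Finset.mem_filter] at hc ⊢
    exact ⟨Finset.mem_univ _, hc.2.trans (isConj_iff.2 ⟨n, rfl⟩)⟩
  · exact Subtype.ext (mul_left_cancel (mul_right_cancel (congrArg Subtype.val h)))
  · rw [Finset.mem_filter] at hc
    have hm : (n : G)⁻¹ * c * (n : G) ∈ C := by simpa using D.conj_C n⁻¹ c.2
    refine ⟨⟨_, hm⟩, Finset.mem_filter.2 ⟨Finset.mem_univ _,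
      hc.2.trans (isConj_iff.2 ⟨(n : G)⁻¹, by simp⟩)⟩, Subtype.ext ?_⟩
    show (n : G) * ((n : G)⁻¹ * c * n) * (n : G)⁻¹ = c
    group
  · have hd : (⟨_, hbij c⟩ : C) =
        D.equivC ((D.mu n : ZMod p) * D.idx c, D.cjV n (D.part c)) := by
      refine Subtype.ext ?_
      rw [D.equivC_coe, D.cjV_coe, ← D.conj_pw]
      show (n : G) * c * (n : G)⁻¹ = _
      conv_lhs => rw [D.part_spec c]
      group
    rw [hd, D.irrC_equivC, D.irrC_one, D.irrC_one, D.cj_one_apply, D.irrC_apply, D.cj_apply]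
    congr 3
    rw [mul_comm (D.mu n : ZMod p), mul_assoc, ← mul_assoc (D.mu n : ZMod p), ← Units.val_mul,
      mul_inv_cancel, Units.val_one, one_mul]

theorem hits_cj (hM : IsPModular p M) {B : Set (IrrCharacter G)} {β : IrrCharacter V}
    (h : D.Hits M B β) (n : nrm x) : D.Hits M B (D.cj n β) := by
  refine ⟨Blocks.isPBlock_blockOf _, h.2.1, fun ξ hξ χ hχ g => ?_⟩
  obtain ⟨⟨a, γ⟩, rfl⟩ := D.irrC_bijective.2 ξ
  simp only at hξ ⊢
  rw [(D.mem_block_iff hM a _ γ).1 hξ, D.icc_irrC_cj n a β g]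
  exact h.2.2 _ ((D.mem_block_iff hM _ β β).2 rfl) χ hχ g

theorem exists_cj_of_hits (hM : IsPModular p M) {B : Set (IrrCharacter G)}
    {β γ : IrrCharacter V} (hβ : D.Hits M B β) (hγ : D.Hits M B γ) :
    ∃ n : nrm x, γ = D.cj n β := by
  classical
  haveI := Fintype.ofFinite (nrm x)
  by_contra hne
  push Not at hne
  set O : Finset (IrrCharacter V) := Finset.univ.image fun n : nrm x => D.cj n β with hO
  have hinv : ∀ (v w : V), IsConj (v : G) w → aV O v = aV O w := by
    intro v w h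
    obtain ⟨n, rfl⟩ := D.exists_nrm_conj h
    unfold aV
    congr 1
    refine Finset.sum_bij (fun δ _ => D.cj n⁻¹ δ) (fun δ hδ => ?_)
      (fun a _ b _ h => D.cj_injective n⁻¹ h) (fun δ hδ => ?_) (fun δ _ => ?_)
    · obtain ⟨m, -, rfl⟩ := Finset.mem_image.1 hδ
      exact Finset.mem_image.2 ⟨m * n⁻¹, Finset.mem_univ _, (D.cj_mul m n⁻¹ β).symm⟩
    · obtain ⟨m, -, rfl⟩ := Finset.mem_image.1 hδ
      exact ⟨D.cj (m * n) β, Finset.mem_image.2 ⟨m * n, Finset.mem_univ _, rfl⟩,
        by rw [D.cj_mul, mul_inv_cancel_right]⟩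
    · rw [D.cj_one_apply, D.cj_apply, ← D.cjV_mul, inv_mul_cancel, D.cjV_one]
  let a' : ConjClasses G → ℂ := fun K =>
    if h : ∃ w : V, ConjClasses.mk (w : G) = K then aV O h.choose else 0
  have ha' : ∀ w : V, a' (ConjClasses.mk (w : G)) = aV O w := by
    intro w
    have h : ∃ w' : V, ConjClasses.mk (w' : G) = ConjClasses.mk (w : G) := ⟨w, rfl⟩
    simp only [a', dif_pos h]
    exact hinv _ _ (ConjClasses.mk_eq_mk_iff_isConj.1 h.choose_spec)
  have hmem : ∀ K, MemLocalRing M (a' K) := by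
    intro K
    simp only [a']
    split_ifs
    · exact D.aV_mem hM _ _
    · exact (Blocks.lRing hM).zero_mem
  obtain ⟨χ, hχ⟩ := Blocks.IsPBlock.nonempty hM hβ.2.1
  have hsum : ∀ δ : IrrCharacter V,
      ∑ K : ConjClasses G, a' K * inducedCentralChar C (D.irrC 0 δ : C → ℂ) K.out =
        if δ ∈ O then 1 else 0 := by
    intro δ
    have key : ∀ K : ConjClasses G, inducedCentralChar C (D.irrC 0 δ : C → ℂ) K.out =
        ∑ c ∈ Finset.univ.filter (fun c : C => ConjClasses.mk (c : G) = K),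
          (D.irrC 0 δ : C → ℂ) c / (D.irrC 0 δ : C → ℂ) 1 := by
      intro K
      unfold inducedCentralChar
      rw [finsum_mem_eq_sum_of_inter_support_eq _ (t := Finset.univ.filter
        (fun c : C => ConjClasses.mk (c : G) = K))]
      ext c
      simp only [Set.mem_inter_iff, Set.mem_ofPred_eq, Finset.coe_filter, Finset.mem_univ, true_and,
        and_congr_left_iff]
      intro _
      conv_rhs => rw [show K = ConjClasses.mk K.out from (Quotient.out_eq K).symm]
      rw [ConjClasses.mk_eq_mk_iff_isConj]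
      exact isConj_comm
    simp only [key, Finset.mul_sum]
    have hfib : ∀ K : ConjClasses G, ∑ c ∈ Finset.univ.filter (fun c : C => ConjClasses.mk (c : G) = K),
        a' K * ((D.irrC 0 δ : C → ℂ) c / (D.irrC 0 δ : C → ℂ) 1) =
        ∑ c ∈ Finset.univ.filter (fun c : C => ConjClasses.mk (c : G) = K),
        a' (ConjClasses.mk (c : G)) * ((D.irrC 0 δ : C → ℂ) c / (D.irrC 0 δ : C → ℂ) 1) :=
      fun K => Finset.sum_congr rfl fun c hc => by rw [(Finset.mem_filter.1 hc).2]
    simp only [hfib]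
    rw [Finset.sum_fiberwise Finset.univ
        (fun c : C => ConjClasses.mk (c : G))
        (fun c => a' (ConjClasses.mk (c : G)) * ((D.irrC 0 δ : C → ℂ) c / (D.irrC 0 δ : C → ℂ) 1)),
      D.sum_C, Finset.sum_eq_single (0 : ZMod p) ?_ (fun h => absurd (Finset.mem_univ _) h),
      ← sum_aV O δ]
    · refine Finset.sum_congr rfl fun v _ => ?_
      rw [D.equivC_coe, D.irrC_equivC, D.irrC_one, D.pw_zero, one_mul, ha', zero_mul,
        AddChar.map_zero_eq_one, mul_one, mul_div_assoc]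
    · intro i _ hi
      refine Finset.sum_eq_zero fun v _ => ?_
      rw [D.equivC_coe]
      simp only [a']
      rw [dif_neg, zero_mul]
      rintro ⟨w, hw⟩
      obtain ⟨g, hg⟩ := isConj_iff.1 (ConjClasses.mk_eq_mk_iff_isConj.1 hw.symm)
      refine D.regular w.2 ?_
      rw [← hg]
      refine dvd_trans ?_ (dvd_of_eq
        (orderOf_injective (MulAut.conj g).toMonoidHom (MulAut.conj g).injective _).symm)
      rw [(D.commute_pw (D.V_le v.2) i).symm.orderOf_mul_eq_mul_orderOf_of_coprime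
        (by rw [D.orderOf_pw hi]; exact hp.out.coprime_iff_not_dvd.2 (D.regular v.2)),
        D.orderOf_pw hi]
      exact dvd_mul_right _ _
  have hcongr : ∀ δ, D.Hits M B δ → MemLocalIdeal M
      ((∑ K : ConjClasses G, a' K * inducedCentralChar C (D.irrC 0 δ : C → ℂ) K.out) -
        ∑ K : ConjClasses G, a' K * centralChar (χ : G → ℂ) K.out) := by
    intro δ hδ
    rw [← Finset.sum_sub_distrib]
    refine Blocks.MemLocalIdeal.sum hM _ fun K _ => ?_
    rw [← mul_sub]
    exact Blocks.MemLocalIdeal.mul_left hM (hmem K)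
      (hδ.2.2 _ ((D.mem_block_iff hM 0 δ δ).2 rfl) χ hχ _)
  have h1 := Blocks.MemLocalIdeal.sub hM (hcongr β hβ) (hcongr γ hγ)
  rw [hsum, hsum, if_pos (Finset.mem_image.2 ⟨1, Finset.mem_univ _, D.cj_one β⟩), if_neg (by
    rintro h
    obtain ⟨n, -, hn⟩ := Finset.mem_image.1 h
    exact hne n hn.symm)] at h1
  refine Blocks.not_memLocalIdeal_one hM ?_
  convert h1 using 1
  ring

theorem hits_iff (hM : IsPModular p M) {B : Set (IrrCharacter G)} {β γ : IrrCharacter V}
    (hβ : D.Hits M B β) : D.Hits M B γ ↔ ∃ n : nrm x, γ = D.cj n β :=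
  ⟨D.exists_cj_of_hits hM hβ, fun ⟨n, hn⟩ => hn ▸ D.hits_cj hM hβ n⟩

end Data

end CfsgLib.PrimeDefect
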