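import Cfsg.Agent.Lib.PrimeDefect.Family
import Cfsg.Agent.Lib.Blocks.DefectZeroVanish

/-!
# Sylow subgroups of prime order: the characters of degree prime to `p`
-/

set_option autoImplicit false
set_option linter.unusedSectionVars false
set_option linter.style.haveILetI false

noncomputable section

namespace CfsgLib.PrimeDefect

open Cfsg CfsgLib.Characters CfsgLib.SelfCentralPrime
open scoped ComplexConjugate

universe u

variable {G : Type u} [Group G] {p : ℕ} [hp : Fact p.Prime] {x : G} {C V : Subgroup G}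
variable (D : Data p x C V)

namespace Data

include D

open scoped Classical in
/-- The count of characters of degree prime to `p`, through the characters of `V`. -/
theorem card_pPrime [Fintype G] [Fintype C] [Fintype V] {M : Ideal AlgInt} (hM : IsPModular p M) :
    Nat.card D.muHom.range * Nat.card {χ : IrrCharacter G // ¬ p ∣ charDegree (χ : G → ℂ)} =
      ∑ β : IrrCharacter V, (Nat.card (D.expH β) ^ 2 + (p - 1)) := by
  choose blk hblk hhits using fun β => D.exists_hits hM β
  have hpos : ∀ β, 0 < blockDefect p (blk β) := by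
    intro β
    set s : Finset (IrrCharacter G) := Finset.univ.filter (· ∈ blk β)
    have hs : ∀ χ, χ ∈ s ↔ χ ∈ blk β := fun χ => by simp [s]
    have h1 := D.sum_coef hM (hblk β) hs (hhits β) (one_ne_zero (α := ZMod p)) 1
    rw [if_pos ⟨1, (D.expH β).one_mem, by simp⟩] at h1
    obtain ⟨χ, hχ, hne⟩ := Finset.exists_ne_zero_of_sum_ne_zero
      (h1.trans_ne (Nat.cast_ne_zero.2 hp.out.ne_zero))
    have hdeg : ¬ p ∣ charDegree (χ : G → ℂ) := by
      intro hdvd
      refine hne ?_
      have hv : ∀ v : V, (χ : G → ℂ) (pw x 1 * v) = 0 := fun v => by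
        refine CfsgLib.DefectZeroVanish.vanish_of_defect_zero χ
          (by rwa [D.factorization_card_eq, pow_one]) ?_
        rw [(D.commute_pw (D.V_le v.2) 1).symm.orderOf_mul_eq_mul_orderOf_of_coprime
          (by rw [D.orderOf_pw one_ne_zero]; exact hp.out.coprime_iff_not_dvd.2 (D.regular v.2)),
          D.orderOf_pw one_ne_zero]
        exact dvd_mul_right _ _
      have hc : D.coef χ 1 β = 0 := by
        simp only [Data.coef, hv, zero_mul, Finset.sum_const_zero, mul_zero]
      rw [hc, zero_mul]
    rw [blockDefect, D.factorization_card_eq, Nat.sub_pos_iff_lt]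
    exact lt_of_le_of_lt (Nat.sInf_le ⟨χ, (hs χ).1 hχ, rfl⟩) (by
      dsimp only
      rw [Nat.factorization_eq_zero_of_not_dvd hdeg]; exact one_pos)
  set S : Finset (IrrCharacter G) := Finset.univ.filter fun χ => ¬ p ∣ charDegree (χ : G → ℂ)
  have hcardS : Nat.card {χ : IrrCharacter G // ¬ p ∣ charDegree (χ : G → ℂ)} = S.card := by
    rw [Nat.card_eq_fintype_card, Fintype.card_subtype]
  set I := (Finset.univ : Finset (IrrCharacter V)).image blk
  have hmaps : ∀ χ ∈ S, blockOf M (χ : G → ℂ) ∈ I := by
    intro χ hχ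
    have hB := Blocks.isPBlock_blockOf (M := M) χ
    have hd : 0 < blockDefect p (blockOf M (χ : G → ℂ)) := by
      rw [blockDefect, D.factorization_card_eq, Nat.sub_pos_iff_lt]
      exact lt_of_le_of_lt (Nat.sInf_le ⟨χ, Blocks.mem_blockOf_self hM χ, rfl⟩) (by
        dsimp only
        rw [Nat.factorization_eq_zero_of_not_dvd (Finset.mem_filter.1 hχ).2]; exact one_pos)
    obtain ⟨β, hβ⟩ := D.exists_hits_of_defect hM hB hd
    exact Finset.mem_image.2 ⟨β, Finset.mem_univ _, D.hits_unique hM (hhits β) hβ⟩
  rw [hcardS, Finset.card_eq_sum_card_fiberwise hmaps, Finset.mul_sum,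
    ← Finset.sum_fiberwise_of_maps_to (g := blk) (t := I)
      (fun β _ => Finset.mem_image_of_mem _ (Finset.mem_univ β))]
  refine Finset.sum_congr rfl fun B hB => ?_
  obtain ⟨β, -, rfl⟩ := Finset.mem_image.1 hB
  have hfib : (Finset.univ.filter fun γ => blk γ = blk β) =
      Finset.univ.filter fun γ => D.Hits M (blk β) γ := by
    refine Finset.filter_congr fun γ _ => ⟨fun h => h ▸ hhits γ, fun h => ?_⟩
    exact D.hits_unique hM (hhits γ) h
  have hconst : ∀ γ, D.Hits M (blk β) γ → Nat.card (D.expH γ) = Nat.card (D.expH β) := by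
    intro γ hγ
    have h1 := D.card_hits_mul_expH hM (hhits β)
    have h2 := D.card_hits_mul_expH hM hγ
    refine mul_left_cancel₀ ?_ (h2.trans h1.symm)
    exact Finset.card_ne_zero.2 ⟨β, Finset.mem_filter.2 ⟨Finset.mem_univ _, hhits β⟩⟩
  obtain ⟨F⟩ := D.exists_family hM (hblk β) (hpos β) (hhits β)
  have hblock : (S.filter fun χ : IrrCharacter G => blockOf M (χ : G → ℂ) = blk β).card =
      Nat.card (blk β) := by
    rw [Nat.card_eq_fintype_card, ← Set.toFinset_card]
    congr 1
    ext χ
    simp only [S, Finset.mem_filter, Finset.mem_univ, true_and, Set.mem_toFinset]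
    exact ⟨fun h => h.2 ▸ Blocks.mem_blockOf_self hM χ,
      fun h => ⟨D.not_dvd_charDegree hM (hblk β) (hpos β) h,
        (Blocks.IsPBlock.eq_blockOf hM (hblk β) h).symm⟩⟩
  rw [hblock, hfib, Finset.sum_congr rfl fun γ hγ => by rw [hconst γ (Finset.mem_filter.1 hγ).2],
    Finset.sum_const, smul_eq_mul, F.card_block, ← D.card_hits_mul_expH hM (hhits β),
    ← D.card_expH_mul β]
  ring

end Data

end CfsgLib.PrimeDefect
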