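import Cfsg.Agent.Lib.PrimeDefect.Stab
import Mathlib.LinearAlgebra.Matrix.NonsingularInverse
import Mathlib.FieldTheory.IsAlgClosed.Basic

/-!
# Sylow subgroups of prime order: a block has at least `e + t` characters
-/

set_option autoImplicit false
set_option linter.unusedSectionVars false
set_option linter.style.haveILetI false
set_option synthInstance.maxHeartbeats 400000

noncomputable section

namespace CfsgLib.PrimeDefect

open Cfsg CfsgLib.Characters CfsgLib.SelfCentralPrime
open MonoidAlgebra (of)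
open scoped ComplexConjugate

universe u

attribute [local instance] Ideal.Quotient.field

variable {p : ℕ} {M : Ideal AlgInt} [M.IsMaximal]

/-- The residue field is algebraically closed. -/
theorem isAlgClosed_residue : IsAlgClosed (AlgInt ⧸ M) := by
  refine IsAlgClosed.of_exists_root _ fun f hf hirr => ?_
  obtain ⟨g, hg, hgd, hgm⟩ := Polynomial.lifts_and_degree_eq_and_monic
    ((Polynomial.mem_lifts f).2
      (Polynomial.map_surjective (Ideal.Quotient.mk M) Ideal.Quotient.mk_surjective f)) hf
  have hdeg : (g.map (algebraMap AlgInt ℂ)).degree ≠ 0 := by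
    rw [hgm.degree_map, hgd]
    exact (Polynomial.degree_pos_of_irreducible hirr).ne'
  obtain ⟨w, hw⟩ := IsAlgClosed.exists_root _ hdeg
  have hint : IsIntegral AlgInt w := ⟨g, hgm, by
    rw [← Polynomial.eval_map]; exact hw⟩
  have hwA : w ∈ AlgInt := isIntegral_trans (R := ℤ) w hint
  refine ⟨Ideal.Quotient.mk M ⟨w, hwA⟩, ?_⟩
  rw [← hg, Polynomial.eval_map, Polynomial.eval₂_at_apply]
  refine (congrArg (Ideal.Quotient.mk M) (?_ : g.eval ⟨w, hwA⟩ = 0)).trans (map_zero _)
  refine Subtype.ext ?_
  have h2 : (g.map (algebraMap AlgInt ℂ)).eval w = 0 := hw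
  rw [Polynomial.eval_map] at h2
  show algebraMap AlgInt ℂ (g.eval ⟨w, hwA⟩) = 0
  rw [← Polynomial.eval₂_at_apply]
  exact h2

/-- Independent vectors over a field have an invertible minor. -/
theorem exists_minor {k ι R : Type*} [Field k] [Fintype ι] [DecidableEq ι] (f : ι → R → k)
    (hf : LinearIndependent k f) :
    ∃ c : ι → R, (Matrix.of fun i j => f i (c j)).det ≠ 0 := by
  classical
  let col : R → (ι → k) := fun y i => f i y
  have hspan : Submodule.span k (Set.range col) = ⊤ := by
    by_contra hne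
    obtain ⟨φ, hφ, hφ0⟩ := Submodule.exists_le_ker_of_lt_top _ (lt_top_iff_ne_top.2 hne)
    refine hφ (LinearMap.ext fun v => ?_)
    have hd : ∀ i, φ (Pi.single i 1) = 0 := by
      refine Fintype.linearIndependent_iff.1 hf (fun i => φ (Pi.single i 1)) ?_
      funext y
      simp only [Finset.sum_apply, Pi.smul_apply, smul_eq_mul, Pi.zero_apply]
      have h1 : φ (col y) = 0 := hφ0 (Submodule.subset_span ⟨y, rfl⟩)
      have h2 : col y = ∑ i, f i y • (Pi.single i (1 : k) : ι → k) := by
        conv_lhs => rw [← Finset.univ_sum_single (col y)]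
        refine Finset.sum_congr rfl fun i _ => ?_
        rw [← Pi.single_smul, smul_eq_mul, mul_one]
      rw [h2, map_sum] at h1
      simpa [mul_comm] using h1
    have h3 : v = ∑ i, v i • (Pi.single i (1 : k) : ι → k) := by
      conv_lhs => rw [← Finset.univ_sum_single v]
      refine Finset.sum_congr rfl fun i _ => ?_
      rw [← Pi.single_smul, smul_eq_mul, mul_one]
    rw [h3, map_sum]
    simp [hd]
  obtain ⟨t, htc, htspan, htli⟩ := exists_linearIndependent k (Set.range col)
  haveI := htli.setFinite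
  haveI : Fintype t := Set.Finite.fintype htli.setFinite
  have hcard : Fintype.card t = Fintype.card ι := by
    have h := (Module.Basis.mk htli (by rw [Subtype.range_coe, htspan, hspan])).indexEquiv
      (Pi.basisFun k ι)
    exact Fintype.card_congr h
  let en : ι ≃ t := (Fintype.equivOfCardEq hcard).symm
  choose c hc using fun j : ι => htc (en j).2
  refine ⟨c, ?_⟩
  have hli : LinearIndependent k fun j : ι => col (c j) := by
    rw [show (fun j => col (c j)) = Subtype.val ∘ en from funext hc]
    exact htli.comp en en.injective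
  intro hdet
  obtain ⟨v, hv, hv0⟩ := Matrix.exists_mulVec_eq_zero_iff.2 hdet
  refine hv (funext (Fintype.linearIndependent_iff.1 hli v ?_))
  funext i
  have := congrFun hv0 i
  simp only [Matrix.mulVec, dotProduct, Matrix.of_apply, Pi.zero_apply] at this
  simp only [Finset.sum_apply, Pi.smul_apply, smul_eq_mul, Pi.zero_apply, col]
  simpa [mul_comm] using this

variable {G : Type u} [Group G] [hp : Fact p.Prime] {x : G} {C V : Subgroup G}
variable (D : Data p x C V)

namespace Data

variable [Fintype G]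

/-- The orbits of the stabiliser on the non-zero residues. -/
abbrev Orbits (β : IrrCharacter V) : Type := (ZMod p)ˣ ⧸ D.expH β

variable [Fintype C] [Fintype V]

include D

/-- The difference of multiplicities attached to an orbit. -/
def diff (β : IrrCharacter V) (q : D.Orbits β) (χ : IrrCharacter G) : ℤ :=
  (D.mult χ 0 β : ℤ) - D.mult χ ((q.out : (ZMod p)ˣ) : ZMod p) β

theorem mult_orbit (β : IrrCharacter V) (χ : IrrCharacter G) (u : (ZMod p)ˣ) :
    D.mult χ (u : ZMod p) β =
      D.mult χ (((u : D.Orbits β).out : (ZMod p)ˣ) : ZMod p) β := by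
  obtain ⟨h, hh⟩ := QuotientGroup.mk_out_eq_mul (D.expH β) u
  rw [hh, mul_comm u, Units.val_mul, D.mult_expH h.2]

theorem card_units : Nat.card (ZMod p)ˣ = p - 1 := by
  rw [Nat.card_eq_fintype_card, ZMod.card_units]

theorem hitCount_eq (β : IrrCharacter V) [DecidableEq (D.Orbits β)] :
    D.hitCount β 0 0 = (Nat.card (D.expH β) : ℤ) ∧
    (∀ u : (ZMod p)ˣ, D.hitCount β 0 (u : ZMod p) = 0 ∧ D.hitCount β (u : ZMod p) 0 = 0) ∧
    ∀ q r : D.Orbits β, D.hitCount β ((q.out : (ZMod p)ˣ) : ZMod p) ((r.out : (ZMod p)ˣ) : ZMod p) =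
      if q = r then 1 else 0 := by
  classical
  refine ⟨?_, fun u => ⟨?_, ?_⟩, fun q r => ?_⟩
  · simp [Data.hitCount, Nat.card_eq_fintype_card]
    congr!
  · simp [Data.hitCount, u.ne_zero.symm, u.ne_zero]
  · simp [Data.hitCount, u.ne_zero, mul_eq_zero]
  · simp only [Data.hitCount]
    split_ifs with h
    · subst h
      rw [Finset.sum_eq_single (1 : D.expH β)]
      · simp
      · intro b _ hb
        rw [if_neg]
        intro hh
        refine hb (Subtype.ext (Units.ext ?_))
        exact (mul_left_eq_self₀.1 hh).resolve_right (Units.ne_zero _)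
      · simp
    · refine Finset.sum_eq_zero fun b _ => if_neg fun hh => h ?_
      have hu : (b : (ZMod p)ˣ) * q.out = r.out := Units.ext (by rw [Units.val_mul]; exact hh)
      rw [← q.out_eq, ← r.out_eq]
      refine QuotientGroup.eq.2 ?_
      rw [← hu, mul_comm (b : (ZMod p)ˣ), inv_mul_cancel_left]
      exact b.2

variable (hM : IsPModular p M) {B : Set (IrrCharacter G)} (hB : IsPBlock M B)
  {s : Finset (IrrCharacter G)} (hs : ∀ χ, χ ∈ s ↔ χ ∈ B)
  {β : IrrCharacter V} (hβ : D.Hits M B β)

include hM hB hs hβ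

theorem sum_diff_orbits [DecidableEq (D.Orbits β)] (q r : D.Orbits β) :
    ∑ χ ∈ s, D.diff β q χ * D.diff β r χ =
      (Nat.card (D.expH β) : ℤ) + if q = r then 1 else 0 := by
  obtain ⟨h0, h1, h2⟩ := D.hitCount_eq β
  simp only [Data.diff]
  rw [D.sum_diff hM hB hs hβ, h0, (h1 _).2, (h1 _).1, h2]
  simp only [eq_comm (a := r)]
  ring

theorem sum_regular_orbit {y : G} (hy : ¬ p ∣ orderOf y) (q : D.Orbits β) :
    ∑ χ ∈ s, (χ : G → ℂ) y * (D.diff β q χ : ℂ) = 0 := by
  rw [← D.sum_regular_diff hM hB hs hβ hy 0 ((q.out : (ZMod p)ˣ) : ZMod p)]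
  simp [Data.diff]

open scoped Classical in
set_option maxHeartbeats 2000000 in
/-- A block has at least `e + t` characters. -/
theorem card_block_ge :
    Nat.card (D.expH β) + Nat.card (D.Orbits β) ≤ s.card := by
  obtain ⟨T0, e, K, hzc⟩ := D.exists_ctx hM hB hβ
  haveI := D.charP_residue hM
  haveI : IsAlgClosed (AlgInt ⧸ M) := isAlgClosed_residue
  haveI : Finite (D.expH β →* ℂˣ) := inferInstance
  haveI := Fintype.ofFinite (D.expH β →* ℂˣ)
  have hι : Fintype.card (D.expH β →* ℂˣ) = Nat.card (D.expH β) := by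
    rw [← Nat.card_eq_fintype_card]
    exact CommGroup.card_monoidHom_of_hasEnoughRootsOfUnity _ _
  choose U S hsimple hhit using fun l => K.exists_simple_hit l
  haveI : Module.Finite (AlgInt ⧸ M) (MonoidAlgebra (AlgInt ⧸ M) G) :=
    Module.Finite.of_surjective
      (Finsupp.linearCombination (AlgInt ⧸ M) fun g : G => of (AlgInt ⧸ M) G g) fun z =>
      ⟨Finsupp.equivFunOnFinite.symm z.coeff, by
        rw [Finsupp.linearCombination_apply, Finsupp.sum_fintype _ _ (by simp)]
        exact (Hit.eq_sum_of z).symm⟩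
  haveI : ∀ l, IsSimpleModule (MonoidAlgebra (AlgInt ⧸ M) G) (S l) := hsimple
  haveI : ∀ l, FiniteDimensional (AlgInt ⧸ M) (S l) := fun l =>
    inferInstanceAs (FiniteDimensional (AlgInt ⧸ M) ((S l).restrictScalars (AlgInt ⧸ M)))
  let L : (D.expH β →* ℂˣ) → G → AlgInt ⧸ M := fun l g =>
    LinearMap.trace (AlgInt ⧸ M) (S l) (Algebra.lsmul (AlgInt ⧸ M) (AlgInt ⧸ M) (S l) (of (AlgInt ⧸ M) G g))
  have hL : LinearIndependent (AlgInt ⧸ M) L :=
    Hit.trace_linearIndependent (fun l => S l) fun l l' ⟨f⟩ => by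
      by_contra hne
      exact K.not_hit_two hne ((hhit l)) ((hhit l').congr f.symm)
  have hLreg : LinearIndependent (AlgInt ⧸ M)
      fun l (y : {y : G // ¬ p ∣ orderOf y}) => L l y := by
    rw [Fintype.linearIndependent_iff]
    intro c hc
    refine Fintype.linearIndependent_iff.1 hL c (funext fun g => ?_)
    obtain ⟨u, w, huw, hcomm, ⟨m, hm⟩, hw⟩ := Blocks.exists_isPPart hp.out g
    have hval : ∀ l, L l g = L l w := fun l => by
      rw [← huw]
      exact Hit.trace_mul_of_pow (n := m) hcomm (by rw [← hm, pow_orderOf_eq_one])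
    simp only [Finset.sum_apply, Pi.smul_apply, hval, Pi.zero_apply]
    exact by simpa using congrFun hc ⟨w, hw⟩
  obtain ⟨cols, hcols⟩ := exists_minor _ hLreg
  -- lifts
  choose lift hlift using fun a : AlgInt ⧸ M => Ideal.Quotient.mk_surjective a
  let F : (D.expH β →* ℂˣ) → G → ℂ := fun l g => ((lift (L l g) : AlgInt) : ℂ)
  have hFclass : ∀ l, IsClassFunction G (F l) := by
    intro l g h
    show ((lift (L l (h * g * h⁻¹)) : AlgInt) : ℂ) = ((lift (L l g) : AlgInt) : ℂ)
    congr 2
    show LinearMap.trace _ (S l) _ = LinearMap.trace _ (S l) _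
    have e1 : ∀ a b : MonoidAlgebra (AlgInt ⧸ M) G,
        LinearMap.trace (AlgInt ⧸ M) (S l) (Algebra.lsmul (AlgInt ⧸ M) (AlgInt ⧸ M) (S l) (a * b)) =
        LinearMap.trace (AlgInt ⧸ M) (S l)
          (Algebra.lsmul (AlgInt ⧸ M) (AlgInt ⧸ M) (S l) (b * a)) := fun a b => by
      rw [map_mul (Algebra.lsmul (AlgInt ⧸ M) (AlgInt ⧸ M) (S l)), LinearMap.trace_mul_comm,
        ← map_mul (Algebra.lsmul (AlgInt ⧸ M) (AlgInt ⧸ M) (S l))]
    rw [map_mul (of (AlgInt ⧸ M) G), e1, ← map_mul (of (AlgInt ⧸ M) G), ← mul_assoc,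
      inv_mul_cancel, one_mul]
  let F' : (D.expH β →* ℂˣ) → G → ℂ := fun l y => blockPart B (F l) y
  have hFmem : ∀ l k, MemLocalRing M (F l k) := fun l k => Blocks.coe_mem_lRing hM _
  have hc : ∀ g, MemLocalRing M (blockCoeff B g) := Blocks.memLocalRing_blockCoeff hM hB
  have hF'mem : ∀ l y, F' l y ∈ Blocks.lRing hM := by
    intro l y
    show blockPart B (F l) y ∈ Blocks.lRing hM
    rw [← Blocks.sum_blockCoeff_mul_eq_blockPart B (hFclass l)]
    exact (Blocks.lRing hM).sum_mem fun g _ => (Blocks.lRing hM).mul_mem (hc g) (hFmem l _)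
  have hzid : ∀ l (a : S l), Blocks.blockIdemRes hM B • a = a := fun l a =>
    K.smul_eq_self (fun r => ((Subalgebra.mem_center_iff.1
        (Blocks.blockIdemRes_mem_center hM B)) r).symm)
      (Blocks.isIdempotentElem_blockIdemRes hM hB)
      (fun g => by rw [Blocks.coeff_blockIdemRes, Blocks.coeff_blockIdemRes, Blocks.blockCoeff_conj])
      (hzc l) (hhit l) a
  have hres : ∀ l y, Blocks.lResD hM (F' l y) = L l y := by
    intro l y
    show Blocks.lResD hM (blockPart B (F l) y) = _
    rw [← Blocks.sum_blockCoeff_mul_eq_blockPart B (hFclass l), Blocks.lResD_sum hM _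
      fun g _ => (Blocks.lRing hM).mul_mem (hc g) (hFmem l _)]
    have hterm : ∀ g : G, Blocks.lResD hM (blockCoeff B g * F l (g * y)) =
        (Blocks.blockIdemRes hM B).coeff g * L l (g * y) := fun g => by
      rw [Blocks.lResD_mul hM (hc g) (hFmem l _), Blocks.coeff_blockIdemRes]
      congr 1
      show Blocks.lResD hM ((lift (L l (g * y)) : AlgInt) : ℂ) = _
      rw [Blocks.lResD_algInt, hlift]
    rw [Finset.sum_congr rfl fun g _ => hterm g]
    let T : MonoidAlgebra (AlgInt ⧸ M) G →ₗ[AlgInt ⧸ M] (AlgInt ⧸ M) :=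
      (LinearMap.trace (AlgInt ⧸ M) (S l)).comp
        (Algebra.lsmul (AlgInt ⧸ M) (AlgInt ⧸ M) (S l)).toLinearMap
    have h1 : T (Blocks.blockIdemRes hM B * of (AlgInt ⧸ M) G y) = L l y := by
      show LinearMap.trace (AlgInt ⧸ M) (S l)
        (Algebra.lsmul (AlgInt ⧸ M) (AlgInt ⧸ M) (S l) _) = _
      rw [map_mul]
      congr 1
      exact LinearMap.ext fun a => hzid l _
    rw [← h1]
    conv_rhs => rw [Hit.eq_sum_of (Blocks.blockIdemRes hM B), Finset.sum_mul, map_sum]
    refine Finset.sum_congr rfl fun g _ => ?_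
    show _ = T (((Blocks.blockIdemRes hM B).coeff g • of (AlgInt ⧸ M) G g) * of (AlgInt ⧸ M) G y)
    rw [smul_mul_assoc, ← map_mul, map_smul, smul_eq_mul]
    rfl
  have hdet : (Matrix.of fun l j => F' l (cols j : G)).det ≠ 0 := by
    intro h
    let A : Matrix (D.expH β →* ℂˣ) (D.expH β →* ℂˣ) (Blocks.lRing hM) :=
      Matrix.of fun l j => ⟨F' l (cols j : G), hF'mem _ _⟩
    have h1 : A.det = 0 := by
      refine Subtype.ext ?_
      show (Blocks.lRing hM).subtype A.det = 0
      rw [RingHom.map_det]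
      exact h
    refine hcols ?_
    have h2 := congrArg (Blocks.lRes hM) h1
    rw [map_zero, RingHom.map_det] at h2
    rw [← h2]
    congr 1
    ext l j
    show L l (cols j : G) = Blocks.lRes hM ⟨F' l (cols j : G), hF'mem _ _⟩
    rw [← hres, Blocks.lResD_of_mem hM (hF'mem _ _)]
  -- the map to functions on regular elements
  let Λ : (s → ℂ) →ₗ[ℂ] ({y : G // ¬ p ∣ orderOf y} → ℂ) :=
    { toFun := fun c y => ∑ χ : s, c χ * ((χ : IrrCharacter G) : G → ℂ) y
      map_add' := fun a b => by funext y; simp [add_mul, Finset.sum_add_distrib]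
      map_smul' := fun a b => by funext y; simp [Finset.mul_sum, mul_assoc] }
  have hrange : Nat.card (D.expH β) ≤ Module.finrank ℂ (LinearMap.range Λ) := by
    have hmem : ∀ l, (fun y : {y : G // ¬ p ∣ orderOf y} => F' l y) ∈ LinearMap.range Λ := by
      intro l
      refine ⟨fun χ => classInner (F l) ((χ : IrrCharacter G) : G → ℂ), funext fun y => ?_⟩
      show ∑ χ : s, _ * _ = blockPart B (F l) y
      rw [Blocks.blockPart_eq_sum,
        Finset.sum_coe_sort s (fun χ => classInner (F l) (χ : G → ℂ) * (χ : G → ℂ) y)]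
      refine Finset.sum_congr ?_ fun _ _ => rfl
      ext χ
      simp [hs]
    have hli : LinearIndependent ℂ fun l => (⟨_, hmem l⟩ : LinearMap.range Λ) := by
      rw [Fintype.linearIndependent_iff]
      intro c hc' 
      have hcv : Matrix.vecMul c (Matrix.of fun l j => F' l (cols j : G)) = 0 := by
        funext j
        have h := congrFun (congrArg Subtype.val hc') (cols j)
        simp only [Submodule.coe_sum, Finset.sum_apply, Submodule.coe_smul, Pi.smul_apply,
          smul_eq_mul, ZeroMemClass.coe_zero, Pi.zero_apply] at h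
        simpa [Matrix.vecMul, dotProduct] using h
      intro l
      by_contra hl
      exact hdet (Matrix.exists_vecMul_eq_zero_iff.1 ⟨c, fun h => hl (congrFun h l), hcv⟩)
    rw [← hι]
    exact hli.fintype_card_le_finrank
  have hker : Nat.card (D.Orbits β) ≤ Module.finrank ℂ (LinearMap.ker Λ) := by
    haveI := Fintype.ofFinite (D.Orbits β)
    have hmem : ∀ q : D.Orbits β,
        (fun χ : s => (D.diff β q χ : ℂ)) ∈ LinearMap.ker Λ := by
      intro q
      refine LinearMap.mem_ker.2 (funext fun y => ?_)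
      show ∑ χ : s, _ * _ = (0 : ℂ)
      rw [Finset.sum_coe_sort s fun χ => (D.diff β q χ : ℂ) * (χ : G → ℂ) y,
        ← D.sum_regular_orbit hM hB hs hβ y.2 q]
      exact Finset.sum_congr rfl fun χ _ => mul_comm _ _
    have hli : LinearIndependent ℂ fun q => (⟨_, hmem q⟩ : LinearMap.ker Λ) := by
      rw [Fintype.linearIndependent_iff]
      intro c hc'
      have hr : ∀ r, (Nat.card (D.expH β) : ℂ) * ∑ q, c q + c r = 0 := by
        intro r
        have h : ∀ χ ∈ s, ∑ q, c q * (D.diff β q χ : ℂ) = 0 := fun χ hχ => by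
          have := congrFun (congrArg Subtype.val hc') ⟨χ, hχ⟩
          simpa [Submodule.coe_sum] using this
        have h2 : ∑ χ ∈ s, (D.diff β r χ : ℂ) * ∑ q, c q * (D.diff β q χ : ℂ) = 0 :=
          Finset.sum_eq_zero fun χ hχ => by rw [h χ hχ, mul_zero]
        simp only [Finset.mul_sum] at h2
        rw [Finset.sum_comm] at h2
        rw [← h2, Finset.mul_sum]
        have h3 : ∀ q, ∑ χ ∈ s, (D.diff β r χ : ℂ) * (c q * (D.diff β q χ : ℂ)) =
            c q * ((Nat.card (D.expH β) : ℂ) + if r = q then 1 else 0) := by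
          intro q
          have := congrArg (Int.cast : ℤ → ℂ) (D.sum_diff_orbits hM hB hs hβ r q)
          push_cast [apply_ite (fun z : ℤ => (z : ℂ))] at this
          rw [← this, Finset.mul_sum]
          exact Finset.sum_congr rfl fun χ _ => by ring
        simp only [h3, mul_add, Finset.sum_add_distrib, mul_ite, mul_one, mul_zero,
          Finset.sum_ite_eq, Finset.mem_univ, if_true]
        congr 1
        exact Finset.sum_congr rfl fun q _ => mul_comm _ _
      have hS : ∑ q, c q = 0 := by
        have h : ∑ r, ((Nat.card (D.expH β) : ℂ) * ∑ q, c q + c r) = 0 :=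
          Finset.sum_eq_zero fun r _ => hr r
        rw [Finset.sum_add_distrib, Finset.sum_const, Finset.card_univ, nsmul_eq_mul,
          ← mul_assoc, ← add_one_mul] at h
        refine (mul_eq_zero.1 h).resolve_left ?_
        exact_mod_cast Nat.succ_ne_zero (Fintype.card (D.Orbits β) * Nat.card (D.expH β))
      intro r
      simpa [hS] using hr r
    rw [Nat.card_eq_fintype_card]
    exact hli.fintype_card_le_finrank
  have := LinearMap.finrank_range_add_finrank_ker Λ
  rw [Module.finrank_pi, Fintype.card_coe] at this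
  omega

end Data

end CfsgLib.PrimeDefect
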