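import Mathlib.Algebra.BigOperators.Group.Finset.Basic
import Mathlib.Algebra.Order.BigOperators.Group.Finset
import Mathlib.Data.Fintype.BigOperators
import Mathlib.Tactic.Linarith
import Mathlib.Tactic.Ring
import Mathlib.Tactic.IntervalCases

/-!
# The shape of the multiplicities in a block of defect one

Integer vectors `v q` (`q` in a finite set `Q`) with scalar products `e + δ`, orthogonal to a
positive vector, on at least `e + |Q|` points, none of which is killed by all `v q`.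
-/

set_option autoImplicit false

namespace CfsgLib.PrimeDefect

variable {α Q : Type*} [DecidableEq α] [DecidableEq Q] [Fintype Q]

omit [DecidableEq Q] [Fintype Q] in
/-- An integer vector of norm two orthogonal to a positive vector. -/
theorem pair_of_norm_two (s : Finset α) (δ : α → ℤ) (d : α → ℕ) (hd : ∀ χ ∈ s, 0 < d χ)
    (h2 : ∑ χ ∈ s, δ χ ^ 2 = 2) (h0 : ∑ χ ∈ s, (d χ : ℤ) * δ χ = 0) :
    ∃ a ∈ s, ∃ b ∈ s, a ≠ b ∧
      ∀ χ ∈ s, δ χ = (if χ = a then 1 else 0) - (if χ = b then 1 else 0) := by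
  have hsmall : ∀ χ ∈ s, δ χ = -1 ∨ δ χ = 0 ∨ δ χ = 1 := by
    intro χ hχ
    have h := Finset.single_le_sum (f := fun χ => δ χ ^ 2) (fun χ _ => sq_nonneg (δ χ)) hχ
    rw [h2] at h
    have h1 : -1 ≤ δ χ := by nlinarith
    have h3 : δ χ ≤ 1 := by nlinarith
    omega
  have hpos : ∃ a ∈ s, δ a = 1 := by
    by_contra hc
    push Not at hc
    have hle : ∀ χ ∈ s, (d χ : ℤ) * δ χ ≤ 0 := fun χ hχ => by
      rcases hsmall χ hχ with h | h | h
      · rw [h]; omega
      · rw [h, mul_zero]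
      · exact absurd h (hc χ hχ)
    have hall := (Finset.sum_eq_zero_iff_of_nonpos hle).1 h0
    have : ∑ χ ∈ s, δ χ ^ 2 = 0 := Finset.sum_eq_zero fun χ hχ => by
      rcases mul_eq_zero.1 (hall χ hχ) with h | h
      · have := hd χ hχ; omega
      · rw [h]; rfl
    omega
  have hneg : ∃ b ∈ s, δ b = -1 := by
    by_contra hc
    push Not at hc
    have hle : ∀ χ ∈ s, 0 ≤ (d χ : ℤ) * δ χ := fun χ hχ => by
      rcases hsmall χ hχ with h | h | h
      · exact absurd h (hc χ hχ)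
      · rw [h, mul_zero]
      · rw [h]; omega
    have hall := (Finset.sum_eq_zero_iff_of_nonneg hle).1 h0
    have : ∑ χ ∈ s, δ χ ^ 2 = 0 := Finset.sum_eq_zero fun χ hχ => by
      rcases mul_eq_zero.1 (hall χ hχ) with h | h
      · have := hd χ hχ; omega
      · rw [h]; rfl
    omega
  obtain ⟨a, ha, ha1⟩ := hpos
  obtain ⟨b, hb, hb1⟩ := hneg
  have hab : a ≠ b := fun h => by rw [h, hb1] at ha1; omega
  refine ⟨a, ha, b, hb, hab, fun χ hχ => ?_⟩
  by_cases hχa : χ = a
  · subst hχa; simp [ha1, hab]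
  by_cases hχb : χ = b
  · subst hχb; simp [hb1, Ne.symm hab]
  simp only [if_neg hχa, if_neg hχb, sub_zero]
  by_contra hne
  have hsub : ({a, b, χ} : Finset α) ⊆ s := by
    simp [Finset.insert_subset_iff, ha, hb, hχ]
  have h3 := Finset.sum_le_sum_of_subset_of_nonneg (f := fun χ => δ χ ^ 2) hsub
    (fun χ _ _ => sq_nonneg (δ χ))
  rw [h2, Finset.sum_insert (by simp [hab, Ne.symm hχa]), Finset.sum_insert (by simp [Ne.symm hχb]),
    Finset.sum_singleton, ha1, hb1] at h3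
  rcases hsmall χ hχ with h | h | h
  · rw [h] at h3; norm_num at h3
  · exact hne h
  · rw [h] at h3; norm_num at h3

omit [DecidableEq α] [Fintype Q] in
theorem sum_mul_sub (s : Finset α) (v : Q → α → ℤ) (e : ℤ)
    (hgram : ∀ q r, ∑ χ ∈ s, v q χ * v r χ = e + if q = r then 1 else 0) (q q' r r' : Q) :
    ∑ χ ∈ s, (v q χ - v q' χ) * (v r χ - v r' χ) =
      (if q = r then 1 else 0) - (if q = r' then 1 else 0) - (if q' = r then 1 else 0) +
        if q' = r' then 1 else 0 := by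
  simp only [sub_mul, mul_sub, Finset.sum_sub_distrib, hgram]
  ring

/-- The star of the exceptional characters. -/
theorem exists_star [Nontrivial Q] (s : Finset α) (v : Q → α → ℤ) (e : ℤ) (d : α → ℕ)
    (hd : ∀ χ ∈ s, 0 < d χ)
    (hgram : ∀ q r, ∑ χ ∈ s, v q χ * v r χ = e + if q = r then 1 else 0)
    (hdeg : ∀ q, ∑ χ ∈ s, (d χ : ℤ) * v q χ = 0) :
    ∃ (θ : Q → α) (ε : ℤ), Function.Injective θ ∧ (∀ q, θ q ∈ s) ∧ (ε = 1 ∨ ε = -1) ∧
      ∀ q r, ∀ χ ∈ s, v q χ - v r χ =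
        ε * ((if χ = θ r then 1 else 0) - (if χ = θ q then 1 else 0)) := by
  have hpair : ∀ q r, q ≠ r → ∃ a ∈ s, ∃ b ∈ s, a ≠ b ∧
      ∀ χ ∈ s, v q χ - v r χ = (if χ = a then 1 else 0) - (if χ = b then 1 else 0) := by
    intro q r hqr
    refine pair_of_norm_two s (fun χ => v q χ - v r χ) d hd ?_ ?_
    · simp only [pow_two, sum_mul_sub s v e hgram q r q r, if_neg hqr, if_neg (Ne.symm hqr)]
      simp
    · simp only [mul_sub, Finset.sum_sub_distrib, hdeg, sub_zero]
  obtain ⟨q₀⟩ := (inferInstance : Nonempty Q)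
  have : Nonempty α := by
    obtain ⟨q₁, hq₁⟩ := exists_ne q₀
    obtain ⟨a, -⟩ := hpair q₁ q₀ hq₁
    exact ⟨a⟩
  choose! fa hfa fb hfb hab hv using fun q => hpair q q₀
  have hinner : ∀ q r, q ≠ q₀ → r ≠ q₀ → q ≠ r →
      (if fa q = fa r then (1 : ℤ) else 0) - (if fa q = fb r then 1 else 0) -
        (if fb q = fa r then 1 else 0) + (if fb q = fb r then 1 else 0) = 1 := by
    intro q r hq hr hqr
    have h := sum_mul_sub s v e hgram q q₀ r q₀
    rw [if_neg hqr, if_neg hq, if_neg (Ne.symm hr), if_pos rfl] at h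
    rw [Finset.sum_congr rfl fun χ hχ => by rw [hv q hq χ hχ, hv r hr χ hχ]] at h
    simp only [sub_mul, mul_sub, Finset.sum_sub_distrib, ite_mul, one_mul, zero_mul,
      Finset.sum_ite_eq', if_pos (hfa q hq), if_pos (hfb q hq)] at h
    linarith
  have hne : ∀ q r, q ≠ q₀ → r ≠ q₀ → q ≠ r →
      (fa q = fa r ∧ fb q ≠ fb r) ∨ (fb q = fb r ∧ fa q ≠ fa r) := by
    intro q r hq hr hqr
    have h := hinner q r hq hr hqr
    by_cases h1 : fa q = fa r
    · refine Or.inl ⟨h1, fun h2 => ?_⟩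
      rw [if_pos h1, if_pos h2, if_neg (fun h => hab r hr (h1.symm.trans h)),
        if_neg (fun h => hab r hr (h.symm.trans h2))] at h
      norm_num at h
    · by_cases h2 : fb q = fb r
      · exact Or.inr ⟨h2, h1⟩
      · rw [if_neg h1, if_neg h2] at h
        split_ifs at h <;> omega
  -- all differences share their positive or their negative end
  by_cases hA : ∀ q r, q ≠ q₀ → r ≠ q₀ → fa q = fa r
  · obtain ⟨q₁, hq₁⟩ := exists_ne q₀
    refine ⟨fun q => if q = q₀ then fa q₁ else fb q, 1, ?_, ?_, Or.inl rfl, ?_⟩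
    · intro q r h
      simp only at h
      by_contra hqr
      split_ifs at h with hq hr hr
      · exact hqr (hq.trans hr.symm)
      · exact hab r hr (by rw [← hA q₁ r hq₁ hr]; exact h)
      · exact hab q hq (by rw [← hA q₁ q hq₁ hq]; exact h.symm)
      · rcases hne q r hq hr hqr with h' | h'
        · exact h'.2 h
        · exact h'.2 (hA q r hq hr)
    · intro q
      dsimp only
      split_ifs with hq
      · exact hfa q₁ hq₁
      · exact hfb q hq
    · intro q r χ hχ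
      have key : ∀ q, v q χ - v q₀ χ = (if χ = fa q₁ then 1 else 0) -
          (if χ = (if q = q₀ then fa q₁ else fb q) then 1 else 0) := by
        intro q
        by_cases hq : q = q₀
        · simp [hq]
        · rw [if_neg hq, hv q hq χ hχ, hA q q₁ hq hq₁]
      have h1 := key q
      have h2 := key r
      dsimp only
      linarith
  · push Not at hA
    obtain ⟨q₁, r₁, hq₁, hr₁, hne₁⟩ := hA
    have hqr₁ : q₁ ≠ r₁ := fun h => hne₁ (by rw [h])
    have hB : ∀ q, q ≠ q₀ → fb q = fb q₁ := by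
      intro q hq
      by_contra hb
      have hb1 : fb q₁ = fb r₁ := by
        rcases hne q₁ r₁ hq₁ hr₁ hqr₁ with h | h
        · exact absurd h.1 hne₁
        · exact h.1
      have e1 : q ≠ q₁ := fun h => hb (by rw [h])
      have e2 : q ≠ r₁ := fun h => hb (by rw [h, hb1])
      rcases hne q q₁ hq hq₁ e1 with h | h
      · rcases hne q r₁ hq hr₁ e2 with h' | h'
        · exact hne₁ (h.1.symm.trans h'.1)
        · exact hb (h'.1.trans hb1.symm)
      · exact hb h.1
    refine ⟨fun q => if q = q₀ then fb q₁ else fa q, -1, ?_, ?_, Or.inr rfl, ?_⟩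
    · intro q r h
      simp only at h
      by_contra hqr
      split_ifs at h with hq hr hr
      · exact hqr (hq.trans hr.symm)
      · exact hab r hr (by rw [hB r hr]; exact h.symm)
      · exact hab q hq (by rw [hB q hq]; exact h)
      · rcases hne q r hq hr hqr with h' | h'
        · exact h'.2 ((hB q hq).trans (hB r hr).symm)
        · exact h'.2 h
    · intro q
      dsimp only
      split_ifs with hq
      · exact hfb q₁ hq₁
      · exact hfa q hq
    · intro q r χ hχ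
      have key : ∀ q, v q χ - v q₀ χ = (if χ = (if q = q₀ then fb q₁ else fa q) then 1 else 0) -
          (if χ = fb q₁ then 1 else 0) := by
        intro q
        by_cases hq : q = q₀
        · simp [hq]
        · rw [if_neg hq, hv q hq χ hχ, hB q hq]
      have h1 := key q
      have h2 := key r
      dsimp only
      linarith

omit [DecidableEq α] [DecidableEq Q] [Fintype Q] in
/-- At least `m` non-zero integers with squares summing to `m` are signs. -/
theorem signs_of_sum_sq (s : Finset α) (f : α → ℤ) (m : ℕ) (hne : ∀ χ ∈ s, f χ ≠ 0)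
    (hcard : m ≤ s.card) (hsum : ∑ χ ∈ s, f χ ^ 2 ≤ m) :
    s.card = m ∧ ∀ χ ∈ s, f χ = 1 ∨ f χ = -1 := by
  have h1 : ∀ χ ∈ s, (1 : ℤ) ≤ f χ ^ 2 := fun χ hχ => by
    have := sq_pos_of_ne_zero (hne χ hχ); omega
  have h2 : ((s.card : ℕ) : ℤ) ≤ ∑ χ ∈ s, f χ ^ 2 := by
    rw [show ((s.card : ℕ) : ℤ) = ∑ χ ∈ s, (1 : ℤ) by simp]
    exact Finset.sum_le_sum h1
  have h3 : ∑ χ ∈ s, f χ ^ 2 = ∑ χ ∈ s, (1 : ℤ) := by simp; omega
  refine ⟨by omega, fun χ hχ => ?_⟩
  exact sq_eq_one_iff.1 ((Finset.sum_eq_sum_iff_of_le h1).1 h3.symm χ hχ).symm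

/-- The shape of the vectors. -/
theorem exists_pattern [Nonempty Q] (s : Finset α) (v : Q → α → ℤ) (e : ℕ) (d : α → ℕ)
    (hd : ∀ χ ∈ s, 0 < d χ)
    (hgram : ∀ q r, ∑ χ ∈ s, v q χ * v r χ = (e : ℤ) + if q = r then 1 else 0)
    (hdeg : ∀ q, ∑ χ ∈ s, (d χ : ℤ) * v q χ = 0)
    (hne : ∀ χ ∈ s, ∃ q, v q χ ≠ 0) (hcard : e + Fintype.card Q ≤ s.card) :
    ∃ (θ : Q → α) (ε : ℤ) (sign : α → ℤ), Function.Injective θ ∧ (∀ q, θ q ∈ s) ∧
      (ε = 1 ∨ ε = -1) ∧ (∀ q r, v r (θ q) = if r = q then -ε else 0) ∧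
      (∀ χ ∈ s, (∀ q, θ q ≠ χ) → (sign χ = 1 ∨ sign χ = -1) ∧ ∀ r, v r χ = sign χ) ∧
      s.card = e + Fintype.card Q := by
  rcases subsingleton_or_nontrivial Q with hQ | hQ
  · obtain ⟨q₀⟩ := (inferInstance : Nonempty Q)
    have hQ1 : Fintype.card Q = 1 := Fintype.card_eq_one_iff.2 ⟨q₀, fun q => Subsingleton.elim _ _⟩
    have hv : ∀ q, v q = v q₀ := fun q => by rw [Subsingleton.elim q q₀]
    have h := hgram q₀ q₀
    simp only [← pow_two, if_true] at h
    obtain ⟨hc, hs⟩ := signs_of_sum_sq s (v q₀) (e + 1)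
      (fun χ hχ => by obtain ⟨q, hq⟩ := hne χ hχ; rwa [hv q] at hq) (by omega)
      (by push_cast; omega)
    obtain ⟨a, ha⟩ := Finset.card_pos.1 (show 0 < s.card by omega)
    refine ⟨fun _ => a, -v q₀ a, v q₀, fun q r _ => Subsingleton.elim q r, fun _ => ha, ?_,
      fun q r => ?_, fun χ hχ _ => ⟨hs χ hχ, fun r => by rw [hv r]⟩, by omega⟩
    · rcases hs a ha with h | h <;> simp [h]
    · rw [if_pos (Subsingleton.elim r q), neg_neg, hv r]
  obtain ⟨θ, ε, hθ, hθs, hε, hstar⟩ := exists_star s v e d hd hgram hdeg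
  obtain ⟨q₀⟩ := (inferInstance : Nonempty Q)
  set N := s.filter fun χ => ∀ q, θ q ≠ χ with hN
  have hsplit : ∀ f : α → ℤ, ∑ χ ∈ s, f χ = ∑ χ ∈ N, f χ + ∑ q, f (θ q) := by
    intro f
    rw [← Finset.sum_filter_add_sum_filter_not s (fun χ => ∀ q, θ q ≠ χ), ← hN]
    congr 1
    rw [eq_comm]
    refine Finset.sum_bij (fun q _ => θ q) (fun q _ => ?_) (fun q _ r _ h => hθ h) (fun χ hχ => ?_)
      (fun _ _ => rfl)
    · exact Finset.mem_filter.2 ⟨hθs q, fun h => h q rfl⟩
    · obtain ⟨-, h⟩ := Finset.mem_filter.1 hχ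
      push Not at h
      obtain ⟨q, rfl⟩ := h
      exact ⟨q, Finset.mem_univ _, rfl⟩
  have hNcard : s.card = N.card + Fintype.card Q := by
    have h := hsplit fun _ => 1
    simp only [Finset.sum_const, Int.nsmul_eq_mul, mul_one, Finset.card_univ] at h
    exact_mod_cast h
  have hconst : ∀ χ ∈ N, ∀ r, v r χ = v q₀ χ := by
    intro χ hχ r
    obtain ⟨hχs, hχθ⟩ := Finset.mem_filter.1 hχ
    have h := hstar r q₀ χ hχs
    rw [if_neg (Ne.symm (hχθ _)), if_neg (Ne.symm (hχθ _))] at h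
    linarith
  -- the value at a character outside its own orbit
  let b : Q → ℤ := fun q => v q (θ q) + ε
  have hb : ∀ q r, v r (θ q) = b q - if r = q then ε else 0 := by
    intro q r
    by_cases hr : r = q
    · simp [b, hr]
    · have h := hstar r q (θ q) (hθs q)
      rw [if_pos rfl, if_neg (fun h => hr (hθ h).symm)] at h
      simp only [if_neg hr, b]
      linarith
  have heq : ∀ r, ∑ χ ∈ N, v q₀ χ ^ 2 + ∑ q, b q ^ 2 - 2 * ε * b r + 1 = (e : ℤ) + 1 := by
    intro r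
    have h := hgram r r
    simp only [← pow_two, if_true] at h
    rw [hsplit (fun χ => v r χ ^ 2), Finset.sum_congr rfl fun χ hχ => by rw [hconst χ hχ r]] at h
    have h2 : ∑ q, v r (θ q) ^ 2 = ∑ q, (b q ^ 2 + if r = q then 1 - 2 * ε * b q else 0) := by
      refine Finset.sum_congr rfl fun q _ => ?_
      rw [hb]
      split_ifs
      · rcases hε with rfl | rfl <;> ring
      · ring
    rw [h2, Finset.sum_add_distrib, Finset.sum_ite_eq, if_pos (Finset.mem_univ r)] at h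
    linarith
  have hbc : ∀ r, b r = b q₀ := fun r => by
    have h1 := heq r
    have h2 := heq q₀
    rcases hε with rfl | rfl <;> linarith
  have hNne : ∀ χ ∈ N, v q₀ χ ≠ 0 := by
    intro χ hχ h
    obtain ⟨r, hr⟩ := hne χ (Finset.mem_filter.1 hχ).1
    exact hr ((hconst χ hχ r).trans h)
  have hsumN : (N.card : ℤ) ≤ ∑ χ ∈ N, v q₀ χ ^ 2 := by
    rw [show ((N.card : ℕ) : ℤ) = ∑ χ ∈ N, (1 : ℤ) by simp]
    exact Finset.sum_le_sum fun χ hχ => by have := sq_pos_of_ne_zero (hNne χ hχ); omega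
  have hb2 : ∑ q, b q ^ 2 = (Fintype.card Q : ℤ) * b q₀ ^ 2 := by
    simp [Finset.sum_congr rfl fun q _ => congrArg (· ^ 2) (hbc q)]
  have h0 := heq q₀
  have hN' : (e : ℤ) ≤ N.card := by exact_mod_cast (show e ≤ N.card by omega)
  have hQ2 : (2 : ℤ) ≤ Fintype.card Q := by exact_mod_cast Fintype.one_lt_card
  have hcases : b q₀ = 0 ∨ (b q₀ = ε ∧ Fintype.card Q = 2) := by
    rw [hb2] at h0
    have hle : (Fintype.card Q : ℤ) * b q₀ ^ 2 ≤ 2 * ε * b q₀ := by linarith
    have hle2 : 2 * b q₀ ^ 2 ≤ 2 * ε * b q₀ := by nlinarith [sq_nonneg (b q₀)]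
    rcases hε with rfl | rfl
    · have e1 : 0 ≤ b q₀ := by nlinarith [sq_nonneg (b q₀)]
      have e2 : b q₀ ≤ 1 := by nlinarith
      rcases (show b q₀ = 0 ∨ b q₀ = 1 by omega) with h | h
      · exact Or.inl h
      · rw [h] at hle; exact Or.inr ⟨h, by omega⟩
    · have e1 : b q₀ ≤ 0 := by nlinarith [sq_nonneg (b q₀)]
      have e2 : -1 ≤ b q₀ := by nlinarith
      rcases (show b q₀ = 0 ∨ b q₀ = -1 by omega) with h | h
      · exact Or.inl h
      · rw [h] at hle; exact Or.inr ⟨h, by omega⟩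
  have hres : ∀ (θ' : Q → α), Function.Injective θ' → (∀ χ, (∀ q, θ' q ≠ χ) ↔ ∀ q, θ q ≠ χ) →
      ∑ q, b q ^ 2 - 2 * ε * b q₀ = 0 →
      (∀ χ ∈ s, (∀ q, θ' q ≠ χ) → (v q₀ χ = 1 ∨ v q₀ χ = -1) ∧ ∀ r, v r χ = v q₀ χ) ∧
        s.card = e + Fintype.card Q := by
    intro θ' _ hiff hzero
    obtain ⟨hc, hs⟩ := signs_of_sum_sq N (v q₀) e hNne (by omega) (by linarith)
    exact ⟨fun χ hχ h => ⟨hs χ (Finset.mem_filter.2 ⟨hχ, (hiff χ).1 h⟩),
      hconst χ (Finset.mem_filter.2 ⟨hχ, (hiff χ).1 h⟩)⟩, by omega⟩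
  rcases hcases with h | ⟨h, hQc⟩
  · obtain ⟨h1, h2⟩ := hres θ hθ (fun _ => Iff.rfl) (by rw [hb2, h]; ring)
    refine ⟨θ, ε, v q₀, hθ, hθs, hε, fun q r => ?_, h1, h2⟩
    rw [hb, hbc, h]
    split_ifs <;> ring
  · -- exchange the two exceptional characters
    obtain ⟨q₁, hq₁⟩ := exists_ne q₀
    have huniv : ∀ q, q = q₀ ∨ q = q₁ := by
      intro q
      by_contra hq
      push Not at hq
      have h3 := Finset.card_le_univ ({q₀, q₁, q} : Finset Q)
      rw [Finset.card_insert_of_notMem (by simp [Ne.symm hq₁, Ne.symm hq.1]),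
        Finset.card_insert_of_notMem (by simp [Ne.symm hq.2]), Finset.card_singleton, hQc] at h3
      omega
    let σ : Q ≃ Q := Equiv.swap q₀ q₁
    have hσ : ∀ q r, r = σ q ↔ r ≠ q := by
      intro q r
      rcases huniv q with rfl | rfl <;> rcases huniv r with rfl | rfl <;>
        simp [σ, hq₁, Ne.symm hq₁]
    obtain ⟨h1, h2⟩ := hres (θ ∘ σ) (hθ.comp σ.injective)
      (fun χ => ⟨fun h q => by simpa using h (σ.symm q), fun h q => h (σ q)⟩)
      (by rw [hb2, h, hQc]; rcases hε with rfl | rfl <;> norm_num)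
    refine ⟨θ ∘ σ, -ε, v q₀, hθ.comp σ.injective, fun q => hθs _, ?_, fun q r => ?_, h1, h2⟩
    · rcases hε with rfl | rfl <;> simp
    · rw [Function.comp_apply, hb, hbc, h, neg_neg]
      by_cases hr : r = q
      · rw [if_pos hr, if_neg (fun h => (hσ q r).1 h hr), sub_zero]
      · rw [if_neg hr, if_pos ((hσ q r).2 hr), sub_self]

end CfsgLib.PrimeDefect
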