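import Cfsg.Agent.Lib.PrimeDefect.Count
import Cfsg.Agent.Lib.PrimeDefect.Pattern

/-!
# Sylow subgroups of prime order: the characters of a block of positive defect

`B` is the disjoint union of `X` (`e` characters with signs) and a family `θ` indexed by the `t`
orbits of the inertial exponents on the non-zero residues.
-/

set_option autoImplicit false
set_option linter.unusedSectionVars false
set_option linter.style.haveILetI false

noncomputable section

namespace CfsgLib.PrimeDefect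

open Cfsg CfsgLib.Characters CfsgLib.SelfCentralPrime
open scoped ComplexConjugate

universe u

variable {G : Type u} [Group G] {p : ℕ} [hp : Fact p.Prime] {x : G} {C V : Subgroup G}
variable (D : Data p x C V) [Fintype G] [Fintype C] [Fintype V]

/-- The characters of a block of positive defect, seen on `x ^ i V` through `β`. -/
structure Family (B : Set (IrrCharacter G)) (β : IrrCharacter V) where
  /-- The characters outside the exceptional family. -/
  X : Finset (IrrCharacter G)
  /-- The exceptional characters. -/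
  θ : D.Orbits β → IrrCharacter G
  /-- The sign of the exceptional family. -/
  ε : ℤ
  /-- The signs of the other characters. -/
  sign : IrrCharacter G → ℤ
  θ_injective : Function.Injective θ
  θ_notMem : ∀ q, θ q ∉ X
  mem_iff : ∀ χ, χ ∈ B ↔ χ ∈ X ∨ ∃ q, θ q = χ
  card_X : X.card = Nat.card (D.expH β)
  ε_spec : ε = 1 ∨ ε = -1
  sign_spec : ∀ χ ∈ X, sign χ = 1 ∨ sign χ = -1
  mult_X : ∀ χ ∈ X, ∀ u : (ZMod p)ˣ, (D.mult χ (u : ZMod p) β : ℤ) = D.mult χ 0 β - sign χ
  mult_θ_eq : ∀ (q : D.Orbits β) (u : (ZMod p)ˣ), (u : D.Orbits β) = q →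
    (D.mult (θ q) (u : ZMod p) β : ℤ) = D.mult (θ q) 0 β + ε
  mult_θ_ne : ∀ (q : D.Orbits β) (u : (ZMod p)ˣ), (u : D.Orbits β) ≠ q →
    (D.mult (θ q) (u : ZMod p) β : ℤ) = D.mult (θ q) 0 β
  relation : ∀ y : G, ¬ p ∣ orderOf y → ∀ q,
    (∑ χ ∈ X, (sign χ : ℂ) * (χ : G → ℂ) y) = (ε : ℂ) * (θ q : G → ℂ) y

namespace Data

variable {M : Ideal AlgInt}

include D

open scoped Classical in
/-- The structure of a block of positive defect. -/
theorem exists_family (hM : IsPModular p M) {B : Set (IrrCharacter G)} (hB : IsPBlock M B)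
    (hd : 0 < blockDefect p B) {β : IrrCharacter V} (hβ : D.Hits M B β) :
    Nonempty (Family D B β) := by
  haveI := hM.2.1
  haveI := Fintype.ofFinite (D.Orbits β)
  set s : Finset (IrrCharacter G) := Finset.univ.filter (· ∈ B) with hsdef
  have hs : ∀ χ, χ ∈ s ↔ χ ∈ B := fun χ => by simp [s]
  have hcard : Nat.card (D.expH β) + Fintype.card (D.Orbits β) ≤ s.card := by
    rw [← Nat.card_eq_fintype_card]
    exact D.card_block_ge hM hB hs hβ
  obtain ⟨θ, ε, sign, hθ, hθs, hε, hθv, hX, hsc⟩ := exists_pattern s (fun q χ => D.diff β q χ)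
    (Nat.card (D.expH β)) (fun χ => charDegree (χ : G → ℂ))
    (fun χ _ => (ClassCount.degree_eq χ).2.2)
    (fun q r => D.sum_diff_orbits hM hB hs hβ q r)
    (fun q => by
      have h := D.sum_regular_orbit hM hB hs hβ (y := 1)
        (by rw [orderOf_one]; exact hp.out.not_dvd_one) q
      have h' : ((∑ χ ∈ s, (charDegree (χ : G → ℂ) : ℤ) * D.diff β q χ : ℤ) : ℂ) = 0 := by
        push_cast
        rw [← h]
        exact Finset.sum_congr rfl fun χ _ => by
          rw [LinearTwist.apply_one_eq_charDegree (irr_isCharacter χ)]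
      exact_mod_cast h')
    (fun χ hχ => by
      obtain ⟨a, ha⟩ := D.exists_mult_ne hM hB hβ hd ((hs χ).1 hχ)
      have ha0 : a ≠ 0 := fun h => ha (h ▸ rfl)
      refine ⟨(Units.mk0 a ha0 : (ZMod p)ˣ), fun h => ha ?_⟩
      have h2 := D.mult_orbit β χ (Units.mk0 a ha0)
      rw [Units.val_mk0] at h2
      simp only [Data.diff] at h
      omega)
    hcard
  refine ⟨⟨s.filter fun χ => ∀ q, θ q ≠ χ, θ, ε, sign, hθ, fun q h => (Finset.mem_filter.1 h).2 q rfl,
    fun χ => ⟨fun hχ => ?_, fun hχ => ?_⟩, ?_, hε,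
    fun χ hχ => (hX χ (Finset.mem_filter.1 hχ).1 (Finset.mem_filter.1 hχ).2).1,
    fun χ hχ u => ?_, fun q u hu => ?_, fun q u hu => ?_, fun y hy q => ?_⟩⟩
  · by_cases h : ∀ q, θ q ≠ χ
    · exact Or.inl (Finset.mem_filter.2 ⟨(hs χ).2 hχ, h⟩)
    · push Not at h; exact Or.inr h
  · rcases hχ with h | ⟨q, rfl⟩
    · exact (hs χ).1 (Finset.mem_filter.1 h).1
    · exact (hs _).1 (hθs q)
  · have himg : s.filter (fun χ => ¬ ∀ q, θ q ≠ χ) = Finset.univ.image θ := by
      ext χ
      simp only [Finset.mem_filter, Finset.mem_image, Finset.mem_univ, true_and]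
      push Not
      exact ⟨fun h => h.2, fun ⟨q, hq⟩ => ⟨hq ▸ hθs q, q, hq⟩⟩
    have h := Finset.card_filter_add_card_filter_not (s := s) (fun χ => ∀ q, θ q ≠ χ)
    rw [himg, Finset.card_image_of_injective _ hθ, Finset.card_univ] at h
    omega
  · have h := (hX χ (Finset.mem_filter.1 hχ).1 (Finset.mem_filter.1 hχ).2).2 (u : D.Orbits β)
    rw [D.mult_orbit β χ u]
    simp only [Data.diff] at h
    omega
  · have h := hθv q (u : D.Orbits β)
    rw [D.mult_orbit β (θ q) u]
    simp only [Data.diff, hu, if_true] at h ⊢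
    omega
  · have h := hθv q (u : D.Orbits β)
    rw [D.mult_orbit β (θ q) u]
    simp only [Data.diff, if_neg hu] at h ⊢
    omega
  · have h := D.sum_regular_orbit hM hB hs hβ hy q
    rw [← Finset.sum_filter_add_sum_filter_not s (fun χ => ∀ r, θ r ≠ χ)] at h
    rw [Finset.sum_congr rfl (g := fun χ => (sign χ : ℂ) * (χ : G → ℂ) y) fun χ hχ => by
      rw [(hX χ (Finset.mem_filter.1 hχ).1 (Finset.mem_filter.1 hχ).2).2 q, mul_comm]] at h
    rw [Finset.sum_eq_single (s := s.filter fun χ => ¬ ∀ r, θ r ≠ χ) (θ q)] at h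
    · rw [hθv q q, if_pos rfl] at h
      push_cast at h
      linear_combination h
    · intro χ hχ hne
      obtain ⟨-, hχ⟩ := Finset.mem_filter.1 hχ
      push Not at hχ
      obtain ⟨r, rfl⟩ := hχ
      rw [hθv r q, if_neg fun hqr : q = r => hne (hqr ▸ rfl)]
      simp
    · intro hn
      exact absurd (Finset.mem_filter.2 ⟨hθs q, fun h => h q rfl⟩) hn

theorem card_expH_mul (β : IrrCharacter V) :
    Nat.card (D.expH β) * Nat.card (D.Orbits β) = p - 1 := by
  rw [← D.card_units, Subgroup.card_eq_card_quotient_mul_card_subgroup (D.expH β), mul_comm]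

/-- The number of residues in an orbit. -/
theorem card_orbit (β : IrrCharacter V) (q : D.Orbits β) :
    Nat.card {u : (ZMod p)ˣ // (u : D.Orbits β) = q} = Nat.card (D.expH β) := by
  refine Nat.card_congr ⟨fun u => ⟨q.out⁻¹ * u.1, ?_⟩, fun h => ⟨q.out * h.1, ?_⟩,
    fun u => Subtype.ext (mul_inv_cancel_left _ _), fun h => Subtype.ext (inv_mul_cancel_left _ _)⟩
  · rw [← QuotientGroup.eq]
    exact q.out_eq.trans u.2.symm
  · conv_rhs => rw [← q.out_eq]
    rw [eq_comm, QuotientGroup.eq]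
    simp

theorem sum_residues {R : Type*} [AddCommMonoid R] (f : ZMod p → R) :
    ∑ a : ZMod p, f a = f 0 + ∑ u : (ZMod p)ˣ, f (u : ZMod p) := by
  classical
  rw [← Finset.add_sum_erase _ f (Finset.mem_univ (0 : ZMod p))]
  congr 1
  rw [eq_comm]
  exact Finset.sum_bij (fun u _ => (u : ZMod p))
    (fun u _ => Finset.mem_erase.2 ⟨u.ne_zero, Finset.mem_univ _⟩)
    (fun a _ b _ h => Units.ext h)
    (fun a ha => ⟨Units.mk0 a (Finset.mem_erase.1 ha).1, Finset.mem_univ _, rfl⟩) fun _ _ => rfl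

end Data

namespace Family

variable {D} {B : Set (IrrCharacter G)} {β : IrrCharacter V} (F : Family D B β)

include F

open scoped Classical in
theorem mult_θ (q : D.Orbits β) (u : (ZMod p)ˣ) :
    (D.mult (F.θ q) (u : ZMod p) β : ℤ) =
      D.mult (F.θ q) 0 β + if (u : D.Orbits β) = q then F.ε else 0 := by
  split_ifs with h
  · exact F.mult_θ_eq q u h
  · rw [add_zero]; exact F.mult_θ_ne q u h

theorem mem_of_mem_X {χ : IrrCharacter G} (h : χ ∈ F.X) : χ ∈ B := (F.mem_iff χ).2 (Or.inl h)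

theorem θ_mem (q : D.Orbits β) : F.θ q ∈ B := (F.mem_iff _).2 (Or.inr ⟨q, rfl⟩)

/-- `B` has `e + t` characters. -/
theorem card_block : Nat.card B = Nat.card (D.expH β) + Nat.card (D.Orbits β) := by
  classical
  haveI := Fintype.ofFinite (D.Orbits β)
  have hB : B = ↑(F.X ∪ Finset.univ.image F.θ) := by
    ext χ
    simp [F.mem_iff]
  have hdis : Disjoint F.X (Finset.univ.image F.θ) := by
    rw [Finset.disjoint_left]
    intro χ hχ hχ'
    obtain ⟨q, -, rfl⟩ := Finset.mem_image.1 hχ'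
    exact F.θ_notMem q hχ
  rw [hB, Nat.card_coe_set_eq, Set.ncard_coe_finset, Finset.card_union_of_disjoint hdis,
    F.card_X, Finset.card_image_of_injective _ F.θ_injective, Finset.card_univ,
    Nat.card_eq_fintype_card (α := D.Orbits β)]

/-- The exceptional characters agree on the elements of order prime to `p`. -/
theorem θ_regular_eq {y : G} (hy : ¬ p ∣ orderOf y) (q r : D.Orbits β) :
    (F.θ q : G → ℂ) y = (F.θ r : G → ℂ) y := by
  have h := (F.relation y hy q).symm.trans (F.relation y hy r)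
  refine mul_left_cancel₀ ?_ h
  rcases F.ε_spec with h | h <;> simp [h]

theorem coef_X {χ : IrrCharacter G} (hχ : χ ∈ F.X) {i : ZMod p} (hi : i ≠ 0) :
    D.coef χ i β = (F.sign χ : ℂ) := by
  classical
  rw [D.coef_eq]
  have h : ∀ a : ZMod p, (D.mult χ a β : ℂ) =
      (D.mult χ 0 β : ℂ) - (F.sign χ : ℂ) + if a = 0 then (F.sign χ : ℂ) else 0 := by
    intro a
    by_cases ha : a = 0
    · subst ha; simp
    · rw [if_neg ha, add_zero]
      have := congrArg (Int.cast : ℤ → ℂ) (F.mult_X χ hχ (Units.mk0 a ha))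
      simpa using this
  rw [Finset.sum_congr rfl (g := fun a : ZMod p => ((D.mult χ 0 β : ℂ) - (F.sign χ : ℂ) +
    if a = 0 then (F.sign χ : ℂ) else 0) * ZMod.stdAddChar (i * a)) fun a _ => by rw [h a]]
  simp only [add_mul, Finset.sum_add_distrib, ite_mul, zero_mul]
  rw [← Finset.mul_sum, show ∑ a : ZMod p, ZMod.stdAddChar (i * a) =
    ∑ a : ZMod p, ZMod.stdAddChar (a * i) from Finset.sum_congr rfl fun a _ => by rw [mul_comm],
    sum_std, if_neg hi, mul_zero, zero_add, Finset.sum_ite_eq', if_pos (Finset.mem_univ _),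
    mul_zero, AddChar.map_zero_eq_one, mul_one]

theorem sum_mult_X {χ : IrrCharacter G} (hχ : χ ∈ F.X) :
    ∑ a : ZMod p, (D.mult χ a β : ℤ) = p * ((D.mult χ 0 β : ℤ) - F.sign χ) + F.sign χ := by
  rw [D.sum_residues fun a => (D.mult χ a β : ℤ),
    Finset.sum_congr rfl fun u _ => F.mult_X χ hχ u, Finset.sum_const, Finset.card_univ,
    ZMod.card_units, nsmul_eq_mul, Nat.cast_sub hp.out.one_le]
  push_cast
  ring

theorem sum_mult_θ (q : D.Orbits β) :
    ∑ a : ZMod p, (D.mult (F.θ q) a β : ℤ) =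
      p * (D.mult (F.θ q) 0 β : ℤ) + F.ε * Nat.card (D.expH β) := by
  classical
  rw [D.sum_residues fun a => (D.mult (F.θ q) a β : ℤ),
    Finset.sum_congr rfl fun u _ => F.mult_θ q u, Finset.sum_add_distrib, Finset.sum_const,
    Finset.card_univ, ZMod.card_units, nsmul_eq_mul, Nat.cast_sub hp.out.one_le,
    ← Finset.sum_filter, Finset.sum_const, nsmul_eq_mul, ← D.card_orbit β q,
    Nat.card_eq_fintype_card, Fintype.card_subtype]
  push_cast
  ring

theorem mult_zero_θ_eq (q r : D.Orbits β) :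
    D.mult (F.θ q) 0 β = D.mult (F.θ r) 0 β := by
  have hcoef : D.coef (F.θ q) 0 β = D.coef (F.θ r) 0 β := by
    simp only [Data.coef, D.pw_zero, one_mul]
    congr 1
    exact Finset.sum_congr rfl fun v _ => by rw [F.θ_regular_eq (D.regular v.2) q r]
  rw [D.coef_eq, D.coef_eq] at hcoef
  simp only [zero_mul, AddChar.map_zero_eq_one, mul_one] at hcoef
  have h : ∑ a : ZMod p, (D.mult (F.θ q) a β : ℤ) = ∑ a : ZMod p, (D.mult (F.θ r) a β : ℤ) := by
    exact_mod_cast hcoef
  rw [F.sum_mult_θ, F.sum_mult_θ] at h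
  have := mul_left_cancel₀ (Int.natCast_ne_zero.2 hp.out.ne_zero) (add_right_cancel h)
  exact_mod_cast this

variable {M : Ideal AlgInt}

open scoped Classical in
/-- The degree modulo `p`, in terms of the multiplicities at `β`. -/
theorem degree_congr (hM : IsPModular p M) (hB : IsPBlock M B) (hβ : D.Hits M B β)
    {χ : IrrCharacter G} (hχ : χ ∈ B) :
    (charDegree (χ : G → ℂ) : ℤ) ≡
      ((Finset.univ.filter fun γ => D.Hits M B γ).card * charDegree (β : V → ℂ) : ℕ) *
        ∑ a : ZMod p, (D.mult χ a β : ℤ) [ZMOD p] := by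
  have h1 : (charDegree (χ : G → ℂ) : ℤ) =
      ∑ γ : IrrCharacter V, (∑ a : ZMod p, (D.mult χ a γ : ℤ)) * charDegree (γ : V → ℂ) := by
    have h := D.degree_eq χ
    rw [LinearTwist.apply_one_eq_charDegree (irr_isCharacter χ)] at h
    have e : ∀ γ : IrrCharacter V, ∑ a : ZMod p, (D.mult χ a γ : ℂ) * (γ : V → ℂ) 1 =
        (∑ a : ZMod p, (D.mult χ a γ : ℂ)) * (charDegree (γ : V → ℂ) : ℂ) := fun γ => by
      rw [Finset.sum_mul, LinearTwist.apply_one_eq_charDegree (irr_isCharacter γ)]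
    rw [Finset.sum_congr rfl fun γ _ => e γ] at h
    exact_mod_cast h
  rw [h1, ← Finset.sum_filter_add_sum_filter_not Finset.univ (fun γ => D.Hits M B γ)]
  have h2 : ∀ γ ∈ Finset.univ.filter (fun γ => D.Hits M B γ),
      (∑ a : ZMod p, (D.mult χ a γ : ℤ)) * charDegree (γ : V → ℂ) =
        (charDegree (β : V → ℂ) : ℤ) * ∑ a : ZMod p, (D.mult χ a β : ℤ) := by
    intro γ hγ
    obtain ⟨n, rfl⟩ := D.exists_cj_of_hits hM hβ (Finset.mem_filter.1 hγ).2
    rw [show charDegree (D.cj n β : V → ℂ) = charDegree (β : V → ℂ) by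
      rw [charDegree, charDegree, D.cj_one_apply], mul_comm]
    congr 1
    simp only [D.mult_cj]
    exact Fintype.sum_equiv (Units.mulLeft (D.mu n)⁻¹) _ _ fun a => rfl
  have h3 : ∀ γ ∈ Finset.univ.filter (fun γ => ¬ D.Hits M B γ),
      (p : ℤ) ∣ (∑ a : ZMod p, (D.mult χ a γ : ℤ)) * charDegree (γ : V → ℂ) := by
    intro γ hγ
    have hconst : ∀ a, D.mult χ a γ = D.mult χ 0 γ := by
      intro a
      have h : (p : ℂ) * ((D.mult χ a γ : ℂ) - D.mult χ 0 γ) = 0 := by
        rw [D.mult_sub]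
        exact Finset.sum_eq_zero fun i hi => by
          rw [D.coef_eq_zero hM hB hχ (Finset.mem_erase.1 hi).1 (Finset.mem_filter.1 hγ).2,
            zero_mul]
      exact_mod_cast sub_eq_zero.1 ((mul_eq_zero.1 h).resolve_left
        (Nat.cast_ne_zero.2 hp.out.ne_zero))
    simp only [hconst, Finset.sum_const, Finset.card_univ, ZMod.card, nsmul_eq_mul]
    exact Dvd.intro _ (mul_assoc _ _ _).symm
  rw [Finset.sum_congr rfl h2, Finset.sum_const, nsmul_eq_mul]
  obtain ⟨c, hc⟩ := Finset.dvd_sum h3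
  rw [hc, Int.modEq_iff_dvd]
  refine ⟨-c, ?_⟩
  push_cast
  ring

open scoped Classical in
/-- The value of a character of `X` on `x ^ i v`. -/
theorem value_X (hM : IsPModular p M) (hB : IsPBlock M B) (hβ : D.Hits M B β)
    {χ : IrrCharacter G} (hχ : χ ∈ F.X) {i : ZMod p} (hi : i ≠ 0) (v : V) :
    (χ : G → ℂ) (pw x i * v) =
      (F.sign χ : ℂ) * ∑ γ ∈ Finset.univ.filter (fun γ => D.Hits M B γ), (γ : V → ℂ) v := by
  rw [D.value_eq_coef, ← Finset.sum_filter_add_sum_filter_not Finset.univ (fun γ => D.Hits M B γ),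
    Finset.mul_sum]
  rw [Finset.sum_eq_zero (s := Finset.univ.filter fun γ => ¬ D.Hits M B γ) (fun γ hγ => by
    rw [D.coef_eq_zero hM hB (F.mem_of_mem_X hχ) hi (Finset.mem_filter.1 hγ).2, zero_mul]),
    add_zero]
  refine Finset.sum_congr rfl fun γ hγ => ?_
  obtain ⟨n, rfl⟩ := D.exists_cj_of_hits hM hβ (Finset.mem_filter.1 hγ).2
  rw [D.coef_cj, F.coef_X hχ (mul_ne_zero (D.mu n).ne_zero hi)]

end Family

namespace Data

variable {M : Ideal AlgInt}

include D

open scoped Classical in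
/-- The size of the local orbit. -/
theorem card_hits_mul (hM : IsPModular p M) {B : Set (IrrCharacter G)} {β : IrrCharacter V}
    (hβ : D.Hits M B β) :
    (Finset.univ.filter fun γ => D.Hits M B γ).card * Nat.card (D.stab β) = Nat.card (nrm x) := by
  haveI := Fintype.ofFinite (nrm x)
  have himg : (Finset.univ.filter fun γ => D.Hits M B γ) =
      (Finset.univ : Finset (nrm x)).image fun n => D.cj n β := by
    ext γ
    simp only [Finset.mem_filter, Finset.mem_univ, true_and, Finset.mem_image]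
    rw [D.hits_iff hM hβ]
    exact ⟨fun ⟨n, h⟩ => ⟨n, h.symm⟩, fun ⟨n, h⟩ => ⟨n, h.symm⟩⟩
  have hfib : ∀ γ ∈ (Finset.univ : Finset (nrm x)).image (fun n => D.cj n β),
      ((Finset.univ : Finset (nrm x)).filter fun n => D.cj n β = γ).card = Nat.card (D.stab β) := by
    intro γ hγ
    obtain ⟨m, -, rfl⟩ := Finset.mem_image.1 hγ
    rw [← Fintype.card_subtype, ← Nat.card_eq_fintype_card]
    refine Nat.card_congr ⟨fun n => ⟨n.1 * m⁻¹, ?_⟩, fun n => ⟨n.1 * m, ?_⟩,
      fun n => Subtype.ext (inv_mul_cancel_right _ _), fun n => Subtype.ext (mul_inv_cancel_right _ _)⟩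
    · rw [D.mem_stab, ← D.cj_mul, n.2, D.cj_mul, mul_inv_cancel, D.cj_one]
    · rw [← D.cj_mul, D.mem_stab.1 n.2]
  rw [himg, Nat.card_eq_fintype_card (α := nrm x), ← Finset.card_univ,
    Finset.card_eq_sum_card_image (fun n => D.cj n β) (Finset.univ : Finset (nrm x)),
    Finset.sum_congr rfl hfib, Finset.sum_const, smul_eq_mul]

/-- The order of the stabiliser. -/
theorem card_stab (β : IrrCharacter V) :
    Nat.card (D.stab β) = Nat.card C * Nat.card (D.expH β) := by
  let f : D.stab β →* (ZMod p)ˣ := D.muHom.comp (D.stab β).subtype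
  have hrange : f.range = D.expH β := by
    rw [MonoidHom.range_comp, Subgroup.range_subtype]
    rfl
  have hker : Nat.card f.ker = Nat.card C := Nat.card_congr
    ⟨fun n => ⟨((n.1 : nrm x) : G), (D.mu_eq_one_iff n.1.1).1 n.2⟩,
      fun c => ⟨⟨⟨c, D.C_le c.2⟩, D.cj_of_mem_C _ c.2 β⟩,
        (D.mu_eq_one_iff ⟨(c : G), D.C_le c.2⟩).2 c.2⟩,
      fun _ => rfl, fun _ => rfl⟩
  rw [Subgroup.card_eq_card_quotient_mul_card_subgroup f.ker,
    Nat.card_congr (QuotientGroup.quotientKerEquivRange f).toEquiv, hker, hrange, mul_comm]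

theorem card_nrm : Nat.card (nrm x) = Nat.card C * Nat.card D.muHom.range := by
  have hker : Nat.card D.muHom.ker = Nat.card C := Nat.card_congr
    ⟨fun n => ⟨((n.1 : nrm x) : G), (D.mu_eq_one_iff n.1).1 n.2⟩,
      fun c => ⟨⟨c, D.C_le c.2⟩, (D.mu_eq_one_iff ⟨(c : G), D.C_le c.2⟩).2 c.2⟩,
      fun _ => rfl, fun _ => rfl⟩
  rw [Subgroup.card_eq_card_quotient_mul_card_subgroup D.muHom.ker,
    Nat.card_congr (QuotientGroup.quotientKerEquivRange D.muHom).toEquiv, hker, mul_comm]

open scoped Classical in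
/-- The size of the local orbit times `e` is the index of the centraliser in the normaliser. -/
theorem card_hits_mul_expH (hM : IsPModular p M) {B : Set (IrrCharacter G)} {β : IrrCharacter V}
    (hβ : D.Hits M B β) :
    (Finset.univ.filter fun γ => D.Hits M B γ).card * Nat.card (D.expH β) =
      Nat.card D.muHom.range := by
  have h := D.card_hits_mul hM hβ
  rw [D.card_stab, D.card_nrm, mul_left_comm] at h
  exact mul_left_cancel₀ (Nat.card_pos (α := C)).ne' h

end Data

end CfsgLib.PrimeDefect
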