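import Cfsg.Agent.Lib.PrimeDefect.Orbit
import Cfsg.Agent.Lib.Blocks.RankOrth

/-!
# Sylow subgroups of prime order: the orthogonality relations inside a block
-/

set_option autoImplicit false
set_option linter.unusedSectionVars false
set_option linter.style.haveILetI false

noncomputable section

namespace CfsgLib.PrimeDefect

open Cfsg CfsgLib.Characters CfsgLib.SelfCentralPrime
open scoped ComplexConjugate

universe u

variable {G : Type u} [Group G] {p : ℕ} [hp : Fact p.Prime] {x : G} {C V : Subgroup G}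
variable (D : Data p x C V)

include D

namespace Data

variable [Finite G]

/-- The stabiliser of a character of `V` in the normaliser. -/
def stab (β : IrrCharacter V) : Subgroup (nrm x) where
  carrier := {n | D.cj n β = β}
  one_mem' := D.cj_one β
  mul_mem' {a b} ha hb := by
    show D.cj (a * b) β = β
    rw [← D.cj_mul, ha, hb]
  inv_mem' {a} ha := by
    show D.cj a⁻¹ β = β
    conv_lhs => rw [← (show D.cj a β = β from ha)]
    rw [D.cj_mul, mul_inv_cancel, D.cj_one]

theorem mem_stab {β : IrrCharacter V} {n : nrm x} : n ∈ D.stab β ↔ D.cj n β = β := Iff.rfl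

/-- The exponents of the stabiliser. -/
def expH (β : IrrCharacter V) : Subgroup (ZMod p)ˣ := (D.stab β).map D.muHom

theorem mem_expH {β : IrrCharacter V} {h : (ZMod p)ˣ} :
    h ∈ D.expH β ↔ ∃ n : nrm x, D.cj n β = β ∧ D.mu n = h := Iff.rfl

variable [Fintype G] [Fintype C] [Fintype V] {M : Ideal AlgInt}

theorem coef_cj (n : nrm x) (χ : IrrCharacter G) (i : ZMod p) (β : IrrCharacter V) :
    D.coef χ i (D.cj n β) = D.coef χ ((D.mu n : ZMod p) * i) β := by
  simp only [Data.coef]
  congr 1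
  refine Fintype.sum_bijective (D.cjV n) (D.cjV_bijective n) _ _ fun v => ?_
  rw [D.cj_apply, D.cjV_coe, ← D.conj_pw]
  congr 1
  rw [show (n : G) * pw x i * (n : G)⁻¹ * ((n : G) * v * (n : G)⁻¹) =
    (n : G) * (pw x i * v) * (n : G)⁻¹ by group]
  exact (irr_isClassFunction χ _ _).symm

theorem mult_cj (n : nrm x) (χ : IrrCharacter G) (a : ZMod p) (β : IrrCharacter V) :
    D.mult χ a (D.cj n β) = D.mult χ (((D.mu n)⁻¹ : (ZMod p)ˣ) * a) β := by
  have h : (p : ℂ) * (D.mult χ a (D.cj n β) : ℂ) =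
      (p : ℂ) * (D.mult χ (((D.mu n)⁻¹ : (ZMod p)ˣ) * a) β : ℂ) := by
    rw [D.mult_eq, D.mult_eq]
    refine Fintype.sum_equiv (Units.mulLeft (D.mu n)) _ _ fun i => ?_
    rw [D.coef_cj, Units.mulLeft_apply]
    congr 2
    linear_combination (i * a) * (D.mu n).mul_inv
  exact_mod_cast mul_left_cancel₀ (Nat.cast_ne_zero.2 hp.out.ne_zero) h

theorem mult_expH {β : IrrCharacter V} {h : (ZMod p)ˣ} (hh : h ∈ D.expH β)
    (χ : IrrCharacter G) (a : ZMod p) :
    D.mult χ ((h : ZMod p) * a) β = D.mult χ a β := by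
  obtain ⟨n, hn, rfl⟩ := D.mem_expH.1 hh
  have := D.mult_cj n χ ((D.mu n : ZMod p) * a) β
  rw [hn, ← mul_assoc, ← Units.val_mul, inv_mul_cancel, Units.val_one, one_mul] at this
  exact this

omit [Fintype C] [Fintype V] in
/-- Column orthogonality as a count of conjugating elements. -/
theorem column_count [DecidableEq G] (g h : G) :
    ∑ χ : IrrCharacter G, (χ : G → ℂ) g * conj ((χ : G → ℂ) h) =
      ((Finset.univ.filter fun a : G => a * g * a⁻¹ = h).card : ℂ) := by
  classical
  rw [column_orth]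
  split_ifs with hc
  · obtain ⟨a₀, ha₀⟩ := isConj_iff.1 hc
    rw [← Fintype.card_subtype, ← Nat.card_eq_fintype_card, Nat.cast_inj]
    refine Nat.card_congr ⟨fun c => ⟨a₀ * c.1, ?_⟩, fun a => ⟨a₀⁻¹ * a.1, ?_⟩,
      fun c => Subtype.ext (inv_mul_cancel_left _ _), fun a => Subtype.ext (mul_inv_cancel_left _ _)⟩
    · have hcg := Subgroup.mem_centralizer_singleton_iff.1 c.2
      calc a₀ * c * g * (a₀ * c)⁻¹ = a₀ * (c * g * (c : G)⁻¹) * a₀⁻¹ := by group
        _ = h := by rw [hcg, mul_inv_cancel_right, ha₀]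
    · rw [Subgroup.mem_centralizer_singleton_iff]
      have h2 := a.2.trans ha₀.symm
      calc a₀⁻¹ * a.1 * g = a₀⁻¹ * (a.1 * g * (a.1)⁻¹) * a.1 := by group
        _ = g * (a₀⁻¹ * a.1) := by rw [h2]; group
  · rw [Finset.filter_false_of_mem, Finset.card_empty, Nat.cast_zero]
    exact fun a _ ha => hc (isConj_iff.2 ⟨a, ha⟩)

open scoped Classical in
/-- The scalar products of the coefficient columns over all characters. -/
theorem sum_coef_univ {i : ZMod p} (hi : i ≠ 0) (j : ZMod p) (β : IrrCharacter V) :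
    ∑ χ : IrrCharacter G, D.coef χ i β * conj (D.coef χ j β) =
      if ∃ h ∈ D.expH β, j = (h : ZMod p) * i then (p : ℂ) else 0 := by
  haveI := Fintype.ofFinite (nrm x)
  have hcnt : ∀ v w : V,
      ((Finset.univ.filter fun a : G => a * (pw x i * v) * a⁻¹ = pw x j * w).card : ℂ) =
        ∑ n : nrm x,
          if (D.mu n : ZMod p) * i = j ∧ D.cjV n v = w then (1 : ℂ) else 0 := by
    intro v w
    rw [Finset.sum_boole]
    congr 1
    rw [eq_comm]
    refine Finset.card_bij (fun n _ => (n : G)) ?_ ?_ ?_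
    · intro n hn
      simp only [Finset.mem_filter, Finset.mem_univ, true_and] at hn ⊢
      obtain ⟨h1, h2⟩ := hn
      rw [← h1, ← h2, D.cjV_coe, ← D.conj_pw]
      group
    · intro a _ b _ h
      exact Subtype.ext h
    · intro a ha
      simp only [Finset.mem_filter, Finset.mem_univ, true_and] at ha
      have hmem : a * (pw x i * v) * a⁻¹ ∈ C := by
        rw [ha]
        exact mul_mem (D.pw_mem j) (D.V_le w.2)
      have hn := D.mem_nrm_of_conj hi v.2 hmem
      refine ⟨⟨a, hn⟩, ?_, rfl⟩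
      simp only [Finset.mem_filter, Finset.mem_univ, true_and]
      have h2 : D.equivC ((D.mu ⟨a, hn⟩ : ZMod p) * i, D.cjV ⟨a, hn⟩ v) = D.equivC (j, w) := by
        refine Subtype.ext ?_
        rw [D.equivC_coe, D.equivC_coe, D.cjV_coe, ← D.conj_pw]
        dsimp only
        rw [← ha]
        group
      exact Prod.ext_iff.1 (D.equivC.injective h2)
  have horth : ∀ n : nrm x, ∑ v : V, conj ((β : V → ℂ) v) * (β : V → ℂ) (D.cjV n v) =
      if D.cj n β = β then (Nat.card V : ℂ) else 0 := by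
    intro n
    have h := classInner_irr (D.cj n β) β
    unfold classInner at h
    rw [inv_mul_eq_iff_eq_mul₀ (Nat.cast_ne_zero.2 Nat.card_pos.ne')] at h
    simp only [D.cj_apply] at h
    rw [Finset.sum_congr rfl fun v _ => mul_comm (conj ((β : V → ℂ) v)) _, h]
    simp
  have hV : (Nat.card V : ℂ) ≠ 0 := Nat.cast_ne_zero.2 Nat.card_pos.ne'
  have key : ∑ χ : IrrCharacter G, D.coef χ i β * conj (D.coef χ j β) =
      (Nat.card V : ℂ)⁻¹ *
        ((Finset.univ.filter fun n : nrm x =>
          D.cj n β = β ∧ (D.mu n : ZMod p) * i = j).card : ℂ) := by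
    calc ∑ χ : IrrCharacter G, D.coef χ i β * conj (D.coef χ j β)
        = ((Nat.card V : ℂ)⁻¹) ^ 2 * ∑ v : V, ∑ w : V, conj ((β : V → ℂ) v) * (β : V → ℂ) w *
            ∑ χ : IrrCharacter G, (χ : G → ℂ) (pw x i * v) * conj ((χ : G → ℂ) (pw x j * w)) := by
          simp only [Data.coef, map_mul, map_inv₀, map_natCast, map_sum, Complex.conj_conj,
            Finset.mul_sum, Finset.sum_mul]
          rw [Finset.sum_comm]
          conv_rhs => rw [Finset.sum_comm]
          refine Finset.sum_congr rfl fun w _ => ?_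
          rw [Finset.sum_comm]
          exact Finset.sum_congr rfl fun v _ => Finset.sum_congr rfl fun χ _ => by ring
      _ = ((Nat.card V : ℂ)⁻¹) ^ 2 * ∑ n : nrm x, (if (D.mu n : ZMod p) * i = j then
            ∑ v : V, conj ((β : V → ℂ) v) * (β : V → ℂ) (D.cjV n v) else 0) := by
          congr 1
          simp only [D.column_count, hcnt, Finset.mul_sum]
          rw [Finset.sum_congr rfl fun v _ => Finset.sum_comm, Finset.sum_comm]
          refine Finset.sum_congr rfl fun n _ => ?_
          split_ifs with hμ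
          · refine Finset.sum_congr rfl fun v _ => ?_
            simp [hμ]
          · simp [hμ]
      _ = _ := by
          simp only [horth]
          rw [Finset.card_filter, Nat.cast_sum, Finset.mul_sum, Finset.mul_sum]
          refine Finset.sum_congr rfl fun n _ => ?_
          by_cases h1 : (D.mu n : ZMod p) * i = j <;> by_cases h2 : D.cj n β = β <;>
            simp [h1, h2, pow_two]
  rw [key]
  split_ifs with hh
  · obtain ⟨h, hh, hj⟩ := hh
    obtain ⟨n₀, hn₀, hμ₀⟩ := D.mem_expH.1 hh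
    have hcard : (Finset.univ.filter fun n : nrm x =>
        D.cj n β = β ∧ (D.mu n : ZMod p) * i = j).card = Nat.card C := by
      rw [← Fintype.card_subtype, ← Nat.card_eq_fintype_card]
      have hfw : ∀ c : C, D.cj (n₀ * ⟨c, D.C_le c.2⟩) β = β ∧
          (D.mu (n₀ * ⟨c, D.C_le c.2⟩) : ZMod p) * i = j := fun c => by
        refine ⟨?_, ?_⟩
        · rw [← D.cj_mul, hn₀, D.cj_of_mem_C _ c.2]
        · rw [D.mu_mul, (D.mu_eq_one_iff ⟨(c : G), D.C_le c.2⟩).2 c.2, mul_one, hμ₀, hj]
      have hbw : ∀ n : {n : nrm x // D.cj n β = β ∧ (D.mu n : ZMod p) * i = j},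
          ((n₀⁻¹ * n.1 : nrm x) : G) ∈ C := fun n => by
        rw [← D.mu_eq_one_iff, D.mu_mul]
        have h1 : D.mu n.1 = h := Units.ext (mul_right_cancel₀ hi (n.2.2.trans hj))
        rw [h1, ← hμ₀, ← D.mu_mul, inv_mul_cancel, D.mu_eq_one_iff]
        exact C.one_mem
      exact (Nat.card_congr
        { toFun := fun c => ⟨_, hfw c⟩
          invFun := fun n => ⟨_, hbw n⟩
          left_inv := fun c => Subtype.ext (inv_mul_cancel_left (n₀ : G) (c : G))
          right_inv := fun n => Subtype.ext (Subtype.ext (mul_inv_cancel_left (n₀ : G) (n.1 : G))) }).symm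
    rw [hcard, D.card_C]
    push_cast
    field_simp
  · rw [Finset.filter_false_of_mem, Finset.card_empty, Nat.cast_zero, mul_zero]
    rintro n - ⟨h1, h2⟩
    exact hh ⟨D.mu n, D.mem_expH.2 ⟨n, h1, rfl⟩, h2.symm⟩

/-- A coefficient column is orthogonal to the columns of `p`-regular elements. -/
theorem sum_regular_univ {i : ZMod p} (hi : i ≠ 0) {y : G} (hy : ¬ p ∣ orderOf y)
    (β : IrrCharacter V) :
    ∑ χ : IrrCharacter G, (χ : G → ℂ) y * conj (D.coef χ i β) = 0 := by
  classical
  simp only [Data.coef, map_mul, map_inv₀, map_natCast, map_sum, Complex.conj_conj, Finset.mul_sum]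
  rw [Finset.sum_comm]
  refine Finset.sum_eq_zero fun v _ => ?_
  have h0 : ∑ χ : IrrCharacter G, (χ : G → ℂ) y * conj ((χ : G → ℂ) (pw x i * v)) = 0 := by
    rw [column_orth, if_neg]
    intro hc
    obtain ⟨g, hg⟩ := isConj_iff.1 hc
    refine hy ?_
    have h1 : orderOf (g * y * g⁻¹) = orderOf y :=
      orderOf_injective (MulAut.conj g).toMonoidHom (MulAut.conj g).injective y
    rw [← h1, hg, (D.commute_pw (D.V_le v.2) i).symm.orderOf_mul_eq_mul_orderOf_of_coprime
      (by rw [D.orderOf_pw hi]; exact hp.out.coprime_iff_not_dvd.2 (D.regular v.2)),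
      D.orderOf_pw hi]
    exact dvd_mul_right _ _
  calc ∑ χ : IrrCharacter G, (χ : G → ℂ) y *
        ((Nat.card V : ℂ)⁻¹ * (conj ((χ : G → ℂ) (pw x i * v)) * (β : V → ℂ) v))
      = (Nat.card V : ℂ)⁻¹ * (β : V → ℂ) v *
          ∑ χ : IrrCharacter G, (χ : G → ℂ) y * conj ((χ : G → ℂ) (pw x i * v)) := by
        rw [Finset.mul_sum]
        exact Finset.sum_congr rfl fun χ _ => by ring
    _ = 0 := by rw [h0, mul_zero]

variable (hM : IsPModular p M) {B : Set (IrrCharacter G)} (hB : IsPBlock M B)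
  {s : Finset (IrrCharacter G)} (hs : ∀ χ, χ ∈ s ↔ χ ∈ B)
  {β : IrrCharacter V} (hβ : D.Hits M B β)

include hM hB hs hβ

theorem coef_eq_zero_of_notMem {χ : IrrCharacter G} (hχ : χ ∉ s) {i : ZMod p} (hi : i ≠ 0) :
    D.coef χ i β = 0 :=
  D.coef_eq_zero_aux hM hi χ β fun h => hχ ((hs χ).2 (by
    rw [D.hits_unique hM hβ h]
    exact Blocks.mem_blockOf_self hM χ))

open scoped Classical in
theorem sum_coef {i : ZMod p} (hi : i ≠ 0) (j : ZMod p) :
    ∑ χ ∈ s, D.coef χ i β * conj (D.coef χ j β) =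
      if ∃ h ∈ D.expH β, j = (h : ZMod p) * i then (p : ℂ) else 0 := by
  rw [← D.sum_coef_univ hi j β]
  refine Finset.sum_subset (Finset.subset_univ _) fun χ _ hχ => ?_
  rw [D.coef_eq_zero_of_notMem hM hB hs hβ hχ hi, zero_mul]

theorem sum_regular_coef {i : ZMod p} (hi : i ≠ 0) {y : G} (hy : ¬ p ∣ orderOf y) :
    ∑ χ ∈ s, (χ : G → ℂ) y * conj (D.coef χ i β) = 0 := by
  rw [← D.sum_regular_univ hi hy β]
  refine Finset.sum_subset (Finset.subset_univ _) fun χ _ hχ => ?_
  rw [D.coef_eq_zero_of_notMem hM hB hs hβ hχ hi, map_zero, mul_zero]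

omit hM hB hs hβ in
theorem mult_sub (χ : IrrCharacter G) (a b : ZMod p) :
    (p : ℂ) * ((D.mult χ a β : ℂ) - D.mult χ b β) =
      ∑ i ∈ Finset.univ.erase (0 : ZMod p),
        D.coef χ i β * (ZMod.stdAddChar (i * -a) - ZMod.stdAddChar (i * -b)) := by
  classical
  rw [mul_sub, D.mult_eq, D.mult_eq, ← Finset.sum_sub_distrib,
    ← Finset.add_sum_erase _ _ (Finset.mem_univ (0 : ZMod p))]
  simp [mul_sub]

theorem sum_regular_diff {y : G} (hy : ¬ p ∣ orderOf y) (a b : ZMod p) :
    ∑ χ ∈ s, (χ : G → ℂ) y * ((D.mult χ a β : ℂ) - D.mult χ b β) = 0 := by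
  classical
  refine (mul_eq_zero.1 ?_).resolve_left (Nat.cast_ne_zero.2 hp.out.ne_zero : (p : ℂ) ≠ 0)
  calc (p : ℂ) * ∑ χ ∈ s, (χ : G → ℂ) y * ((D.mult χ a β : ℂ) - D.mult χ b β)
      = ∑ χ ∈ s, (χ : G → ℂ) y * conj ((p : ℂ) * ((D.mult χ a β : ℂ) - D.mult χ b β)) := by
        rw [Finset.mul_sum]
        refine Finset.sum_congr rfl fun χ _ => ?_
        rw [map_mul, map_sub, map_natCast, map_natCast, map_natCast]
        ring
    _ = ∑ i ∈ Finset.univ.erase (0 : ZMod p), (∑ χ ∈ s, (χ : G → ℂ) y * conj (D.coef χ i β)) *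
          conj (ZMod.stdAddChar (i * -a) - ZMod.stdAddChar (i * -b)) := by
        simp only [D.mult_sub, map_sum, map_mul, Finset.mul_sum, Finset.sum_mul]
        rw [Finset.sum_comm]
        exact Finset.sum_congr rfl fun i _ => Finset.sum_congr rfl fun χ _ => by ring
    _ = 0 := Finset.sum_eq_zero fun i hi => by
        rw [D.sum_regular_coef hM hB hs hβ (Finset.mem_erase.1 hi).1 hy, zero_mul]

/-- The number of exponents of the stabiliser carrying `c` to `a`. -/
def hitCount (β : IrrCharacter V) (c a : ZMod p) : ℤ :=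
  haveI := Fintype.ofFinite (D.expH β)
  ∑ h : D.expH β, if ((h : (ZMod p)ˣ) : ZMod p) * c = a then 1 else 0

/-- The scalar products of the differences of multiplicities. -/
theorem sum_diff (a b c d : ZMod p) :
    ∑ χ ∈ s, ((D.mult χ a β : ℤ) - D.mult χ b β) * ((D.mult χ c β : ℤ) - D.mult χ d β) =
      D.hitCount β c a - D.hitCount β d a - D.hitCount β c b + D.hitCount β d b := by
  classical
  haveI := Fintype.ofFinite (D.expH β)
  have hp0 : (p : ℂ) ≠ 0 := Nat.cast_ne_zero.2 hp.out.ne_zero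
  let K : ZMod p → ZMod p → ZMod p → ℂ := fun a b i =>
    ZMod.stdAddChar (i * -a) - ZMod.stdAddChar (i * -b)
  have hinner : ∀ i ∈ Finset.univ.erase (0 : ZMod p),
      ∑ j ∈ Finset.univ.erase (0 : ZMod p),
        (if ∃ h ∈ D.expH β, j = (h : ZMod p) * i then (p : ℂ) else 0) * conj (K c d j) =
      (p : ℂ) * ∑ h : D.expH β, conj (K c d (((h : (ZMod p)ˣ) : ZMod p) * i)) := by
    intro i hi
    have hi0 := (Finset.mem_erase.1 hi).1
    simp only [ite_mul, zero_mul, ← Finset.sum_filter, ← Finset.mul_sum]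
    congr 1
    rw [eq_comm]
    refine Finset.sum_bij (fun h _ => ((h : (ZMod p)ˣ) : ZMod p) * i) ?_ ?_ ?_ ?_
    · intro h _
      exact Finset.mem_filter.2 ⟨Finset.mem_erase.2 ⟨mul_ne_zero h.1.ne_zero hi0, Finset.mem_univ _⟩,
        h.1, h.2, rfl⟩
    · exact fun h _ h' _ e => Subtype.ext (Units.ext (mul_right_cancel₀ hi0 e))
    · intro j hj
      obtain ⟨-, h, hh, hj⟩ := Finset.mem_filter.1 hj
      exact ⟨⟨h, hh⟩, Finset.mem_univ _, hj.symm⟩
    · exact fun _ _ => rfl
  have hK : ∀ (h : (ZMod p)ˣ), ∑ i ∈ Finset.univ.erase (0 : ZMod p),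
      K a b i * conj (K c d ((h : ZMod p) * i)) =
      (p : ℂ) * ((if (h : ZMod p) * c = a then 1 else 0) - (if (h : ZMod p) * d = a then 1 else 0) -
        (if (h : ZMod p) * c = b then 1 else 0) + if (h : ZMod p) * d = b then 1 else 0) := by
    intro h
    have e : ∀ a c : ZMod p, ∑ i : ZMod p,
        ZMod.stdAddChar (i * -a) * conj (ZMod.stdAddChar ((h : ZMod p) * i * -c)) =
        if (h : ZMod p) * c = a then (p : ℂ) else 0 := by
      intro a c
      simp only [conj_std, ← AddChar.map_add_eq_mul]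
      rw [Finset.sum_congr rfl fun i _ => congrArg ZMod.stdAddChar
        (show i * -a + -((h : ZMod p) * i * -c) = i * ((h : ZMod p) * c - a) by ring), sum_std]
      simp only [sub_eq_zero]
    rw [Finset.sum_erase _ (by simp [K])]
    simp only [K, map_sub, sub_mul, mul_sub, Finset.sum_sub_distrib, e]
    simp only [mul_add, mul_sub, mul_ite, mul_one, mul_zero]
    ring
  have key : (p : ℂ) ^ 2 *
      ((∑ χ ∈ s, ((D.mult χ a β : ℤ) - D.mult χ b β) *
        ((D.mult χ c β : ℤ) - D.mult χ d β) : ℤ) : ℂ) =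
      (p : ℂ) ^ 2 * ((D.hitCount β c a - D.hitCount β d a - D.hitCount β c b +
        D.hitCount β d b : ℤ) : ℂ) := by
    calc (p : ℂ) ^ 2 * ((∑ χ ∈ s, ((D.mult χ a β : ℤ) - D.mult χ b β) *
            ((D.mult χ c β : ℤ) - D.mult χ d β) : ℤ) : ℂ)
        = ∑ χ ∈ s, ((p : ℂ) * ((D.mult χ a β : ℂ) - D.mult χ b β)) *
            conj ((p : ℂ) * ((D.mult χ c β : ℂ) - D.mult χ d β)) := by
          push_cast
          rw [Finset.mul_sum]
          refine Finset.sum_congr rfl fun χ _ => ?_
          rw [map_mul, map_sub, map_natCast, map_natCast, map_natCast]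
          ring
      _ = ∑ i ∈ Finset.univ.erase (0 : ZMod p), K a b i *
            ∑ j ∈ Finset.univ.erase (0 : ZMod p),
              (∑ χ ∈ s, D.coef χ i β * conj (D.coef χ j β)) * conj (K c d j) := by
          simp only [D.mult_sub, map_sum, map_mul, Finset.sum_mul, Finset.mul_sum, K]
          rw [Finset.sum_comm]
          conv_rhs => rw [Finset.sum_comm]
          refine Finset.sum_congr rfl fun i _ => ?_
          rw [Finset.sum_comm]
          exact Finset.sum_congr rfl fun j _ => Finset.sum_congr rfl fun χ _ => by ring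
      _ = (p : ℂ) * ∑ h : D.expH β, ∑ i ∈ Finset.univ.erase (0 : ZMod p),
            K a b i * conj (K c d (((h : (ZMod p)ˣ) : ZMod p) * i)) := by
          rw [Finset.sum_comm, Finset.mul_sum]
          refine Finset.sum_congr rfl fun i hi => ?_
          rw [Finset.sum_congr rfl fun j _ => by
            rw [D.sum_coef hM hB hs hβ (Finset.mem_erase.1 hi).1 j], hinner i hi,
            mul_left_comm, Finset.mul_sum]
      _ = _ := by
          simp only [hK, ← Finset.mul_sum, Data.hitCount]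
          push_cast [apply_ite (fun z : ℤ => (z : ℂ))]
          rw [← mul_assoc, ← pow_two]
          simp only [Finset.sum_add_distrib, Finset.sum_sub_distrib]
          congr!
  exact_mod_cast mul_left_cancel₀ (pow_ne_zero 2 hp0) key

omit hM hB hs hβ

/-- A character all of whose coefficients off the identity vanish has degree divisible by `p`. -/
theorem dvd_charDegree {χ : IrrCharacter G}
    (h : ∀ (γ : IrrCharacter V) (i : ZMod p), i ≠ 0 → D.coef χ i γ = 0) :
    p ∣ charDegree (χ : G → ℂ) := by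
  classical
  have hconst : ∀ γ a, D.mult χ a γ = D.mult χ 0 γ := by
    intro γ a
    have h' : (p : ℂ) * ((D.mult χ a γ : ℂ) - D.mult χ 0 γ) = 0 := by
      rw [D.mult_sub]
      exact Finset.sum_eq_zero fun i hi => by rw [h γ i (Finset.mem_erase.1 hi).1, zero_mul]
    exact_mod_cast sub_eq_zero.1 ((mul_eq_zero.1 h').resolve_left
      (Nat.cast_ne_zero.2 hp.out.ne_zero))
  choose dV hdV using fun γ : IrrCharacter V => exists_degree (irr_isCharacter γ)
  obtain ⟨d, hd⟩ := exists_degree (irr_isCharacter χ)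
  have hd' : charDegree (χ : G → ℂ) = d := CfsgLib.LinearTwist.charDegree_eq_of_apply_one hd
  have h1 := D.degree_eq χ
  simp only [hconst, Finset.sum_const, Finset.card_univ, ZMod.card, hdV, hd, nsmul_eq_mul,
    ← Finset.mul_sum] at h1
  rw [hd']
  refine ⟨∑ γ, D.mult χ 0 γ * dV γ, ?_⟩
  exact_mod_cast h1

theorem factorization_card_eq : (Nat.card G).factorization p = 1 := by
  have h1 : p ∣ Nat.card G := D.hx ▸ orderOf_dvd_natCard x
  have h2 := (hp.out.dvd_iff_one_le_factorization Nat.card_pos.ne').1 h1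
  have h3 : ¬ 2 ≤ (Nat.card G).factorization p := fun h =>
    D.hsq ((hp.out.pow_dvd_iff_le_factorization Nat.card_pos.ne').2 h)
  omega

include hM hB in
/-- In a block of positive defect no degree is divisible by `p`. -/
theorem not_dvd_charDegree (hd : 0 < blockDefect p B) {χ : IrrCharacter G} (hχ : χ ∈ B) :
    ¬ p ∣ charDegree (χ : G → ℂ) := by
  classical
  intro hdiv
  obtain ⟨d, hd0, hdd, -⟩ := irr_degree_dvd_card χ
  have hd' : charDegree (χ : G → ℂ) = d := CfsgLib.LinearTwist.charDegree_eq_of_apply_one hd0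
  have hdG : d ∣ Nat.card G := by rw [← hd']; exact (ClassCount.degree_eq χ).2.1
  have hnp : ¬ p ∣ Nat.card G / d := fun h => D.hsq (by
    rw [pow_two, ← Nat.div_mul_cancel hdG]
    exact mul_dvd_mul h (hd' ▸ hdiv))
  have hsing : blockOf M (χ : G → ℂ) ⊆ {χ} := by
    refine Blocks.blockOf_subset_of_coeff hM (fun g => ?_) (Set.mem_singleton χ)
    rw [Blocks.blockCoeff_eq_sum]
    simp only [Set.mem_singleton_iff, Finset.filter_eq', Finset.mem_univ, if_true,
      Finset.sum_singleton]
    rw [← mul_assoc, hd0, show ((Nat.card G : ℕ) : ℂ)⁻¹ * (d : ℂ) = ((Nat.card G / d : ℕ) : ℂ)⁻¹ by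
      rw [Nat.cast_div hdG (by
        intro h
        exact irr_one_ne_zero χ (hd0.trans h)), inv_div]
      ring]
    exact (Blocks.lRing hM).mul_mem (Blocks.inv_natCast_mem_lRing hM hnp)
      (Blocks.isIntegral_mem_lRing hM (isIntegral_conj (CharCorr.irr_isIntegral χ g)))
  rw [← Blocks.IsPBlock.eq_blockOf hM hB hχ] at hsing
  have hBeq : B = {χ} := Set.Subset.antisymm hsing (Set.singleton_subset_iff.2 hχ)
  rw [hBeq, blockDefect, Set.image_singleton, csInf_singleton, D.factorization_card_eq] at hd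
  have h1 := (hp.out.dvd_iff_one_le_factorization (by
    rw [hd']; intro h; exact irr_one_ne_zero χ (hd0.trans (by simp [h])))).1 hdiv
  omega

include hM hB in
/-- A block of positive defect has a character of `V` in its local orbit. -/
theorem exists_hits_of_defect (hd : 0 < blockDefect p B) : ∃ β, D.Hits M B β := by
  obtain ⟨χ, hχ⟩ := Blocks.IsPBlock.nonempty hM hB
  by_contra hne
  push Not at hne
  exact D.not_dvd_charDegree hM hB hd hχ
    (D.dvd_charDegree fun γ i hi => D.coef_eq_zero hM hB hχ hi (hne γ))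

include hM hB hβ in
/-- In a block of positive defect every pattern of multiplicities is non-constant. -/
theorem exists_mult_ne (hd : 0 < blockDefect p B) {χ : IrrCharacter G} (hχ : χ ∈ B) :
    ∃ a, D.mult χ a β ≠ D.mult χ 0 β := by
  classical
  by_contra hc
  push Not at hc
  refine D.not_dvd_charDegree hM hB hd hχ (D.dvd_charDegree fun γ i hi => ?_)
  by_cases hγ : D.Hits M B γ
  · obtain ⟨n, rfl⟩ := D.exists_cj_of_hits hM hβ hγ
    have hi' : (D.mu n : ZMod p) * i ≠ 0 := mul_ne_zero (D.mu n).ne_zero hi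
    rw [D.coef_cj, D.coef_eq]
    simp only [hc]
    rw [← Finset.mul_sum, show ∑ a : ZMod p, ZMod.stdAddChar ((D.mu n : ZMod p) * i * a) =
      ∑ a : ZMod p, ZMod.stdAddChar (a * ((D.mu n : ZMod p) * i)) from
      Finset.sum_congr rfl fun a _ => by rw [mul_comm], sum_std, if_neg hi', mul_zero]
  · exact D.coef_eq_zero hM hB hχ hi hγ

end Data

end CfsgLib.PrimeDefect
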