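import Mathlib.Algebra.MonoidAlgebra.Basic
import Mathlib.GroupTheory.OrderOfElement
import Mathlib.GroupTheory.QuotientGroup.Basic
import Mathlib.GroupTheory.Perm.Cycle.Type
import Mathlib.LinearAlgebra.Eigenspace.Triangularizable
import Mathlib.LinearAlgebra.Trace
import Mathlib.RingTheory.SimpleModule.Basic
import Mathlib.RingTheory.Artinian.Module
import Mathlib.Algebra.CharP.Algebra
import Mathlib.Algebra.CharP.Lemmas
import Mathlib.Algebra.Polynomial.AlgebraMap
import Mathlib.LinearAlgebra.Basis.VectorSpace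

/-!
# Simple modules and a subgroup of prime order

Over a field of characteristic `p`, with `x` of order `p`, `N = ∑ x ^ i` and an idempotent `e` of
a `p'`-group normalising `⟨x⟩`: a module is *hit* by `e` when `e` maps a fixed vector of `x`
outside the image of `N`.  Some simple module is hit by each such idempotent, and no simple
module is hit by two orthogonal ones.
-/

set_option autoImplicit false
set_option linter.unusedSectionVars false

noncomputable section

namespace CfsgLib.PrimeDefect.Hit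

open MonoidAlgebra

universe u v

variable {k : Type*} [Field k] {p : ℕ} [hp : Fact p.Prime] [CharP k p]
variable {G : Type u} [Group G] [Fintype G]

/-- The sum of the powers of `x`. -/
def nsum (p : ℕ) (k : Type*) [Field k] (x : G) : MonoidAlgebra k G :=
  ∑ i ∈ Finset.range p, (of k G x) ^ i

omit [Fintype G] in
theorem nsum_eq_pow (x : G) : nsum p k x = (of k G x - 1) ^ (p - 1) := by
  have h : (∑ i ∈ Finset.range p, (Polynomial.X : Polynomial k) ^ i) =
      (Polynomial.X - 1) ^ (p - 1) := by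
    refine mul_right_cancel₀ (Polynomial.X_sub_C_ne_zero (1 : k)) ?_
    rw [map_one, geom_sum_mul, ← pow_succ, Nat.sub_add_cancel hp.out.one_le, sub_pow_char, one_pow]
  have h2 := congrArg (Polynomial.aeval (of k G x)) h
  simpa [nsum, map_sum] using h2

/-- An element of the group algebra is the sum of its terms. -/
theorem eq_sum_of (z : MonoidAlgebra k G) : z = ∑ g : G, z.coeff g • of k G g := by
  classical
  ext g
  simp [Finsupp.single_apply]

variable {W : Type v} [AddCommGroup W] [Module k W] [Module (MonoidAlgebra k G) W]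
  [IsScalarTower k (MonoidAlgebra k G) W]

/-- A module is hit by `e` when `e` maps some fixed vector of `x` outside the image of `N`. -/
def IsHit (p : ℕ) (x : G) (e : MonoidAlgebra k G) (W : Type v) [AddCommGroup W]
    [Module (MonoidAlgebra k G) W] : Prop :=
  ∃ a : W, of k G x • a = a ∧ ∀ z : W, nsum p k x • z ≠ e • a

omit [Fintype G] in
theorem IsHit.congr {W' : Type v} [AddCommGroup W'] [Module (MonoidAlgebra k G) W'] {x : G}
    {e : MonoidAlgebra k G} (f : W ≃ₗ[MonoidAlgebra k G] W') (h : IsHit p x e W) :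
    IsHit p x e W' := by
  obtain ⟨a, ha, hne⟩ := h
  refine ⟨f a, by rw [← map_smul, ha], fun z hz => hne (f.symm z) ?_⟩
  rw [← map_smul, hz, map_smul, f.symm_apply_apply]

/-- The sum of an equivariant family without fixed points lies in the image of `N`. -/
theorem sum_mem_range {α : Type*} [DecidableEq α] (x : G) (σ : Equiv.Perm α) (hσ : σ ^ p = 1)
    (v : α → W) (hv : ∀ c, v (σ c) = of k G x • v c) (s : Finset α)
    (hs : ∀ c ∈ s, σ c ∈ s) (hfree : ∀ c ∈ s, σ c ≠ c) :
    ∃ z : W, nsum p k x • z = ∑ c ∈ s, v c := by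
  induction s using Finset.strongInduction with
  | _ s ih =>
    rcases s.eq_empty_or_nonempty with rfl | ⟨c, hc⟩
    · exact ⟨0, by simp⟩
    have hpow : ∀ i : ℕ, v ((σ ^ i) c) = of k G x ^ i • v c := by
      intro i
      induction i with
      | zero => simp
      | succ i ih => rw [pow_succ', Equiv.Perm.mul_apply, hv, ih, ← mul_smul, ← pow_succ']
    have hmem : ∀ i : ℕ, (σ ^ i) c ∈ s := by
      intro i
      induction i with
      | zero => simpa using hc
      | succ i ih => rw [pow_succ', Equiv.Perm.mul_apply]; exact hs _ ih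
    set o := (Finset.range p).image fun i => (σ ^ i) c with ho
    have hmin : Function.minimalPeriod σ c = p := by
      have h1 : Function.minimalPeriod σ c ∣ p := by
        refine Function.IsPeriodicPt.minimalPeriod_dvd ?_
        show (σ^[p]) c = c
        rw [← Equiv.Perm.coe_pow, hσ]; rfl
      refine (hp.out.eq_one_or_self_of_dvd _ h1).resolve_left fun h => hfree c hc ?_
      exact Function.minimalPeriod_eq_one_iff_isFixedPt.1 h
    have hinj : Set.InjOn (fun i => (σ ^ i) c) (Finset.range p : Finset ℕ) := by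
      intro i hi j hj h
      simp only [Finset.coe_range, Set.mem_Iio] at hi hj
      simp only [Equiv.Perm.coe_pow] at h
      exact (Function.iterate_eq_iterate_iff_of_lt_minimalPeriod (f := σ) (hmin ▸ hi)
        (hmin ▸ hj)).1 h
    have hosub : o ⊆ s := Finset.image_subset_iff.2 fun i _ => hmem i
    have hclosed : ∀ d ∈ s \ o, σ d ∈ s \ o := by
      intro d hd
      rw [Finset.mem_sdiff] at hd ⊢
      refine ⟨hs d hd.1, fun h => hd.2 ?_⟩
      obtain ⟨i, -, hi⟩ := Finset.mem_image.1 h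
      refine Finset.mem_image.2 ⟨(i + (p - 1)) % p, Finset.mem_range.2 (Nat.mod_lt _ hp.out.pos), ?_⟩
      have hone : σ ^ ((i + (p - 1)) % p) = σ ^ (i + (p - 1)) := by
        conv_rhs => rw [← Nat.mod_add_div (i + (p - 1)) p, pow_add, pow_mul, hσ, one_pow, mul_one]
      rw [hone, add_comm, pow_add, Equiv.Perm.mul_apply, hi, ← Equiv.Perm.mul_apply, ← pow_succ,
        Nat.sub_add_cancel hp.out.one_le, hσ, Equiv.Perm.one_apply]
    have hlt : s \ o ⊂ s := Finset.sdiff_ssubset hosub
      ⟨c, Finset.mem_image.2 ⟨0, Finset.mem_range.2 hp.out.pos, rfl⟩⟩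
    obtain ⟨z, hz⟩ := ih (s \ o) hlt hclosed fun d hd => hfree d (Finset.mem_sdiff.1 hd).1
    refine ⟨z + v c, ?_⟩
    rw [smul_add, hz, ← Finset.sum_sdiff hosub, ho, Finset.sum_image hinj, nsum, Finset.sum_smul]
    simp only [hpow]

/-- The data: `T = ⟨x⟩ T0` normalises `⟨x⟩` and `e` is a family of orthogonal idempotents of
`T0`. -/
structure Ctx (p : ℕ) (x : G) (T T0 : Subgroup G) {ι : Type*} (e : ι → MonoidAlgebra k G) :
    Prop where
  hx : orderOf x = p
  le_nrm : T ≤ Subgroup.normalizer ((Subgroup.zpowers x : Subgroup G) : Set G)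
  x_mem : x ∈ T
  le_T : T0 ≤ T
  decomp : ∀ g ∈ T, ∃ i : ℕ, ∃ h ∈ T0, g = x ^ i * h
  not_dvd : ¬ p ∣ Nat.card T0
  idem : ∀ j, e j * e j = e j
  orth : ∀ j l, j ≠ l → e j * e l = 0
  comm : ∀ j, ∀ h ∈ T0, Commute (of k G h) (e j)
  supp : ∀ j g, g ∉ T0 → (e j).coeff g = 0
  one_coeff : ∀ j, (e j).coeff 1 ≠ 0
  kill : ∀ (j l : ι), ∀ n ∈ Subgroup.normalizer ((Subgroup.zpowers x : Subgroup G) : Set G),
    n ∉ T → e j * of k G n * e l = 0

variable {x : G} {T T0 : Subgroup G} {ι : Type*} {e : ι → MonoidAlgebra k G}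
  (K : Ctx p x T T0 e)

include K

namespace Ctx

theorem x_pow : of k G x ^ p = 1 := by
  rw [← map_pow, ← K.hx, pow_orderOf_eq_one, map_one]

theorem exists_conj {n : G}
    (hn : n ∈ Subgroup.normalizer ((Subgroup.zpowers x : Subgroup G) : Set G)) :
    ∃ m : ℕ, n * x * n⁻¹ = x ^ m := by
  have h := (Subgroup.mem_normalizer_iff.1 hn x).1 (Subgroup.mem_zpowers x)
  rw [← (isOfFinOrder_of_finite x).mem_powers_iff_mem_zpowers, Submonoid.mem_powers_iff] at h
  obtain ⟨m, hm⟩ := h
  exact ⟨m, hm.symm⟩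

theorem fixed_of_mem {n : G}
    (hn : n ∈ Subgroup.normalizer ((Subgroup.zpowers x : Subgroup G) : Set G)) {a : W}
    (ha : of k G x • a = a) : of k G x • (of k G n • a) = of k G n • a := by
  obtain ⟨m, hm⟩ := K.exists_conj (inv_mem hn)
  have hpow : ∀ i : ℕ, of k G x ^ i • a = a := by
    intro i
    induction i with
    | zero => simp
    | succ i ih => rw [pow_succ, mul_smul, ha, ih]
  rw [← mul_smul, ← map_mul, show x * n = n * (n⁻¹ * x * n⁻¹⁻¹) by group, hm, map_mul, mul_smul,
    map_pow, hpow]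

theorem nrm_of_mem_T0 {h : G} (hh : h ∈ T0) :
    h ∈ Subgroup.normalizer ((Subgroup.zpowers x : Subgroup G) : Set G) :=
  K.le_nrm (K.le_T hh)

/-- A submodule stable under `T0` is stable under each idempotent. -/
theorem e_smul_mem (U : Submodule k W) (j : ι) {a : W}
    (h : ∀ g ∈ T0, of k G g • a ∈ U) : e j • a ∈ U := by
  rw [eq_sum_of (e j), Finset.sum_smul]
  refine U.sum_mem fun g _ => ?_
  by_cases hg : g ∈ T0
  · rw [smul_assoc]; exact U.smul_mem _ (h g hg)
  · rw [K.supp j g hg, zero_smul, zero_smul]; exact U.zero_mem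

theorem e_fixed (j : ι) {a : W} (ha : of k G x • a = a) : of k G x • (e j • a) = e j • a := by
  let A := LinearMap.eqLocus (Algebra.lsmul k k W (of k G x)) LinearMap.id
  exact K.e_smul_mem A j fun g hg => K.fixed_of_mem (K.nrm_of_mem_T0 hg) ha

theorem pow_conj {n : G}
    (hn : n ∈ Subgroup.normalizer ((Subgroup.zpowers x : Subgroup G) : Set G)) (m : ℕ) :
    ∃ r, of k G n * (of k G x - 1) ^ m = (of k G x - 1) ^ m * r := by
  obtain ⟨μ, hμ⟩ := K.exists_conj hn
  set X := of k G x - 1 with hX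
  set S := ∑ i ∈ Finset.range μ, of k G x ^ i
  have hcomm : Commute X S :=
    Commute.sum_right _ _ _ fun i _ => ((Commute.refl _).sub_left (Commute.one_left _)).pow_right i
  have h1 : of k G n * X = X * S * of k G n := by
    rw [show X * S = of k G x ^ μ - 1 from (hX ▸ mul_geom_sum (of k G x) μ), ← map_pow, ← hμ,
      hX, mul_sub, sub_mul, mul_one, one_mul, ← map_mul, ← map_mul, inv_mul_cancel_right]
  refine ⟨S ^ m * of k G n, ?_⟩
  rw [← mul_assoc, ← hcomm.mul_pow]
  exact (SemiconjBy.pow_right (show SemiconjBy (of k G n) X (X * S) from h1) m).eq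

theorem nsum_commute (j : ι) : nsum p k x * e j = e j * nsum p k x := by
  rw [eq_sum_of (e j), Finset.mul_sum, Finset.sum_mul]
  refine Finset.sum_congr rfl fun g _ => ?_
  by_cases hg : g ∈ T0
  · rw [mul_smul_comm, smul_mul_assoc]
    congr 1
    obtain ⟨m, hm⟩ := K.exists_conj (K.nrm_of_mem_T0 hg)
    have hm0 : ¬ p ∣ m := fun hd => by
      obtain ⟨c, rfl⟩ := hd
      rw [pow_mul, ← K.hx, pow_orderOf_eq_one, one_pow, conj_eq_one_iff] at hm
      have := K.hx
      rw [hm, orderOf_one] at this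
      exact hp.out.ne_one this.symm
    rw [nsum, Finset.sum_mul, Finset.mul_sum, eq_comm]
    refine Finset.sum_bij (fun i _ => m * i % p)
      (fun i _ => Finset.mem_range.2 (Nat.mod_lt _ hp.out.pos)) ?_ ?_ ?_
    · intro i hi i' hi' h
      rw [Finset.mem_range] at hi hi'
      have h' : m * i ≡ m * i' [MOD p] := h
      have := Nat.ModEq.cancel_left_of_coprime
        ((Nat.coprime_comm.1 (hp.out.coprime_iff_not_dvd.2 hm0)).symm) h'
      exact Nat.ModEq.eq_of_lt_of_lt this hi hi'
    · intro l hl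
      have hi : Set.InjOn (fun i => m * i % p) (Finset.range p : Finset ℕ) := by
        intro i hi i' hi' h
        simp only [Finset.coe_range, Set.mem_Iio] at hi hi'
        exact Nat.ModEq.eq_of_lt_of_lt (Nat.ModEq.cancel_left_of_coprime
          (hp.out.coprime_iff_not_dvd.2 hm0) (h : m * i ≡ m * i' [MOD p])) hi hi'
      have himg : (Finset.range p).image (fun i => m * i % p) = Finset.range p :=
        Finset.eq_of_subset_of_card_le
          (Finset.image_subset_iff.2 fun i _ => Finset.mem_range.2 (Nat.mod_lt _ hp.out.pos))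
          (by rw [Finset.card_image_of_injOn hi])
      rw [← himg] at hl
      obtain ⟨i, hi, hil⟩ := Finset.mem_image.1 hl
      exact ⟨i, hi, hil⟩
    · intro i _
      rw [← map_pow, ← map_pow, ← map_mul, ← map_mul]
      congr 1
      rw [← K.hx, pow_mod_orderOf, pow_mul, ← hm, conj_pow, inv_mul_cancel_right]
  · rw [K.supp j g hg, zero_smul, mul_zero, zero_mul]

/-- An idempotent kills the image of `N` into itself. -/
theorem e_nsum_smul (j : ι) (z : W) : e j • nsum p k x • z = nsum p k x • e j • z := by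
  rw [← mul_smul, ← mul_smul, K.nsum_commute]

/-- Either the submodule or the quotient is hit. -/
theorem isHit_sub_or_quot {j : ι} {U : Submodule (MonoidAlgebra k G) W}
    (h : IsHit p x (e j) W) : IsHit p x (e j) U ∨ IsHit p x (e j) (W ⧸ U) := by
  obtain ⟨a, ha, hne⟩ := h
  by_cases hq : IsHit p x (e j) (W ⧸ U)
  · exact Or.inr hq
  simp only [IsHit] at hq
  push Not at hq
  obtain ⟨z', hz⟩ := hq (U.mkQ a) (by rw [← map_smul, ha])
  obtain ⟨z, rfl⟩ := U.mkQ_surjective z'
  rw [← map_smul, ← map_smul] at hz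
  have hb : e j • a - nsum p k x • z ∈ U := (Submodule.Quotient.eq U).1 hz.symm
  have hxN : of k G x * nsum p k x = nsum p k x := by
    have h0 : (of k G x - 1) * nsum p k x = 0 := by
      rw [nsum, mul_geom_sum, K.x_pow, sub_self]
    rwa [sub_mul, one_mul, sub_eq_zero] at h0
  refine Or.inl ⟨⟨_, hb⟩, Subtype.ext ?_, ?_⟩
  · show of k G x • (e j • a - nsum p k x • z) = _
    rw [smul_sub, K.e_fixed j ha, ← mul_smul, hxN]
  · intro w hw
    refine hne (e j • z + (w : W)) ?_
    have hw' : nsum p k x • (w : W) = e j • (e j • a - nsum p k x • z) :=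
      congrArg (Subtype.val : U → W) hw
    rw [smul_add, hw', smul_sub, ← mul_smul (e j) (e j), K.idem, K.e_nsum_smul]
    abel

/-- The module of cosets of `⟨x⟩` is hit. -/
theorem isHit_cosets (j : ι) :
    IsHit p x (e j) (MonoidAlgebra k G ⧸ Submodule.span (MonoidAlgebra k G)
      ({of k G x - 1} : Set (MonoidAlgebra k G))) := by
  classical
  set U := Submodule.span (MonoidAlgebra k G) ({of k G x - 1} : Set (MonoidAlgebra k G)) with hU
  refine ⟨U.mkQ 1, ?_, ?_⟩
  · rw [← map_smul, Submodule.mkQ_apply, Submodule.mkQ_apply, Submodule.Quotient.eq, hU]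
    rw [smul_eq_mul, mul_one]
    exact Submodule.mem_span_singleton_self _
  intro z' hz
  obtain ⟨z, rfl⟩ := U.mkQ_surjective z'
  rw [← map_smul, ← map_smul, Submodule.mkQ_apply, Submodule.mkQ_apply, Submodule.Quotient.eq,
    hU, Submodule.mem_span_singleton] at hz
  obtain ⟨r, hr⟩ := hz
  rw [smul_eq_mul, smul_eq_mul, smul_eq_mul, mul_one] at hr
  let P : Finset G := (Finset.range p).image fun i => x ^ i
  let L : MonoidAlgebra k G →ₗ[k] k :=
    { toFun := fun w => ∑ y ∈ P, w.coeff y
      map_add' := fun a b => by simp [Finset.sum_add_distrib]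
      map_smul' := fun c a => by simp [Finset.mul_sum] }
  have hP : ∀ y, y ∈ P ↔ y ∈ Subgroup.zpowers x := by
    intro y
    rw [← (isOfFinOrder_of_finite x).mem_powers_iff_mem_zpowers,
      (isOfFinOrder_of_finite x).mem_powers_iff_mem_range_orderOf, K.hx]
  have hxr : ∀ w : MonoidAlgebra k G, L (w * of k G x) = L w := by
    intro w
    show ∑ y ∈ P, (w * of k G x).coeff y = ∑ y ∈ P, w.coeff y
    refine Finset.sum_bij (fun y _ => y * x⁻¹) (fun y hy => ?_) (fun a _ b _ h => mul_right_cancel h)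
      (fun y hy => ⟨y * x, ?_, mul_inv_cancel_right _ _⟩) (fun y _ => ?_)
    · rw [hP] at hy ⊢
      exact mul_mem hy (inv_mem (Subgroup.mem_zpowers x))
    · rw [hP] at hy ⊢
      exact mul_mem hy (Subgroup.mem_zpowers x)
    · simp [of_apply]
  have hN : L (nsum p k x * z) = 0 := by
    rw [nsum, Finset.sum_mul, map_sum]
    have : ∀ i, L (of k G x ^ i * z) = L z := by
      intro i
      show ∑ y ∈ P, (of k G x ^ i * z).coeff y = ∑ y ∈ P, z.coeff y
      refine Finset.sum_bij (fun y _ => (x ^ i)⁻¹ * y) (fun y hy => ?_)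
        (fun a _ b _ h => mul_left_cancel h)
        (fun y hy => ⟨x ^ i * y, ?_, inv_mul_cancel_left _ _⟩) (fun y _ => ?_)
      · rw [hP] at hy ⊢
        exact mul_mem (inv_mem (Subgroup.pow_mem _ (Subgroup.mem_zpowers x) i)) hy
      · rw [hP] at hy ⊢
        exact mul_mem (Subgroup.pow_mem _ (Subgroup.mem_zpowers x) i) hy
      · rw [← map_pow]; simp [of_apply]
    rw [Finset.sum_congr rfl fun i _ => this i, Finset.sum_const, Finset.card_range,
      nsmul_eq_mul, CharP.cast_eq_zero, zero_mul]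
  have he : L (e j) = (e j).coeff 1 := by
    show ∑ y ∈ P, (e j).coeff y = _
    refine Finset.sum_eq_single (1 : G) (fun y hy hne => K.supp j y fun hy0 => hne ?_)
      (fun h => absurd ((hP 1).2 (Subgroup.one_mem _)) h)
    rw [hP] at hy
    have hd : orderOf y ∣ p := by
      rw [← K.hx]
      exact Subgroup.orderOf_dvd_natCard _ hy |>.trans (Nat.card_zpowers x).dvd
    refine orderOf_eq_one_iff.1 ((hp.out.eq_one_or_self_of_dvd _ hd).resolve_right fun h => ?_)
    exact K.not_dvd (h ▸ Subgroup.orderOf_dvd_natCard _ hy0)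
  have hfin := congrArg L hr
  rw [mul_sub, mul_one, map_sub, map_sub, hxr, sub_self, hN, he, zero_sub] at hfin
  exact K.one_coeff j (neg_eq_zero.1 hfin.symm)

/-- The elements of order `p` of `T` are powers of `x`. -/
theorem mem_zpowers_of_pow_eq {g : G} (hg : g ∈ T) (hgp : g ^ p = 1) :
    g ∈ Subgroup.zpowers x := by
  obtain ⟨i, h, hh, rfl⟩ := K.decomp g hg
  set N := Subgroup.normalizer ((Subgroup.zpowers x : Subgroup G) : Set G)
  let P : Subgroup N := (Subgroup.zpowers x).subgroupOf N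
  have hxN : x ^ i ∈ N := Subgroup.le_normalizer (Subgroup.pow_mem _ (Subgroup.mem_zpowers x) i)
  have hhN : h ∈ N := K.nrm_of_mem_T0 hh
  have hπ : QuotientGroup.mk' P ⟨_, mul_mem hxN hhN⟩ = QuotientGroup.mk' P ⟨h, hhN⟩ := by
    have : (⟨_, mul_mem hxN hhN⟩ : N) = ⟨_, hxN⟩ * ⟨h, hhN⟩ := rfl
    rw [this, map_mul, QuotientGroup.mk'_apply, QuotientGroup.mk'_apply, (QuotientGroup.eq_one_iff _).2
      (show (⟨_, hxN⟩ : N) ∈ P from Subgroup.pow_mem _ (Subgroup.mem_zpowers x) i), one_mul]
  have h1 : h ^ p ∈ Subgroup.zpowers x := by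
    have h2 := congrArg (· ^ p) hπ
    simp only [← map_pow] at h2
    rw [show (⟨_, mul_mem hxN hhN⟩ : N) ^ p = 1 from Subtype.ext hgp, map_one] at h2
    exact (QuotientGroup.eq_one_iff ((⟨h, hhN⟩ : N) ^ p)).1 h2.symm
  have h2 : h ^ p = 1 := by
    have hd : orderOf (h ^ p) ∣ p :=
      (Subgroup.orderOf_dvd_natCard _ h1).trans (by rw [Nat.card_zpowers, K.hx])
    refine orderOf_eq_one_iff.1 ((hp.out.eq_one_or_self_of_dvd _ hd).resolve_right fun hd' => ?_)
    exact K.not_dvd (hd' ▸ Subgroup.orderOf_dvd_natCard _ (pow_mem hh p))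
  have h3 : h = 1 := orderOf_eq_one_iff.1
    ((hp.out.eq_one_or_self_of_dvd _ (orderOf_dvd_of_pow_eq_one h2)).resolve_right
      fun hd' => K.not_dvd (hd' ▸ Subgroup.orderOf_dvd_natCard _ hh))
  rw [h3, mul_one]
  exact Subgroup.pow_mem _ (Subgroup.mem_zpowers x) i

/-- No simple module is hit by two of the idempotents. -/
theorem not_hit_two [IsAlgClosed k] [FiniteDimensional k W]
    [IsSimpleModule (MonoidAlgebra k G) W] {j l : ι} (hjl : j ≠ l)
    (hj : IsHit p x (e j) W) (hl : IsHit p x (e l) W) : False := by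
  classical
  let L : MonoidAlgebra k G →ₐ[k] Module.End k W := Algebra.lsmul k k W
  have hL : ∀ (r : MonoidAlgebra k G) (a : W), L r a = r • a := fun _ _ => rfl
  let X : MonoidAlgebra k G := of k G x - 1
  let I : Submodule k W := LinearMap.range (L (nsum p k x))
  have hI : ∀ (g : G), g ∈ T0 → ∀ a ∈ I, of k G g • a ∈ I := by
    intro g hg a ha
    obtain ⟨z, rfl⟩ := ha
    obtain ⟨r, hr⟩ := K.pow_conj (K.nrm_of_mem_T0 hg) (p - 1)
    refine ⟨r • z, ?_⟩
    rw [hL, hL, ← mul_smul, ← mul_smul, nsum_eq_pow, hr]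
  let A : Submodule k W := LinearMap.eqLocus (L (of k G x)) LinearMap.id
  have hA : ∀ a : W, a ∈ A ↔ of k G x • a = a := fun _ => Iff.rfl
  -- the deepest level at which `e j` is not killed
  obtain ⟨a₀, ha₀, hne₀⟩ := hj
  let Lev : ℕ → Prop := fun m => ∃ b : W, X ^ m • b ∈ A ∧ e j • X ^ m • b ∉ I
  have hlev0 : Lev 0 := ⟨a₀, by simpa [hA] using ha₀,
    fun ⟨z, hz⟩ => hne₀ z (by simpa [hL] using hz)⟩
  have hlevTop : ¬ Lev (p - 1) := by
    rintro ⟨b, -, hb⟩
    refine hb ⟨e j • b, ?_⟩
    rw [hL, ← K.e_nsum_smul, nsum_eq_pow]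
  obtain ⟨m, hm, hm1⟩ : ∃ m, Lev m ∧ ¬ Lev (m + 1) := by
    by_contra h
    push Not at h
    exact hlevTop (Nat.rec hlev0 (fun m ih => h m ih) (p - 1))
  obtain ⟨b₀, hb₀, hb₀I⟩ := hm
  let R : ℕ → Submodule k W := fun i => LinearMap.range (L (X ^ i))
  have hRstab : ∀ i, ∀ g ∈ T0, ∀ a ∈ R i, of k G g • a ∈ R i := by
    intro i g hg a ha
    obtain ⟨z, rfl⟩ := ha
    obtain ⟨r, hr⟩ := K.pow_conj (K.nrm_of_mem_T0 hg) i
    refine ⟨r • z, ?_⟩
    rw [hL, hL, ← mul_smul, ← mul_smul, hr]
  have hAstab : ∀ g ∈ T0, ∀ a ∈ A, of k G g • a ∈ A := fun g hg a ha =>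
    K.fixed_of_mem (K.nrm_of_mem_T0 hg) ha
  let Am : Submodule k W := (A ⊓ R m).map (L (e j))
  have hAmA : Am ≤ A ⊓ R m := by
    rintro a ⟨c, hc, rfl⟩
    exact ⟨K.e_fixed j hc.1, K.e_smul_mem (R m) j fun g hg => hRstab m g hg c hc.2⟩
  have hAme : ∀ a ∈ Am, e j • a = a := by
    rintro a ⟨c, -, rfl⟩
    rw [hL, ← mul_smul, K.idem]
  let U : Submodule k W := R (m + 1) ⊔ A.map (L (1 - e j))
  have hAmU : Am ⊓ U ≤ I := by
    rintro a ⟨ha, hU⟩
    obtain ⟨s, hs, t, ⟨c, hc, rfl⟩, rfl⟩ := Submodule.mem_sup.1 hU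
    have hsA : s ∈ A := by
      have h1 : s + L (1 - e j) c ∈ A := (hAmA ha).1
      have h2 : L (1 - e j) c ∈ A := by
        rw [hL, sub_smul, one_smul]
        exact A.sub_mem hc (K.e_fixed j hc)
      simpa using A.sub_mem h1 h2
    have he := hAme _ ha
    have he2 : e j • L (1 - e j) c = 0 := by
      rw [hL, ← mul_smul, mul_sub, mul_one, K.idem, sub_self, zero_smul]
    rw [smul_add, he2, add_zero] at he
    rw [← he]
    obtain ⟨b, rfl⟩ := hs
    by_contra hc'
    exact hm1 ⟨b, hsA, hc'⟩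
  -- a projection
  obtain ⟨W', hW'⟩ := Submodule.exists_isCompl (Am ⊓ U)
  let W0 : Submodule k W := Am ⊓ W'
  have hdecomp : ∀ a ∈ Am, ∃ u ∈ Am ⊓ U, ∃ w ∈ W0, a = u + w := by
    intro a ha
    obtain ⟨u, hu, w, hw, rfl⟩ := Submodule.mem_sup.1
      (show a ∈ (Am ⊓ U) ⊔ W' by rw [hW'.sup_eq_top]; trivial)
    exact ⟨u, hu, w, ⟨(Submodule.add_mem_iff_right _ hu.1).1 ha, hw⟩, rfl⟩
  have hinj : LinearMap.ker (U.mkQ.comp W0.subtype) = ⊥ := by
    rw [LinearMap.ker_eq_bot']
    intro w hw
    have hwU : (w : W) ∈ U := (Submodule.Quotient.mk_eq_zero U).1 hw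
    exact Subtype.ext ((Submodule.mem_bot k).1
      (hW'.inf_eq_bot ▸ (⟨⟨w.2.1, hwU⟩, w.2.2⟩ : (w : W) ∈ (Am ⊓ U) ⊓ W')))
  obtain ⟨g₀, hg₀⟩ := LinearMap.exists_leftInverse_of_injective _ hinj
  let φ : W →ₗ[k] W := W0.subtype.comp (g₀.comp U.mkQ)
  have hφU : ∀ u ∈ U, φ u = 0 := by
    intro u hu
    show W0.subtype (g₀ (U.mkQ u)) = 0
    rw [(Submodule.Quotient.mk_eq_zero U).2 hu |> fun h => (show U.mkQ u = 0 from h), map_zero,
      map_zero]
  have hφAm : ∀ a ∈ Am, φ a - a ∈ I := by
    intro a ha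
    obtain ⟨u, hu, w, hw, rfl⟩ := hdecomp a ha
    have hw' : φ w = w := congrArg (Subtype.val : W0 → W) (LinearMap.congr_fun hg₀ ⟨w, hw⟩)
    rw [map_add, hφU u hu.2, hw', zero_add, sub_add_cancel_right]
    exact I.neg_mem (hAmU hu)
  have hφA : ∀ a, φ a ∈ A ⊓ R m := fun a => hAmA (g₀ (U.mkQ a)).2.1
  obtain ⟨r, hr⟩ := LinearMap.exists_rightInverse_of_surjective
    (L (X ^ m)).rangeRestrict (LinearMap.range_rangeRestrict _)
  let F : Module.End k W := r.comp (φ.codRestrict (R m) fun a => (hφA a).2)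
  have hF : L (X ^ m) * F = φ := by
    ext a
    exact congrArg (Subtype.val : LinearMap.range (L (X ^ m)) → W)
      (LinearMap.congr_fun hr ⟨φ a, (hφA a).2⟩)
  let ψ₀ : Module.End k W := ∑ i ∈ Finset.range (m + 1), L (X ^ (m - i)) * F * L (X ^ i)
  have hψ₀comm : Commute (L X) ψ₀ := by
    show L X * ψ₀ = ψ₀ * L X
    rw [← sub_eq_zero]
    have h1 : L X * ψ₀ - ψ₀ * L X = ∑ i ∈ Finset.range (m + 1),
        ((fun i => L (X ^ (m + 1 - i)) * F * L (X ^ i)) i -
          (fun i => L (X ^ (m + 1 - i)) * F * L (X ^ i)) (i + 1)) := by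
      rw [Finset.mul_sum, Finset.sum_mul, ← Finset.sum_sub_distrib]
      refine Finset.sum_congr rfl fun i hi => ?_
      rw [Finset.mem_range] at hi
      simp only [map_pow]
      rw [show m + 1 - i = m - i + 1 by omega, show m + 1 - (i + 1) = m - i by omega,
        pow_succ' (L X) (m - i), pow_succ (L X) i]
      simp only [mul_assoc]
    rw [h1, Finset.sum_range_sub']
    simp only [Nat.sub_zero, pow_zero, map_one, mul_one, Nat.sub_self, one_mul]
    have e1 : L (X ^ (m + 1)) * F = 0 := by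
      rw [pow_succ', map_mul, mul_assoc, hF]
      ext a
      show X • φ a = 0
      rw [sub_smul, one_smul, sub_eq_zero]
      exact (hA _).1 (hφA a).1
    have e2 : F * L (X ^ (m + 1)) = 0 := by
      ext a
      show r (φ.codRestrict (R m) _ (L (X ^ (m + 1)) a)) = 0
      rw [show φ.codRestrict (R m) (fun a => (hφA a).2) (L (X ^ (m + 1)) a) = 0 from
        Subtype.ext (hφU _ (Submodule.mem_sup_left ⟨a, rfl⟩)), map_zero]
    rw [e1, e2, sub_zero]
  have hψ₀A : ∀ a ∈ A, ψ₀ a = φ a := by
    intro a ha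
    rw [LinearMap.sum_apply, Finset.sum_eq_single 0]
    · rw [Nat.sub_zero, pow_zero, map_one, mul_one, hF]
    · intro i _ hi
      obtain ⟨i, rfl⟩ := Nat.exists_eq_succ_of_ne_zero hi
      have : L (X ^ (i + 1)) a = 0 := by
        rw [hL, pow_succ, mul_smul, sub_smul, one_smul, (hA a).1 ha, sub_self, smul_zero]
      rw [Module.End.mul_apply, this, map_zero]
    · simp
  have hψ₀x : ∀ i : ℕ, Commute (L (of k G x ^ i)) ψ₀ := by
    intro i
    rw [map_pow]
    refine Commute.pow_left ?_ i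
    have : of k G x = X + 1 := (sub_add_cancel _ _).symm
    rw [this, map_add, map_one]
    exact hψ₀comm.add_left (Commute.one_left _)
  -- average over `T0`
  haveI := Fintype.ofFinite T0
  let c₀ : k := ((Nat.card T0 : k))⁻¹
  have hc₀ : c₀ * (Nat.card T0 : k) = 1 :=
    inv_mul_cancel₀ fun h => K.not_dvd ((CharP.cast_eq_zero_iff k p _).1 h)
  let cj : G → Module.End k W → Module.End k W := fun g f => L (of k G g) * f * L (of k G g⁻¹)
  have hcj_mul : ∀ g h f, cj g (cj h f) = cj (g * h) f := by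
    intro g h f
    simp only [cj, map_mul, mul_inv_rev, mul_assoc]
  let ψ : Module.End k W := c₀ • ∑ h : T0, cj h ψ₀
  have hψT0 : ∀ g ∈ T0, cj g ψ = ψ := by
    intro g hg
    show L (of k G g) * (c₀ • ∑ h : T0, cj h ψ₀) * L (of k G g⁻¹) = _
    rw [mul_smul_comm, smul_mul_assoc, Finset.mul_sum, Finset.sum_mul]
    congr 1
    refine Fintype.sum_equiv (Equiv.mulLeft ⟨g, hg⟩) _ _ fun h => ?_
    exact hcj_mul g h ψ₀
  have hψx : ∀ i : ℕ, cj (x ^ i) ψ = ψ := by
    intro i
    show L (of k G (x ^ i)) * (c₀ • ∑ h : T0, cj h ψ₀) * L (of k G (x ^ i)⁻¹) = _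
    rw [mul_smul_comm, smul_mul_assoc, Finset.mul_sum, Finset.sum_mul]
    congr 1
    refine Finset.sum_congr rfl fun h _ => ?_
    obtain ⟨μ, hμ⟩ := K.exists_conj (inv_mem (K.nrm_of_mem_T0 h.2))
    have hx' : x ^ i * (h : G) = h * x ^ (μ * i) := by
      rw [pow_mul, ← hμ, conj_pow, inv_inv]
      group
    calc cj (x ^ i) (cj h ψ₀) = cj h (cj (x ^ (μ * i)) ψ₀) := by rw [hcj_mul, hcj_mul, hx']
      _ = cj h ψ₀ := by
        congr 1
        show L (of k G (x ^ (μ * i))) * ψ₀ * L (of k G (x ^ (μ * i))⁻¹) = ψ₀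
        rw [map_pow (of k G), (hψ₀x _).eq, mul_assoc, ← map_mul, ← map_pow (of k G), ← map_mul,
          mul_inv_cancel, map_one, map_one, mul_one]
  have hψT : ∀ g ∈ T, cj g ψ = ψ := by
    intro g hg
    obtain ⟨i, h, hh, rfl⟩ := K.decomp g hg
    rw [← hcj_mul, hψT0 h hh, hψx i]
  have hψAm : ∀ a ∈ Am, ψ a - a ∈ I := by
    intro a ha
    have hterm : ∀ h : T0, cj h ψ₀ a - a ∈ I := by
      intro h
      have hin : of k G (h : G)⁻¹ • a ∈ Am := by
        obtain ⟨c, hc, rfl⟩ := ha
        refine ⟨of k G (h : G)⁻¹ • c,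
          ⟨hAstab _ (inv_mem h.2) c hc.1, hRstab m _ (inv_mem h.2) c hc.2⟩, ?_⟩
        rw [hL, hL, ← mul_smul, ← mul_smul, (K.comm j _ (inv_mem h.2)).eq]
      show of k G (h : G) • ψ₀ (of k G (h : G)⁻¹ • a) - a ∈ I
      rw [hψ₀A _ (hAmA hin).1]
      have h1 := hI _ h.2 _ (hφAm _ hin)
      rwa [smul_sub, ← mul_smul (of k G (h : G)), ← map_mul, mul_inv_cancel, map_one, one_smul]
        at h1
    have : ψ a - a = c₀ • ∑ h : T0, (cj h ψ₀ a - a) := by
      rw [Finset.sum_sub_distrib, Finset.sum_const, Finset.card_univ, ← Nat.card_eq_fintype_card,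
        smul_sub, ← Nat.cast_smul_eq_nsmul k, smul_smul, hc₀, one_smul]
      simp [ψ, LinearMap.sum_apply]
    rw [this]
    exact I.smul_mem _ (I.sum_mem fun h _ => hterm h)
  have hψ0 : ∀ a ∈ A, e j • a = 0 → ψ a = 0 := by
    intro a ha hea
    show (c₀ • ∑ h : T0, cj h ψ₀) a = 0
    rw [LinearMap.smul_apply, LinearMap.sum_apply,
      Finset.sum_eq_zero (fun (h : T0) _ => ?_), smul_zero]
    show of k G (h : G) • ψ₀ (of k G (h : G)⁻¹ • a) = 0
    have hin : of k G (h : G)⁻¹ • a ∈ A := hAstab _ (inv_mem h.2) a ha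
    rw [hψ₀A _ hin, hφU, smul_zero]
    refine Submodule.mem_sup_right ⟨_, hin, ?_⟩
    rw [hL, sub_smul, one_smul, ← mul_smul (e j), ← (K.comm j _ (inv_mem h.2)).eq, mul_smul, hea,
      smul_zero, sub_zero]
  -- the trace to `G`
  let f : G ⧸ T → Module.End k W := fun c => cj c.out ψ
  have hf : ∀ g : G, f (g : G ⧸ T) = cj g ψ := by
    intro g
    obtain ⟨t, ht⟩ := QuotientGroup.mk_out_eq_mul T g
    show cj (Quotient.out (g : G ⧸ T)) ψ = _
    rw [ht, ← hcj_mul, hψT t t.2]
  have hfact : ∀ (g : G) (c : G ⧸ T), f (g • c) = cj g (f c) := by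
    intro g c
    induction c using QuotientGroup.induction_on with
    | _ h => rw [show g • ((h : G ⧸ T)) = ((g * h : G) : G ⧸ T) from rfl, hf, hf, hcj_mul]
  let Φ : Module.End k W := ∑ c : G ⧸ T, f c
  have hΦG : ∀ g : G, cj g Φ = Φ := by
    intro g
    show L (of k G g) * (∑ c : G ⧸ T, f c) * L (of k G g⁻¹) = _
    rw [Finset.mul_sum, Finset.sum_mul]
    exact Fintype.sum_equiv (MulAction.toPerm g) _ _ fun c => (hfact g c).symm
  have hΦlin : ∀ (r : MonoidAlgebra k G) (a : W), Φ (r • a) = r • Φ a := by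
    intro r a
    rw [eq_sum_of r, Finset.sum_smul, Finset.sum_smul, map_sum]
    refine Finset.sum_congr rfl fun g _ => ?_
    rw [smul_assoc, smul_assoc, map_smul]
    congr 1
    conv_lhs => rw [← hΦG g]
    show of k G g • Φ (of k G g⁻¹ • (of k G g • a)) = _
    rw [← mul_smul (of k G g⁻¹), ← map_mul, inv_mul_cancel, map_one, one_smul]
  have : Nontrivial W := IsSimpleModule.nontrivial (MonoidAlgebra k G) W
  obtain ⟨μ, hμ⟩ := Module.End.exists_eigenvalue Φ
  obtain ⟨w, hw⟩ := hμ.exists_hasEigenvector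
  let Φ' : W →ₗ[MonoidAlgebra k G] W :=
    { toFun := fun a => Φ a - μ • a
      map_add' := fun a b => by simp [smul_add]; abel
      map_smul' := fun r a => by simp [hΦlin, smul_sub, smul_comm r μ a] }
  have hscalar : ∀ a, Φ a = μ • a := by
    rcases LinearMap.bijective_or_eq_zero Φ' with h | h
    · refine absurd (h.1 (a₁ := w) (a₂ := 0) ?_) hw.2
      show Φ w - μ • w = Φ 0 - μ • (0 : W)
      rw [hw.apply_eq_smul, sub_self, map_zero, smul_zero, sub_zero]
    · exact fun a => sub_eq_zero.1 (LinearMap.congr_fun h a)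
  -- modulo `I`, only the trivial coset acts on the fixed vectors
  have hred : ∀ (i : ι), ∀ a ∈ A, e i • a = a → Φ a - ψ a ∈ I := by
    intro i a ha hea
    let σ : Equiv.Perm (G ⧸ T) := MulAction.toPerm x
    have hσp : σ ^ p = 1 := by
      show (MulAction.toPermHom G (G ⧸ T) x) ^ p = 1
      rw [← map_pow, ← K.hx, pow_orderOf_eq_one, map_one]
    have hvσ : ∀ c, f (σ c) a = of k G x • f c a := by
      intro c
      show f (x • c) a = _
      rw [hfact]
      show of k G x • f c (of k G x⁻¹ • a) = _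
      congr 2
      conv_lhs => rw [← (hA a).1 ha]
      rw [← mul_smul, ← map_mul, inv_mul_cancel, map_one, one_smul]
    set s := Finset.univ.filter fun c : G ⧸ T => σ c ≠ c
    obtain ⟨z, hz⟩ := sum_mem_range (k := k) x σ hσp (fun c => f c a) hvσ s
      (fun c hc => by
        simp only [s, Finset.mem_filter, Finset.mem_univ, true_and] at hc ⊢
        exact fun h => hc (σ.injective h))
      (fun c hc => (Finset.mem_filter.1 hc).2)
    have hrest : ∀ c : G ⧸ T, σ c = c → c ≠ ((1 : G) : G ⧸ T) → f c a = 0 := by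
      intro c hc hc1
      induction c using QuotientGroup.induction_on with
      | _ g =>
        have h1 : g⁻¹ * x * g ∈ T := by
          have h2 : g⁻¹ * (x * g) ∈ T := QuotientGroup.eq.1 hc.symm
          rwa [← mul_assoc] at h2
        have h2 := K.mem_zpowers_of_pow_eq h1 (by
          rw [show g⁻¹ * x * g = g⁻¹ * x * g⁻¹⁻¹ by rw [inv_inv], conj_pow, ← K.hx,
            pow_orderOf_eq_one, mul_one, mul_inv_cancel])
        have hgN : g ∈ Subgroup.normalizer ((Subgroup.zpowers x : Subgroup G) : Set G) := by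
          rw [← inv_mem_iff]
          refine Subgroup.mem_normalizer_fintype fun y hy => ?_
          obtain ⟨q, rfl⟩ := Subgroup.mem_zpowers_iff.1 hy
          rw [← conj_zpow, inv_inv]
          exact Subgroup.zpow_mem _ h2 q
        have hgT : g⁻¹ ∉ T := fun h => hc1 (QuotientGroup.eq.2 (by simpa using h))
        rw [hf]
        show of k G g • ψ (of k G g⁻¹ • a) = 0
        rw [hψ0 _ (K.fixed_of_mem (inv_mem hgN) ha), smul_zero]
        conv_lhs => rw [← hea]
        rw [← mul_smul, ← mul_smul, K.kill j i g⁻¹ (inv_mem hgN) hgT, zero_smul]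
    have hone : σ ((1 : G) : G ⧸ T) = ((1 : G) : G ⧸ T) := by
      show ((x * 1 : G) : G ⧸ T) = _
      exact QuotientGroup.eq.2 (by simpa using K.x_mem)
    have hsplit : Φ a = ∑ c ∈ s, f c a + ψ a := by
      rw [LinearMap.sum_apply, ← Finset.sum_filter_add_sum_filter_not Finset.univ
        (fun c : G ⧸ T => σ c ≠ c)]
      congr 1
      rw [Finset.sum_eq_single ((1 : G) : G ⧸ T)]
      · rw [hf]
        show (cj 1 ψ) a = _
        rw [hψT 1 T.one_mem]
      · intro c hc hc1
        exact hrest c (not_ne_iff.1 (Finset.mem_filter.1 hc).2) hc1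
      · intro h
        refine absurd ?_ h
        simp only [Finset.mem_filter, Finset.mem_univ, true_and, not_not]
        exact hone
    rw [hsplit, add_sub_cancel_right]
    exact ⟨z, hz⟩
  -- contradiction
  set a₁ := e j • X ^ m • b₀ with ha₁
  have ha₁Am : a₁ ∈ Am := ⟨_, ⟨hb₀, ⟨b₀, rfl⟩⟩, rfl⟩
  have hμ1 : μ = 1 := by
    by_contra hμ
    have h1 := I.add_mem (hred j a₁ (hAmA ha₁Am).1 (hAme _ ha₁Am)) (hψAm a₁ ha₁Am)
    rw [sub_add_sub_cancel, hscalar] at h1
    have h2 := I.smul_mem (μ - 1)⁻¹ h1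
    rw [show μ • a₁ - a₁ = (μ - 1) • a₁ by rw [sub_smul, one_smul], smul_smul,
      inv_mul_cancel₀ (sub_ne_zero.2 hμ), one_smul] at h2
    exact hb₀I h2
  obtain ⟨a₂, ha₂, hne₂⟩ := hl
  have h1 := hred l (e l • a₂) (K.e_fixed l ha₂) (by rw [← mul_smul, K.idem])
  rw [hψ0 _ (K.e_fixed l ha₂) (by rw [← mul_smul, K.orth j l hjl, zero_smul]), sub_zero,
    hscalar, hμ1, one_smul] at h1
  obtain ⟨z, hz⟩ := h1
  exact hne₂ z hz

/-- Some simple module is hit by each idempotent. -/
theorem exists_simple_hit (j : ι) :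
    ∃ (U : Submodule (MonoidAlgebra k G) (MonoidAlgebra k G))
      (S : Submodule (MonoidAlgebra k G) (MonoidAlgebra k G ⧸ U)),
        IsSimpleModule (MonoidAlgebra k G) S ∧ IsHit p x (e j) S := by
  classical
  haveI : Module.Finite k (MonoidAlgebra k G) :=
    Module.Finite.of_surjective (Finsupp.linearCombination k fun g : G => of k G g)
      fun z => ⟨Finsupp.equivFunOnFinite.symm z.coeff, by
        rw [Finsupp.linearCombination_apply, Finsupp.sum_fintype _ _ (by simp)]
        exact (eq_sum_of z).symm⟩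
  haveI : IsNoetherian (MonoidAlgebra k G) (MonoidAlgebra k G) := isNoetherian_of_tower k inferInstance
  let Good : Set (Submodule (MonoidAlgebra k G) (MonoidAlgebra k G)) :=
    {U | IsHit p x (e j) (MonoidAlgebra k G ⧸ U)}
  obtain ⟨U, hU, hmax⟩ := set_has_maximal_iff_noetherian.2 inferInstance Good
    ⟨_, K.isHit_cosets j⟩
  haveI : IsArtinian (MonoidAlgebra k G) (MonoidAlgebra k G ⧸ U) :=
    isArtinian_of_tower k inferInstance
  obtain ⟨a, ha, hne⟩ := hU
  have hnt : (⊤ : Submodule (MonoidAlgebra k G) (MonoidAlgebra k G ⧸ U)) ≠ ⊥ := by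
    intro h
    have h0 : ∀ b : MonoidAlgebra k G ⧸ U, b = 0 := fun b =>
      (Submodule.mem_bot (MonoidAlgebra k G)).1 (h ▸ Submodule.mem_top)
    exact hne 0 ((h0 _).trans (h0 _).symm)
  obtain ⟨S, hS, -⟩ := (IsAtomic.eq_bot_or_exists_atom_le
    (⊤ : Submodule (MonoidAlgebra k G) (MonoidAlgebra k G ⧸ U))).resolve_left hnt
  refine ⟨U, S, isSimpleModule_iff_isAtom.2 hS, ?_⟩
  refine (K.isHit_sub_or_quot (U := S) ⟨a, ha, hne⟩).resolve_right fun hq => ?_
  refine hmax (S.comap U.mkQ) ?_ ?_
  · obtain ⟨b, hb, hbne⟩ := hq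
    let fq : ((MonoidAlgebra k G ⧸ U) ⧸ S) ≃ₗ[MonoidAlgebra k G]
        (MonoidAlgebra k G ⧸ S.comap U.mkQ) :=
      ((Submodule.quotEquivOfEq S ((S.comap U.mkQ).map U.mkQ)
        (Submodule.map_comap_eq_of_surjective U.mkQ_surjective S).symm).trans
          (Submodule.quotientQuotientEquivQuotient U (S.comap U.mkQ)
            (fun u hu => show U.mkQ u ∈ S by
              rw [show U.mkQ u = 0 from (Submodule.Quotient.mk_eq_zero U).2 hu]; exact S.zero_mem)))
    exact IsHit.congr fq ⟨b, hb, hbne⟩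
  · refine lt_of_le_of_ne (fun u hu => show U.mkQ u ∈ S by
      rw [show U.mkQ u = 0 from (Submodule.Quotient.mk_eq_zero U).2 hu]; exact S.zero_mem) ?_
    intro h
    refine hS.1 ?_
    rw [← Submodule.map_comap_eq_of_surjective U.mkQ_surjective S, ← h, Submodule.mkQ_map_self]

/-- An element fixing the idempotent modulo conjugation orbits acts as the identity on a simple
module which is hit. -/
theorem smul_eq_self [IsSimpleModule (MonoidAlgebra k G) W] {z : MonoidAlgebra k G}
    (hz : ∀ r, Commute z r) (hidem : IsIdempotentElem z)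
    (hinv : ∀ g : G, z.coeff (x * g * x⁻¹) = z.coeff g) {j : ι}
    (hzc : haveI := Classical.decPred fun g : G => Commute x g
      (∑ g ∈ Finset.univ.filter (fun g : G => Commute x g), z.coeff g • of k G g) * e j = e j)
    (hj : IsHit p x (e j) W) (a : W) : z • a = a := by
  classical
  obtain ⟨b, hb, hne⟩ := hj
  let σ : Equiv.Perm G := (MulAut.conj x).toEquiv
  have hσ : σ ^ p = 1 := by
    ext g
    have : ∀ i : ℕ, (σ ^ i) g = x ^ i * g * (x ^ i)⁻¹ := by
      intro i
      induction i with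
      | zero => simp
      | succ i ih =>
        rw [pow_succ', Equiv.Perm.mul_apply, ih]
        show x * (x ^ i * g * (x ^ i)⁻¹) * x⁻¹ = _
        rw [pow_succ', mul_inv_rev]
        simp only [mul_assoc]
    rw [this, ← K.hx, pow_orderOf_eq_one]
    simp
  have hb' : of k G x • (e j • b) = e j • b := K.e_fixed j hb
  obtain ⟨w, hw⟩ := sum_mem_range (W := W) (k := k) x σ hσ
    (fun g => z.coeff g • (of k G g • (e j • b))) (fun g => by
      show z.coeff (x * g * x⁻¹) • (of k G (x * g * x⁻¹) • (e j • b)) = _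
      rw [hinv, smul_comm (of k G x)]
      congr 1
      conv_lhs => rw [← hb']
      rw [← mul_smul, ← map_mul, inv_mul_cancel_right, map_mul, mul_smul])
    (Finset.univ.filter fun g : G => ¬ Commute x g)
    (fun g hg => by
      simp only [Finset.mem_filter, Finset.mem_univ, true_and] at hg ⊢
      intro h
      refine hg ?_
      have h' : x * (x * g * x⁻¹) = x * g * x⁻¹ * x := h
      rw [inv_mul_cancel_right] at h'
      exact mul_inv_eq_iff_eq_mul.1 (mul_left_cancel h'))
    (fun g hg h => by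
      simp only [Finset.mem_filter, Finset.mem_univ, true_and] at hg
      exact hg (mul_inv_eq_iff_eq_mul.1 h))
  have hze : z • (e j • b) = e j • b + nsum p k x • w := by
    conv_lhs => rw [eq_sum_of z, Finset.sum_smul,
      ← Finset.sum_filter_add_sum_filter_not Finset.univ (fun g : G => Commute x g)]
    rw [hw]
    congr 1
    · rw [← Finset.sum_smul, ← mul_smul, hzc]
    · exact Finset.sum_congr rfl fun g _ => smul_assoc _ _ _
  let f : W →ₗ[MonoidAlgebra k G] W :=
    { toFun := fun c => z • c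
      map_add' := fun c d => smul_add z c d
      map_smul' := fun r c => by simp only [RingHom.id_apply, ← mul_smul, (hz r).eq] }
  rcases LinearMap.bijective_or_eq_zero f with h | h
  · exact h.1 (show z • (z • a) = z • a by rw [← mul_smul, hidem.eq])
  · have h0 : z • (e j • b) = 0 := LinearMap.congr_fun h _
    rw [hze] at h0
    exact absurd (by rw [smul_neg, ← eq_neg_of_add_eq_zero_left h0]) (hne (-w))

end Ctx

omit K

/-- The trace functions of pairwise non-isomorphic simple modules are linearly independent. -/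
theorem trace_linearIndependent [IsAlgClosed k] {ι : Type*} [Finite ι] (S : ι → Type v)
    [∀ i, AddCommGroup (S i)] [∀ i, Module k (S i)] [∀ i, Module (MonoidAlgebra k G) (S i)]
    [∀ i, IsScalarTower k (MonoidAlgebra k G) (S i)] [∀ i, FiniteDimensional k (S i)]
    [∀ i, IsSimpleModule (MonoidAlgebra k G) (S i)]
    (hiso : ∀ i j, Nonempty (S i ≃ₗ[MonoidAlgebra k G] S j) → i = j) :
    LinearIndependent k fun (i : ι) (g : G) =>
      LinearMap.trace k (S i) (Algebra.lsmul k k (S i) (of k G g)) := by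
  classical
  haveI := Fintype.ofFinite ι
  rw [Fintype.linearIndependent_iff]
  intro c hc i₀
  -- the projection to a line of one component
  haveI : Nontrivial (S i₀) := IsSimpleModule.nontrivial (MonoidAlgebra k G) _
  let bs := Module.finBasis k (S i₀)
  have hpos : 0 < Module.finrank k (S i₀) := Module.finrank_pos
  let π₀ : Module.End k (S i₀) := (bs.coord ⟨0, hpos⟩).smulRight (bs ⟨0, hpos⟩)
  let f : ((i : ι) → S i) →ₗ[k] ((i : ι) → S i) :=
    (LinearMap.single k S i₀).comp (π₀.comp (LinearMap.proj i₀))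
  have hendo : ∀ (φ : ((i : ι) → S i) →ₗ[MonoidAlgebra k G] ((i : ι) → S i)),
      ∃ μ : k, ∀ w, φ w i₀ = μ • w i₀ ∧ ∀ v : S i₀, φ (Pi.single i₀ v) = Pi.single i₀ (μ • v) := by
    intro φ
    let φij : ∀ i j, S j →ₗ[MonoidAlgebra k G] S i := fun i j =>
      (LinearMap.proj i).comp (φ.comp (LinearMap.single (MonoidAlgebra k G) S j))
    have hzero : ∀ i j, i ≠ j → φij i j = 0 := fun i j hij =>
      (LinearMap.bijective_or_eq_zero (φij i j)).resolve_left fun h =>
        hij (hiso j i ⟨LinearEquiv.ofBijective _ h⟩).symm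
    let ψ : Module.End k (S i₀) := (φij i₀ i₀).restrictScalars k
    obtain ⟨μ, hμ⟩ := Module.End.exists_eigenvalue ψ
    obtain ⟨w₀, hw₀⟩ := hμ.exists_hasEigenvector
    let ψ' : S i₀ →ₗ[MonoidAlgebra k G] S i₀ :=
      { toFun := fun v => φij i₀ i₀ v - μ • v
        map_add' := fun a b => by simp [smul_add]; abel
        map_smul' := fun r a => by simp [smul_sub, smul_comm r μ a] }
    have hdiag : ∀ v, φij i₀ i₀ v = μ • v := by
      rcases LinearMap.bijective_or_eq_zero ψ' with h | h
      · refine absurd (h.1 (a₁ := w₀) (a₂ := 0) ?_) hw₀.2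
        show φij i₀ i₀ w₀ - μ • w₀ = φij i₀ i₀ 0 - μ • (0 : S i₀)
        rw [show φij i₀ i₀ w₀ = μ • w₀ from hw₀.apply_eq_smul, sub_self, map_zero, smul_zero,
          sub_zero]
      · exact fun v => sub_eq_zero.1 (LinearMap.congr_fun h v)
    refine ⟨μ, fun w => ⟨?_, fun v => ?_⟩⟩
    · conv_lhs => rw [← Finset.univ_sum_single w, map_sum, Finset.sum_apply]
      show ∑ j, φij i₀ j (w j) = _
      rw [Finset.sum_eq_single i₀ (fun j _ hj => LinearMap.congr_fun (hzero i₀ j (Ne.symm hj)) _)
        (fun h => absurd (Finset.mem_univ _) h)]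
      exact hdiag _
    · funext i
      by_cases hi : i = i₀
      · subst hi
        rw [Pi.single_eq_same]
        exact hdiag v
      · rw [Pi.single_eq_of_ne hi]
        exact LinearMap.congr_fun (hzero i i₀ hi) v
  let fE : Module.End (Module.End (MonoidAlgebra k G) ((i : ι) → S i)) ((i : ι) → S i) :=
    { toFun := f
      map_add' := map_add f
      map_smul' := fun φ w => by
        obtain ⟨μ, hμ⟩ := hendo φ
        show Pi.single i₀ (π₀ (φ w i₀)) = φ (Pi.single i₀ (π₀ (w i₀)))
        rw [(hμ w).1, (hμ w).2, map_smul] }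
  let bM := Module.finBasis k ((i : ι) → S i)
  obtain ⟨r, hr⟩ := jacobson_density fE (Finset.univ.image bM)
  have hrf : ∀ w, r • w = f w := by
    have : (Algebra.lsmul k k ((i : ι) → S i) r : ((i : ι) → S i) →ₗ[k] ((i : ι) → S i)) = f :=
      bM.ext fun q => (hr (bM q) (Finset.mem_image_of_mem _ (Finset.mem_univ q))).symm
    exact fun w => LinearMap.congr_fun this w
  have htr : ∀ i, LinearMap.trace k (S i) (Algebra.lsmul k k (S i) r) =
      if i = i₀ then 1 else 0 := by
    intro i
    have hcomp : ∀ v : S i, r • v = f (Pi.single i v) i := by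
      intro v
      rw [← hrf, Pi.smul_apply, Pi.single_eq_same]
    by_cases hi : i = i₀
    · subst hi
      rw [if_pos rfl]
      have : Algebra.lsmul k k (S i) r = π₀ := by
        ext v
        show r • v = _
        rw [hcomp]
        show Pi.single i (π₀ ((Pi.single i v : (j : ι) → S j) i)) i = _
        rw [Pi.single_eq_same, Pi.single_eq_same]
      rw [this, LinearMap.trace_smulRight]
      simp
    · rw [if_neg hi]
      have : Algebra.lsmul k k (S i) r = 0 := by
        ext v
        show r • v = _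
        rw [hcomp]
        show Pi.single i₀ _ i = _
        rw [Pi.single_eq_of_ne hi]
        rfl
      rw [this, map_zero]
  have hlin : ∀ i, LinearMap.trace k (S i) (Algebra.lsmul k k (S i) r) =
      ∑ g : G, r.coeff g * LinearMap.trace k (S i) (Algebra.lsmul k k (S i) (of k G g)) := by
    intro i
    conv_lhs => rw [eq_sum_of r, map_sum, map_sum]
    exact Finset.sum_congr rfl fun g _ => by rw [map_smul, map_smul, smul_eq_mul]
  have hfun := fun g => congrFun hc g
  simp only [Finset.sum_apply, Pi.smul_apply, smul_eq_mul, Pi.zero_apply] at hfun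
  calc c i₀ = ∑ i, c i * LinearMap.trace k (S i) (Algebra.lsmul k k (S i) r) := by simp [htr]
    _ = ∑ g : G, r.coeff g *
          ∑ i, c i * LinearMap.trace k (S i) (Algebra.lsmul k k (S i) (of k G g)) := by
      simp only [hlin, Finset.mul_sum]
      rw [Finset.sum_comm]
      exact Finset.sum_congr rfl fun g _ => Finset.sum_congr rfl fun i _ => by ring
    _ = 0 := Finset.sum_eq_zero fun g _ => by rw [hfun g, mul_zero]

/-- The trace of an element is that of its `p'`-part. -/
theorem trace_mul_of_pow [FiniteDimensional k W] {u y : G} (huy : Commute u y) {n : ℕ}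
    (hu : u ^ p ^ n = 1) :
    LinearMap.trace k W (Algebra.lsmul k k W (of k G (u * y))) =
      LinearMap.trace k W (Algebra.lsmul k k W (of k G y)) := by
  haveI : CharP (MonoidAlgebra k G) p :=
    charP_of_injective_algebraMap (algebraMap k (MonoidAlgebra k G)).injective p
  set A : Module.End k W := Algebra.lsmul k k W (of k G y)
  set U : Module.End k W := Algebra.lsmul k k W (of k G u - 1)
  have hUn : IsNilpotent U := by
    refine ⟨p ^ n, ?_⟩
    rw [← map_pow, sub_pow_char_pow_of_commute (p := p) (n := n) (h := Commute.one_right _),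
      one_pow, ← map_pow, hu, map_one, sub_self, map_zero]
  have hc : Commute U A := by
    have h1 : Commute (of k G u) (of k G y) := huy.map (of k G)
    exact (h1.sub_left (Commute.one_left _)).map (Algebra.lsmul k k W)
  have : Algebra.lsmul k k W (of k G (u * y)) = U * A + A := by
    rw [← map_mul, ← map_add, map_mul (of k G), sub_mul, one_mul, sub_add_cancel]
  rw [this, map_add]
  have hnil : IsNilpotent (U * A) := hc.isNilpotent_mul_right hUn
  rw [(LinearMap.isNilpotent_trace_of_isNilpotent hnil).eq_zero, zero_add]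

end CfsgLib.PrimeDefect.Hit
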