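import Cfsg.Agent.Lib.Blk7.DegreeLtPrime
import Cfsg.Agent.Lib.Characters.LinearTwist
import Cfsg.Agent.Lib.Characters.NormalRes
import Cfsg.Agent.Lib.Chars17.IrrBasic

/-!
# Sylow subgroups of prime order: the centraliser and its characters

`C = ⟨x⟩ × V` for the centraliser `C` of an element `x` of order `p` when `p ^ 2` does not divide
the group order, the characters `irrC a β` of `C`, and the multiplicities of an irreducible
character of `G` on `C`.
-/

set_option autoImplicit false
set_option linter.unusedSectionVars false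
set_option linter.style.haveILetI false

noncomputable section

namespace CfsgLib.PrimeDefect

open Cfsg CfsgLib.Characters CfsgLib.SelfCentralPrime
open scoped ComplexConjugate

universe u

variable {G : Type u} [Group G]

/-- The data: an element `x` of order `p`, its centraliser `C`, and the elements `V` of `C` of
order prime to `p`. -/
structure Data (p : ℕ) [Fact p.Prime] (x : G) (C V : Subgroup G) : Prop where
  hx : orderOf x = p
  hsq : ¬ p ^ 2 ∣ Nat.card G
  hC : Subgroup.centralizer ({x} : Set G) = C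
  hV : ∀ g : G, g ∈ V ↔ g ∈ C ∧ ¬ p ∣ orderOf g

variable {p : ℕ} [hp : Fact p.Prime] {x : G} {C V : Subgroup G}

section

variable [Finite G]

/-- The data of an element of order `p`. -/
theorem exists_data (hx : orderOf x = p) (hsq : ¬ p ^ 2 ∣ Nat.card G) :
    ∃ V : Subgroup G, Data p x (Subgroup.centralizer ({x} : Set G)) V := by
  classical
  obtain ⟨P, hP⟩ := DegreeLtPrime.centralizer_sylow hx hsq
  have hnc : Subgroup.normalizer (P : Set (Subgroup.centralizer ({x} : Set G))) ≤
      Subgroup.centralizer (P : Set (Subgroup.centralizer ({x} : Set G))) := by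
    intro c _
    rw [Subgroup.mem_centralizer_iff]
    intro w hw
    change w ∈ (P : Subgroup (Subgroup.centralizer ({x} : Set G))) at hw
    rw [hP] at hw
    exact (Subgroup.mem_center_iff.1 (DegreeLtPrime.le_center_zpowers hw) c).symm
  let f := MonoidHom.transferSylow P hnc
  refine ⟨f.ker.map (Subgroup.centralizer ({x} : Set G)).subtype, hx, hsq, rfl, fun g => ?_⟩
  constructor
  · rintro ⟨w, hw, rfl⟩
    refine ⟨w.2, fun h => MonoidHom.not_dvd_card_ker_transferSylow P hnc ?_⟩
    refine h.trans ?_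
    show orderOf ((w : Subgroup.centralizer ({x} : Set G)) : G) ∣ _
    rw [Subgroup.orderOf_coe, ← Subgroup.orderOf_mk w hw]
    exact orderOf_dvd_natCard _
  · rintro ⟨hgC, hg⟩
    refine ⟨⟨g, hgC⟩, ?_, rfl⟩
    rw [SetLike.mem_coe, MonoidHom.mem_ker, ← orderOf_eq_one_iff]
    obtain ⟨k, hk⟩ := IsPGroup.iff_orderOf.1 P.isPGroup' (f ⟨g, hgC⟩)
    have h2 : orderOf (f ⟨g, hgC⟩) ∣ orderOf (⟨g, hgC⟩ : Subgroup.centralizer ({x} : Set G)) :=
      orderOf_map_dvd f _
    rw [← Subgroup.orderOf_coe ⟨g, hgC⟩, hk] at h2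
    rw [hk]
    rcases Nat.eq_zero_or_pos k with rfl | hpos
    · exact pow_zero p
    · exact absurd ((dvd_pow_self p hpos.ne').trans h2) hg

end

variable (D : Data p x C V)

include D

namespace Data

theorem mem_C_iff {g : G} : g ∈ C ↔ Commute g x := by
  rw [← D.hC, Subgroup.mem_centralizer_singleton_iff]
  rfl

theorem x_mem : x ∈ C := D.mem_C_iff.2 (Commute.refl x)

theorem pw_mem (i : ZMod p) : pw x i ∈ C := pow_mem D.x_mem _

theorem commute_pw {g : G} (hg : g ∈ C) (i : ZMod p) : Commute g (pw x i) :=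
  (D.mem_C_iff.1 hg).pow_right _

theorem V_le : V ≤ C := fun _ hg => ((D.hV _).1 hg).1

theorem regular {g : G} (hg : g ∈ V) : ¬ p ∣ orderOf g := ((D.hV g).1 hg).2

theorem orderOf_pw {i : ZMod p} (hi : i ≠ 0) : orderOf (pw x i) = p :=
  orderOf_eq_prime
    (by rw [pw_pow D.hx, ZMod.natCast_self, mul_zero, (pw_eq_one_iff D.hx 0).2 rfl])
    fun h => hi ((pw_eq_one_iff D.hx i).1 h)

theorem pw_add (i j : ZMod p) : pw x (i + j) = pw x i * pw x j := by
  have hx := D.hx
  rw [pw, pw, pw, ← pow_add, ← pow_mod_orderOf x (i.val + j.val), hx, ← ZMod.val_add]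

theorem pw_zero : pw x (0 : ZMod p) = 1 := (pw_eq_one_iff D.hx 0).2 rfl

theorem pw_neg (i : ZMod p) : pw x (-i) = (pw x i)⁻¹ := by
  rw [eq_inv_iff_mul_eq_one, ← D.pw_add, neg_add_cancel, D.pw_zero]

theorem pw_inj {i j : ZMod p} (h : pw x i = pw x j) : i = j := by
  rw [← sub_eq_zero, ← pw_eq_one_iff D.hx, sub_eq_add_neg, D.pw_add, D.pw_neg, h, mul_inv_cancel]

theorem pw_mem_V {i : ZMod p} (h : pw x i ∈ V) : i = 0 := by
  by_contra hi
  exact D.regular h (dvd_of_eq (D.orderOf_pw hi).symm)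

variable [Finite G]

/-- An element of `C` is a power of `x` times an element of `V`. -/
theorem exists_decomp {g : G} (hg : g ∈ C) : ∃ i : ZMod p, (pw x i)⁻¹ * g ∈ V := by
  obtain ⟨P, hP⟩ := DegreeLtPrime.centralizer_sylow D.hx D.hsq
  have hgC : g ∈ Subgroup.centralizer ({x} : Set G) := by rw [D.hC]; exact hg
  haveI : (P : Subgroup (Subgroup.centralizer ({x} : Set G))).Normal := by
    rw [hP]
    exact ⟨fun a ha c => by
      rwa [Subgroup.mem_center_iff.1 (DegreeLtPrime.le_center_zpowers ha) c, mul_inv_cancel_right]⟩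
  haveI := Sylow.unique_of_normal P ‹_›
  obtain ⟨z, hz⟩ := Blocks.exists_isPPart (G := Subgroup.centralizer ({x} : Set G)) hp.out ⟨g, hgC⟩
  obtain ⟨y, hzy, hcomm, ⟨k, hk⟩, hy⟩ := hz
  obtain ⟨Q, hQ⟩ := (IsPGroup.of_card (n := k) (by rw [Nat.card_zpowers, hk]) :
    IsPGroup p (Subgroup.zpowers z)).exists_le_sylow
  rw [Subsingleton.elim Q P, hP] at hQ
  have hzx : (z : G) ∈ Subgroup.zpowers x := by
    obtain ⟨n, hn⟩ := Subgroup.mem_zpowers_iff.1 (hQ (Subgroup.mem_zpowers z))
    exact ⟨n, congrArg Subtype.val hn⟩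
  rw [← mem_powers_iff_mem_zpowers, Submonoid.mem_powers_iff] at hzx
  obtain ⟨n, hn⟩ := hzx
  refine ⟨(n : ZMod p), ?_⟩
  rw [← SelfCentralPrime.pow_eq_pw D.hx, hn, show g = (z : G) * (y : G) from (congrArg Subtype.val hzy).symm,
    inv_mul_cancel_left, D.hV, ← D.hC]
  exact ⟨y.2, by rw [Subgroup.orderOf_coe]; exact hy⟩

/-- The exponent of `x` in an element of `C`. -/
def idx (c : C) : ZMod p := (D.exists_decomp c.2).choose

theorem idx_spec (c : C) : (pw x (D.idx c))⁻¹ * (c : G) ∈ V := (D.exists_decomp c.2).choose_spec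

theorem idx_eq {c : C} {i : ZMod p} {v : G} (hv : v ∈ V) (h : (c : G) = pw x i * v) :
    D.idx c = i := by
  have h1 := D.idx_spec c
  rw [h, ← mul_assoc, ← D.pw_neg, ← D.pw_add] at h1
  have h2 := D.pw_mem_V ((Subgroup.mul_mem_cancel_right V hv).1 h1)
  exact (neg_add_eq_zero.1 h2)

/-- The component of an element of `C` in `V`. -/
def part (c : C) : V := ⟨(pw x (D.idx c))⁻¹ * (c : G), D.idx_spec c⟩

theorem part_spec (c : C) : (c : G) = pw x (D.idx c) * (D.part c : G) := by
  show (c : G) = pw x (D.idx c) * ((pw x (D.idx c))⁻¹ * (c : G))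
  rw [mul_inv_cancel_left]

theorem part_eq {c : C} {i : ZMod p} {v : V} (h : (c : G) = pw x i * (v : G)) : D.part c = v := by
  have h1 := D.part_spec c
  rw [D.idx_eq v.2 h] at h1
  exact Subtype.ext (mul_left_cancel (h1.symm.trans h))

theorem mul_spec (a b : C) :
    ((a * b : C) : G) = pw x (D.idx a + D.idx b) * ((D.part a * D.part b : V) : G) := by
  rw [D.pw_add, Subgroup.coe_mul, Subgroup.coe_mul]
  conv_lhs => rw [D.part_spec a, D.part_spec b]
  rw [mul_assoc, mul_assoc, ← mul_assoc (D.part a : G),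
    (D.commute_pw (D.V_le (D.part a).2) (D.idx b)).eq, mul_assoc]

theorem idx_mul (a b : C) : D.idx (a * b) = D.idx a + D.idx b :=
  D.idx_eq (D.part a * D.part b).2 (D.mul_spec a b)

theorem part_mul (a b : C) : D.part (a * b) = D.part a * D.part b := D.part_eq (D.mul_spec a b)

theorem idx_one : D.idx 1 = 0 := D.idx_eq V.one_mem (by simp [D.pw_zero])

/-- Projection to `V`. -/
def partHom : C →* V where
  toFun := D.part
  map_one' := D.part_eq (i := 0) (by simp [D.pw_zero])
  map_mul' := D.part_mul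

/-- Exponents times elements of `V`. -/
def equivC : ZMod p × V ≃ C where
  toFun q := ⟨pw x q.1 * q.2, mul_mem (D.pw_mem _) (D.V_le q.2.2)⟩
  invFun c := (D.idx c, D.part c)
  left_inv q := Prod.ext (D.idx_eq q.2.2 rfl) (D.part_eq (i := q.1) rfl)
  right_inv c := Subtype.ext (D.part_spec c).symm

theorem equivC_coe (q : ZMod p × V) : ((D.equivC q : C) : G) = pw x q.1 * (q.2 : G) := rfl

theorem idx_equivC (q : ZMod p × V) : D.idx (D.equivC q) = q.1 := D.idx_eq q.2.2 rfl

theorem part_equivC (q : ZMod p × V) : D.part (D.equivC q) = q.2 := D.part_eq (i := q.1) rfl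

theorem card_C : Nat.card C = p * Nat.card V := by
  rw [← Nat.card_congr D.equivC, Nat.card_prod, Nat.card_zmod]

theorem not_dvd_card_V : ¬ p ∣ Nat.card V := fun h => by
  obtain ⟨v, hv⟩ := exists_prime_orderOf_dvd_card' p h
  exact D.regular v.2 (by rw [Subgroup.orderOf_coe, hv])

theorem sum_C [Fintype C] [Fintype V] {R : Type*} [AddCommMonoid R] (f : C → R) :
    ∑ c, f c = ∑ i : ZMod p, ∑ v : V, f (D.equivC (i, v)) := by
  rw [← Fintype.sum_prod_type']
  exact (Fintype.sum_equiv D.equivC _ _ fun _ => rfl).symm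

/-- The linear character `λ_a` of `C`. -/
def lamC (a : ZMod p) : C →* ℂˣ :=
  MonoidHom.toHomUnits
    { toFun := fun c => ZMod.stdAddChar (D.idx c * a)
      map_one' := by rw [D.idx_one, zero_mul, AddChar.map_zero_eq_one]
      map_mul' := fun c c' => by rw [D.idx_mul, add_mul, AddChar.map_add_eq_mul] }

/-- The character `λ_a × β` of `C`. -/
def irrC (a : ZMod p) (β : IrrCharacter V) : IrrCharacter C :=
  ⟨fun c => (β : V → ℂ) (D.part c) * (D.lamC a c : ℂ),
    CfsgLib.LinearTwist.isIrr_mul_hom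
      (Clifford.isIrrCharacter_pullback β.2 D.partHom
        fun v => ⟨D.equivC (0, v), D.part_equivC _⟩) _⟩

theorem irrC_apply (a : ZMod p) (β : IrrCharacter V) (c : C) :
    (D.irrC a β : C → ℂ) c = (β : V → ℂ) (D.part c) * ZMod.stdAddChar (D.idx c * a) := rfl

theorem irrC_equivC (a : ZMod p) (β : IrrCharacter V) (i : ZMod p) (v : V) :
    (D.irrC a β : C → ℂ) (D.equivC (i, v)) = (β : V → ℂ) v * ZMod.stdAddChar (i * a) := by
  rw [irrC_apply, D.part_equivC, D.idx_equivC]

theorem irrC_one (a : ZMod p) (β : IrrCharacter V) :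
    (D.irrC a β : C → ℂ) 1 = (β : V → ℂ) 1 := by
  rw [irrC_apply, D.idx_one, zero_mul, AddChar.map_zero_eq_one, mul_one,
    show D.part 1 = 1 from map_one D.partHom]

theorem irrC_injective {a a' : ZMod p} {β β' : IrrCharacter V}
    (h : D.irrC a β = D.irrC a' β') : a = a' ∧ β = β' := by
  have hb : β = β' := Subtype.ext (funext fun v => by
    have h1 := congrFun (congrArg Subtype.val h) (D.equivC (0, v))
    rwa [D.irrC_equivC, D.irrC_equivC, zero_mul, zero_mul, AddChar.map_zero_eq_one, mul_one,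
      mul_one] at h1)
  refine ⟨?_, hb⟩
  subst hb
  have h1 := congrFun (congrArg Subtype.val h) (D.equivC (1, 1))
  rw [D.irrC_equivC, D.irrC_equivC, one_mul, one_mul] at h1
  exact ZMod.injective_stdAddChar (mul_left_cancel₀ (irr_one_ne_zero β) h1)

theorem irrC_bijective [Fintype G] :
    Function.Bijective fun q : ZMod p × IrrCharacter V => D.irrC q.1 q.2 := by
  classical
  haveI := Fintype.ofFinite C
  haveI := Fintype.ofFinite V
  have hinj : Function.Injective fun q : ZMod p × IrrCharacter V => D.irrC q.1 q.2 :=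
    fun q q' h => Prod.ext (D.irrC_injective h).1 (D.irrC_injective h).2
  refine ⟨hinj, fun θ => ?_⟩
  by_contra hθ
  obtain ⟨n, hn, hn0, -⟩ := irr_degree_dvd_card θ
  have hmem : θ ∉ (Finset.univ : Finset (ZMod p × IrrCharacter V)).map ⟨_, hinj⟩ := by
    simp only [Finset.mem_map, Finset.mem_univ, true_and, Function.Embedding.coeFn_mk, not_exists]
    exact fun q hq => hθ ⟨q, hq⟩
  choose d hd using fun η : IrrCharacter C => exists_degree (irr_isCharacter η)
  have h1 : ∑ η, d η ^ 2 = Nat.card C := by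
    have := sum_sq_degrees (G := C)
    simp only [hd] at this
    exact_mod_cast this
  have h2 : ∑ q : ZMod p × IrrCharacter V, d (D.irrC q.1 q.2) ^ 2 = Nat.card C := by
    have hV := sum_sq_degrees (G := V)
    rw [D.card_C]
    have : ∑ q : ZMod p × IrrCharacter V, ((d (D.irrC q.1 q.2) : ℂ)) ^ 2 =
        ((p * Nat.card V : ℕ) : ℂ) := by
      simp only [← hd, D.irrC_one]
      rw [Fintype.sum_prod_type]
      dsimp only
      rw [hV, Finset.sum_const, Finset.card_univ, ZMod.card, nsmul_eq_mul]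
      push_cast
      rfl
    exact_mod_cast this
  have h3 : d θ ^ 2 + ∑ q : ZMod p × IrrCharacter V, d (D.irrC q.1 q.2) ^ 2 ≤ ∑ η, d η ^ 2 := by
    rw [show ∑ q : ZMod p × IrrCharacter V, d (D.irrC q.1 q.2) ^ 2 =
      ∑ η ∈ (Finset.univ : Finset (ZMod p × IrrCharacter V)).map ⟨_, hinj⟩, d η ^ 2 from
      (Finset.sum_map (Finset.univ : Finset (ZMod p × IrrCharacter V))
        ⟨fun q => D.irrC q.1 q.2, hinj⟩ (fun η => d η ^ 2)).symm,
      ← Finset.sum_insert (f := fun η => d η ^ 2) hmem]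
    exact Finset.sum_le_sum_of_subset (Finset.subset_univ _)
  have h4 : d θ = n := Nat.cast_injective (R := ℂ) ((hd θ).symm.trans hn)
  rw [h1, h2, h4] at h3
  have : 0 < n ^ 2 := pow_pos hn0 2
  omega

variable [Fintype G] [Fintype C] [Fintype V]

/-- The multiplicity of `λ_a × β` in a character on `C`. -/
def mult (χ : IrrCharacter G) (a : ZMod p) (β : IrrCharacter V) : ℕ :=
  (classInner_char_nat (NormalRes.isCharacter_res C (irr_isCharacter χ))
    (irr_isCharacter (D.irrC a β))).choose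

theorem classInner_res (χ : IrrCharacter G) (a : ZMod p) (β : IrrCharacter V) :
    classInner (fun c : C => (χ : G → ℂ) c) (D.irrC a β : C → ℂ) = (D.mult χ a β : ℂ) :=
  (classInner_char_nat (NormalRes.isCharacter_res C (irr_isCharacter χ))
    (irr_isCharacter (D.irrC a β))).choose_spec

/-- The `β`-coefficient of a character on `x ^ i V`. -/
def coef (χ : IrrCharacter G) (i : ZMod p) (β : IrrCharacter V) : ℂ :=
  have _ := D
  (Nat.card V : ℂ)⁻¹ * ∑ v : V, (χ : G → ℂ) (pw x i * v) * conj ((β : V → ℂ) v)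

theorem value_eq (χ : IrrCharacter G) (i : ZMod p) (v : V) :
    (χ : G → ℂ) (pw x i * v) = ∑ β : IrrCharacter V,
      (∑ a : ZMod p, (D.mult χ a β : ℂ) * ZMod.stdAddChar (i * a)) * (β : V → ℂ) v := by
  classical
  have h := congrFun (classFunction_eq_sum
    (NormalRes.isClassFunction_res C (irr_isClassFunction χ))) (D.equivC (i, v))
  simp only [Finset.sum_apply, Pi.smul_apply, smul_eq_mul, D.equivC_coe] at h
  rw [h, ← Fintype.sum_equiv (Equiv.ofBijective _ D.irrC_bijective) _ _ fun _ => rfl]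
  simp only [Equiv.ofBijective_apply, D.classInner_res, D.irrC_equivC]
  rw [Fintype.sum_prod_type, Finset.sum_comm]
  refine Finset.sum_congr rfl fun β _ => ?_
  rw [Finset.sum_mul]
  exact Finset.sum_congr rfl fun a _ => by ring

theorem coef_eq (χ : IrrCharacter G) (i : ZMod p) (β : IrrCharacter V) :
    D.coef χ i β = ∑ a : ZMod p, (D.mult χ a β : ℂ) * ZMod.stdAddChar (i * a) := by
  classical
  have h : (fun v : V => (χ : G → ℂ) (pw x i * v)) = ∑ γ : IrrCharacter V,
      (∑ a : ZMod p, (D.mult χ a γ : ℂ) * ZMod.stdAddChar (i * a)) • (γ : V → ℂ) := by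
    funext v
    rw [Finset.sum_apply]
    exact D.value_eq χ i v
  show (Nat.card V : ℂ)⁻¹ * _ = _
  have h' : classInner (fun v : V => (χ : G → ℂ) (pw x i * v)) (β : V → ℂ) =
      ∑ a : ZMod p, (D.mult χ a β : ℂ) * ZMod.stdAddChar (i * a) := by
    rw [h, classInner_sum_left]
    simp only [classInner_smul_left, classInner_irr]
    simp
  exact h'

theorem value_eq_coef (χ : IrrCharacter G) (i : ZMod p) (v : V) :
    (χ : G → ℂ) (pw x i * v) = ∑ β : IrrCharacter V, D.coef χ i β * (β : V → ℂ) v := by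
  simp only [D.coef_eq]; exact D.value_eq χ i v

theorem mult_eq (χ : IrrCharacter G) (a : ZMod p) (β : IrrCharacter V) :
    (p : ℂ) * (D.mult χ a β : ℂ) =
      ∑ i : ZMod p, D.coef χ i β * ZMod.stdAddChar (i * -a) := by
  simp only [D.coef_eq, Finset.sum_mul, mul_assoc, ← AddChar.map_add_eq_mul, ← mul_add]
  rw [Finset.sum_comm]
  simp only [← Finset.mul_sum, sum_std, add_neg_eq_zero]
  rw [Finset.sum_eq_single a] <;> simp +contextual [mul_comm]

theorem degree_eq (χ : IrrCharacter G) :
    (χ : G → ℂ) 1 = ∑ β : IrrCharacter V, ∑ a : ZMod p, (D.mult χ a β : ℂ) * (β : V → ℂ) 1 := by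
  have h := D.value_eq χ 0 1
  rw [D.pw_zero, OneMemClass.coe_one, mul_one] at h
  rw [h]
  simp only [zero_mul, AddChar.map_zero_eq_one, mul_one, Finset.sum_mul]

end Data

end CfsgLib.PrimeDefect
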