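import Cfsg.Agent.Lib.PrimeDefect.Family
import Cfsg.Agent.Lib.KGV.Ito
import Cfsg.Agent.Lib.Chars17.IrrBasic
import Cfsg.Agent.Lib.Characters.Values

/-!
# Small faithful characters and normal subgroups of order prime to `p`

When `x` has order `p`, is its own conjugate in the normaliser of `⟨x⟩`, and `p² ∤ |G|`, an
irreducible character of degree less than `p - 1` is scalar on `x`.  So in a group with a faithful
character of degree less than `p - 1`, `x` centralises every normal `p'`-subgroup.
-/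

set_option autoImplicit false
set_option linter.unusedSectionVars false
set_option linter.style.haveILetI false

noncomputable section

namespace CfsgLib.PrimeDefect

open Cfsg CfsgLib.Characters SelfCentralPrime

universe u

variable {G : Type u} [Group G] {p : ℕ} [hp : Fact p.Prime] {x : G}

section

variable {C V : Subgroup G} (D : Data p x C V) [Fintype G] [Fintype C] [Fintype V]

include D

/-- Without fusion in the normaliser, a character of small degree meets one residue only. -/
theorem Data.exists_residue {M : Ideal AlgInt} (hM : IsPModular p M)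
    (hnrm : ∀ g ∈ nrm x, g ∈ C) (χ : IrrCharacter G)
    (hd : charDegree (χ : G → ℂ) + 1 < p) :
    ∃ a, ∀ (b : ZMod p) (γ : IrrCharacter V), D.mult χ b γ ≠ 0 → b = a := by
  classical
  set d := charDegree (χ : G → ℂ)
  have hdpos : 0 < d := Chars17.irrDegree_pos χ
  have hd1 : (χ : G → ℂ) 1 = (d : ℂ) := (Chars17.cast_irrDegree χ).symm
  have hdeg : d = ∑ γ : IrrCharacter V, (∑ b : ZMod p, D.mult χ b γ) * charDegree (γ : V → ℂ) := by
    have h := D.degree_eq χ
    rw [hd1] at h
    simp only [← Chars17.cast_irrDegree, ← Finset.sum_mul] at h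
    exact_mod_cast h
  have hle : ∀ γ, (∑ b : ZMod p, D.mult χ b γ) ≤ d := by
    intro γ
    rw [hdeg]
    refine le_trans ?_ (Finset.single_le_sum
      (f := fun γ : IrrCharacter V => (∑ b : ZMod p, D.mult χ b γ) * charDegree (γ : V → ℂ))
      (fun _ _ => Nat.zero_le _) (Finset.mem_univ γ))
    exact Nat.le_mul_of_pos_right _ (Chars17.irrDegree_pos γ)
  set B := blockOf M (χ : G → ℂ)
  have hB : IsPBlock M B := Blocks.isPBlock_blockOf χ
  have hχB : χ ∈ B := Blocks.mem_blockOf_self hM χ
  have hbd : 0 < blockDefect p B := by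
    rw [blockDefect, D.factorization_card_eq, Nat.sub_pos_iff_lt]
    refine lt_of_le_of_lt (Nat.sInf_le ⟨χ, hχB, rfl⟩) ?_
    dsimp only
    rw [Nat.factorization_eq_zero_of_not_dvd (fun h => by have := Nat.le_of_dvd hdpos h; omega)]
    exact one_pos
  obtain ⟨β, hβ⟩ := D.exists_hits_of_defect hM hB hbd
  obtain ⟨F⟩ := D.exists_family hM hB hbd hβ
  -- only `β` occurs
  have hzero : ∀ b γ, γ ≠ β → D.mult χ b γ = 0 := by
    intro b γ hγ
    have hnh : ¬ D.Hits M B γ := fun h => by
      obtain ⟨n, rfl⟩ := D.exists_cj_of_hits hM hβ h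
      exact hγ (D.cj_of_mem_C n (hnrm _ n.2) β)
    have hc : ∀ i : ZMod p, i ≠ 0 → D.coef χ i γ = 0 := fun i hi =>
      D.coef_eq_zero_aux hM hi χ γ hnh
    have hconst : ∀ b' : ZMod p, (p : ℂ) * (D.mult χ b' γ : ℂ) = D.coef χ 0 γ := by
      intro b'
      rw [D.mult_eq, Finset.sum_eq_single (0 : ZMod p)
        (fun i _ hi => by rw [hc i hi, zero_mul]) (fun h => absurd (Finset.mem_univ _) h)]
      simp
    have heq : ∀ b' : ZMod p, D.mult χ b' γ = D.mult χ b γ := fun b' =>
      Nat.cast_injective (R := ℂ)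
        (mul_left_cancel₀ (Nat.cast_ne_zero.2 hp.out.ne_zero) ((hconst b').trans (hconst b).symm))
    have h := hle γ
    simp only [heq, Finset.sum_const, Finset.card_univ, ZMod.card, smul_eq_mul] at h
    by_contra h0
    have := Nat.le_mul_of_pos_right p (Nat.pos_of_ne_zero h0)
    omega
  -- the inertial exponents are trivial
  have hexp : D.expH β = ⊥ := by
    rw [eq_bot_iff]
    intro h hh
    obtain ⟨n, -, rfl⟩ := D.mem_expH.1 hh
    exact (D.mu_eq_one_iff n).2 (hnrm _ n.2)
  have hcard : Nat.card (D.expH β) = 1 := by rw [hexp]; exact Subgroup.card_bot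
  have hlt : (∑ b : ZMod p, (D.mult χ b β : ℤ)) < (p : ℤ) - 1 := by
    have h := hle β
    have h' : (∑ b : ZMod p, (D.mult χ b β : ℤ)) ≤ (d : ℤ) := by exact_mod_cast h
    omega
  have h0 : (0 : ℤ) ≤ D.mult χ 0 β := Int.natCast_nonneg _
  rcases (F.mem_iff χ).1 hχB with hX | ⟨q, hq⟩
  · refine ⟨0, fun b γ hne => ?_⟩
    by_cases hγ : γ = β
    · subst hγ
      by_contra hb
      have h := F.mult_X χ hX (Units.mk0 b hb)
      rw [Units.val_mk0] at h
      have h1 : (1 : ℤ) ≤ D.mult χ b γ := by exact_mod_cast Nat.pos_of_ne_zero hne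
      rw [F.sum_mult_X hX] at hlt
      rcases F.sign_spec χ hX with hs | hs <;> rw [hs] at h hlt <;> nlinarith
    · exact absurd (hzero b γ hγ) hne
  · rw [← hq] at hlt hzero h0 ⊢
    rw [F.sum_mult_θ, hcard] at hlt
    refine ⟨(q.out : (ZMod p)ˣ), fun b γ hne => ?_⟩
    by_cases hγ : γ = β
    · subst hγ
      have hm0 : (D.mult (F.θ q) 0 γ : ℤ) = 0 ∧ F.ε = 1 := by
        rcases F.ε_spec with hs | hs
        · rw [hs] at hlt
          refine ⟨le_antisymm ?_ h0, hs⟩
          by_contra hc
          push Not at hc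
          nlinarith
        · exfalso
          have hu := F.mult_θ_eq q q.out q.out_eq
          have hu0 : (0 : ℤ) ≤ D.mult (F.θ q) ((q.out : (ZMod p)ˣ) : ZMod p) γ :=
            Int.natCast_nonneg _
          rw [hs] at hu hlt
          push_cast at hlt
          nlinarith
      by_cases hb : b = 0
      · subst hb
        exact absurd (by exact_mod_cast hm0.1) hne
      by_contra hbu
      have hu : ((Units.mk0 b hb : (ZMod p)ˣ) : D.Orbits γ) ≠ q := by
        intro h
        have hm := QuotientGroup.eq.1 (h.trans q.out_eq.symm)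
        replace hm := inv_mul_eq_one.1 (Subgroup.mem_bot.1 (hexp.le hm))
        exact hbu (by rw [← hm, Units.val_mk0])
      have h := F.mult_θ_ne q _ hu
      rw [Units.val_mk0, hm0.1] at h
      exact hne (by exact_mod_cast h)
    · exact absurd (hzero b γ hγ) hne

end

/-- Without fusion in the normaliser, `x` is scalar on characters of small degree. -/
theorem norm_value_eq [Fintype G] (hx : orderOf x = p) (hsq : ¬ p ^ 2 ∣ Nat.card G)
    (hnrm : ∀ g ∈ nrm x, Commute g x) (χ : IrrCharacter G)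
    (hd : charDegree (χ : G → ℂ) + 1 < p) :
    ‖(χ : G → ℂ) x‖ = charDegree (χ : G → ℂ) := by
  classical
  obtain ⟨M, hM⟩ := CfsgLib.KGV.exists_isPModular p Fact.out
  obtain ⟨V, D⟩ := exists_data hx hsq
  haveI := Fintype.ofFinite (Subgroup.centralizer ({x} : Set G))
  haveI := Fintype.ofFinite V
  obtain ⟨a, ha⟩ := D.exists_residue hM
    (fun g hg => Subgroup.mem_centralizer_singleton_iff.2 (hnrm g hg).eq) χ hd
  have h1 := D.value_eq χ 1 1
  have h0 := D.value_eq χ 0 1
  rw [OneMemClass.coe_one, mul_one, pw_one] at h1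
  rw [OneMemClass.coe_one, mul_one, D.pw_zero, ← Chars17.cast_irrDegree] at h0
  have hkey : (χ : G → ℂ) x = ZMod.stdAddChar a * (charDegree (χ : G → ℂ) : ℂ) := by
    rw [h1, h0, Finset.mul_sum]
    refine Finset.sum_congr rfl fun γ _ => ?_
    rw [← mul_assoc, Finset.mul_sum]
    congr 1
    refine Finset.sum_congr rfl fun b _ => ?_
    by_cases hb : D.mult χ b γ = 0
    · simp [hb]
    · rw [ha b γ hb, one_mul, zero_mul, AddChar.map_zero_eq_one]
      ring
  rw [hkey, norm_mul, AddChar.norm_apply, one_mul, Complex.norm_natCast]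

/-- An element of order `p` centralises the normal `p'`-subgroups of a group with a faithful
character of degree less than `p - 1`. -/
theorem commute_of_small {H : Type u} [Group H] [Finite H] {y : H} (hy : orderOf y = p)
    (hsq : ¬ p ^ 2 ∣ Nat.card H) (χ : H → ℂ) (hχ : IsCharacter H χ)
    (hfaith : ∀ g : H, χ g = χ 1 → g = 1) (hd : charDegree χ + 1 < p)
    (N : Subgroup H) [hN : N.Normal] (hN' : ¬ p ∣ Nat.card N) {n : H} (hn : n ∈ N) :
    Commute n y := by
  classical
  haveI := Fintype.ofFinite H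
  set L := N ⊔ Subgroup.zpowers y
  haveI := Fintype.ofFinite L
  set y' : L := ⟨y, Subgroup.mem_sup_right (Subgroup.mem_zpowers y)⟩
  have hy' : orderOf y' = p := by rw [← Subgroup.orderOf_coe]; exact hy
  have hsqL : ¬ p ^ 2 ∣ Nat.card L := fun h => hsq (h.trans (Subgroup.card_subgroup_dvd_card L))
  have hinf : ∀ z : H, z ∈ N → z ∈ Subgroup.zpowers y → z = 1 := by
    intro z hzN hzy
    by_contra hz
    have h1 : orderOf z ∣ p := hy ▸ orderOf_dvd_of_mem_zpowers hzy
    rcases (Nat.dvd_prime hp.out).1 h1 with h | h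
    · exact hz (orderOf_eq_one_iff.1 h)
    · exact hN' (h ▸ Subgroup.orderOf_dvd_natCard _ hzN)
  have hnrm : ∀ g ∈ nrm y', Commute g y' := by
    intro g hg
    have hgy := (Subgroup.mem_normalizer_iff.1 hg y').1 (Subgroup.mem_zpowers y')
    obtain ⟨k, hk⟩ := Subgroup.mem_zpowers_iff.1 hgy
    obtain ⟨m, hm, w, hw, hmw⟩ := Subgroup.mem_sup_of_normal_left.1 g.2
    have hwy : Commute w y := by
      obtain ⟨i, rfl⟩ := Subgroup.mem_zpowers_iff.1 hw
      exact (Commute.refl y).zpow_left i
    have hk' : y ^ k = m * y * m⁻¹ := by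
      have h := congrArg Subtype.val hk
      simp only [SubgroupClass.coe_zpow, Subgroup.coe_mul, Subgroup.coe_inv, y'] at h
      rw [h, ← hmw, mul_inv_rev, show m * w * y * (w⁻¹ * m⁻¹) = m * (w * y * w⁻¹) * m⁻¹ by group,
        hwy.eq, mul_inv_cancel_right]
    have hin : y ^ k * y⁻¹ ∈ N := by
      rw [hk', show m * y * m⁻¹ * y⁻¹ = m * (y * m⁻¹ * y⁻¹) by group]
      exact mul_mem hm (hN.conj_mem _ (inv_mem hm) y)
    have h1 := hinf _ hin (mul_mem (Subgroup.zpow_mem _ (Subgroup.mem_zpowers y) k)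
      (inv_mem (Subgroup.mem_zpowers y)))
    rw [mul_inv_eq_one] at h1
    rw [h1, eq_comm, mul_inv_eq_iff_eq_mul] at hk'
    refine Subtype.ext ?_
    show (g : H) * y = y * g
    rw [← hmw, mul_assoc, hwy.eq, ← mul_assoc, hk', mul_assoc]
  have hres : IsCharacter L (fun l : L => χ l) := NormalRes.isCharacter_res L hχ
  choose μ hμ using fun ξ : IrrCharacter L => classInner_char_nat hres (irr_isCharacter ξ)
  have hexp : ∀ l : L, χ l = ∑ ξ : IrrCharacter L, (μ ξ : ℂ) * (ξ : L → ℂ) l := by
    intro l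
    refine (congrFun (classFunction_eq_sum (isClassFunction_of_isCharacter hres)) l).trans ?_
    simp [hμ]
  set n' : L := ⟨n, Subgroup.mem_sup_left hn⟩
  have hd' : (charDegree χ : ℂ) = χ 1 := Chars17.cast_charDegree hχ
  have hdd : charDegree χ = ∑ ξ : IrrCharacter L, μ ξ * charDegree (ξ : L → ℂ) := by
    have h := hexp 1
    simp only [OneMemClass.coe_one, ← hd', ← Chars17.cast_irrDegree] at h
    exact_mod_cast h
  have hc : χ ((n' * y' * n'⁻¹ * y'⁻¹ : L) : H) = χ 1 := by
    have e2 := hexp 1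
    rw [OneMemClass.coe_one] at e2
    rw [hexp, e2]
    refine Finset.sum_congr rfl fun ξ _ => ?_
    by_cases hξ : μ ξ = 0
    · simp [hξ]
    congr 1
    have hsmall : charDegree (ξ : L → ℂ) + 1 < p := by
      have h1 : μ ξ * charDegree (ξ : L → ℂ) ≤ charDegree χ :=
        hdd ▸ Finset.single_le_sum (f := fun ξ : IrrCharacter L => μ ξ * charDegree (ξ : L → ℂ))
          (fun _ _ => Nat.zero_le _) (Finset.mem_univ ξ)
      have := Nat.le_mul_of_pos_left (charDegree (ξ : L → ℂ)) (Nat.pos_of_ne_zero hξ)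
      omega
    have hnorm := norm_value_eq hy' hsqL hnrm ξ hsmall
    obtain ⟨k, ρ, -, hρ⟩ := ξ.2
    have hk : charDegree (ξ : L → ℂ) = k := by
      refine Nat.cast_injective (R := ℂ) ?_
      rw [Chars17.cast_irrDegree, ← hρ, Representation.char_one]
      simp
    rw [← hρ] at hnorm ⊢
    rw [show charDegree ρ.character = k from hρ ▸ hk] at hnorm
    obtain ⟨ω, hω⟩ := (norm_char_eq_iff_scalar ρ y').1 (by rw [hnorm]; simp)
    have hcomm : ρ n' * ρ y' = ρ y' * ρ n' := by
      rw [hω]; ext v; simp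
    have h1 : ρ (n' * y' * n'⁻¹ * y'⁻¹) = 1 := by
      rw [map_mul, map_mul, map_mul, hcomm, mul_assoc (ρ y'), ← map_mul ρ n', mul_inv_cancel,
        map_one, mul_one, ← map_mul, mul_inv_cancel, map_one]
    simp only [Representation.character, h1, map_one]
  have h2 := hfaith _ hc
  simp only [Subgroup.coe_mul, Subgroup.coe_inv, n', y'] at h2
  rwa [mul_inv_eq_one, mul_inv_eq_iff_eq_mul] at h2

end CfsgLib.PrimeDefect
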