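import Cfsg.Agent.Lib.PrimeDefect.Gram
import Cfsg.Agent.Lib.PrimeDefect.Hit
import Cfsg.Agent.Lib.Blocks.Reduced
import Cfsg.Agent.Lib.Characters.Extension
import Mathlib.GroupTheory.FiniteAbelian.Duality
import Mathlib.RingTheory.RootsOfUnity.AlgebraicallyClosed
import Mathlib.GroupTheory.SchurZassenhaus
import Mathlib.GroupTheory.SpecificGroups.Cyclic
import Mathlib.RingTheory.IntegralDomain

/-!
# Sylow subgroups of prime order: the idempotents of the inertial group

For `β` hitting the block `B`, the extensions of `β` to a complement of `⟨x⟩` in its stabiliser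
give orthogonal idempotents modulo `M`, each fixed by the idempotent of `B`.
-/

set_option autoImplicit false
set_option linter.unusedSectionVars false
set_option linter.style.haveILetI false
set_option synthInstance.maxHeartbeats 400000

noncomputable section

namespace CfsgLib.PrimeDefect

open Cfsg CfsgLib.Characters CfsgLib.SelfCentralPrime
open MonoidAlgebra (of)
open scoped ComplexConjugate

universe u

attribute [local instance] Ideal.Quotient.field

variable {G : Type u} [Group G] {p : ℕ} [hp : Fact p.Prime] {x : G} {C V : Subgroup G}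
variable (D : Data p x C V)

/-- The stabiliser of `β` in the normaliser, as a subgroup of the group. -/
def Data.stabG [Finite G] (β : IrrCharacter V) : Subgroup G := (D.stab β).map (nrm x).subtype

section Residue

variable [Fintype G] {M : Ideal AlgInt} [M.IsMaximal] (hM : IsPModular p M) (W : Subgroup G)
  [Fintype W]

include hM

/-- The reduction of a function on a subgroup, as an element of the group algebra. -/
def emb (f : W → ℂ) : MonoidAlgebra (AlgInt ⧸ M) G :=
  ∑ w : W, Blocks.lResD hM (f w) • of (AlgInt ⧸ M) G (w : G)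

variable {W}

theorem coeff_emb_of_mem (f : W → ℂ) (w : W) :
    (emb hM W f).coeff (w : G) = Blocks.lResD hM (f w) := by
  classical
  rw [emb, MonoidAlgebra.coeff_sum, Finsupp.finsetSum_apply, Finset.sum_eq_single w]
  · simp
  · intro b _ hb
    simp [Finsupp.single_apply]
    exact fun h => absurd h hb
  · simp

theorem coeff_emb_of_notMem (f : W → ℂ) {g : G} (hg : g ∉ W) : (emb hM W f).coeff g = 0 := by
  classical
  rw [emb, MonoidAlgebra.coeff_sum, Finsupp.finsetSum_apply]
  refine Finset.sum_eq_zero fun b _ => ?_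
  simp [Finsupp.single_apply]
  exact fun h => absurd (h ▸ b.2) hg

theorem emb_eq_map (z : MonoidAlgebra ℂ W) :
    emb hM W (fun w => z.coeff w) =
      MonoidAlgebra.mapDomainRingHom (AlgInt ⧸ M) W.subtype (Blocks.redAlg hM z) := by
  conv_rhs => rw [Hit.eq_sum_of (Blocks.redAlg hM z), map_sum]
  refine Finset.sum_congr rfl fun w _ => ?_
  rw [Blocks.coeff_redAlg]
  simp [MonoidAlgebra.of_apply]

theorem emb_mul {y z : MonoidAlgebra ℂ W} (hy : ∀ w, MemLocalRing M (y.coeff w))
    (hz : ∀ w, MemLocalRing M (z.coeff w)) :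
    emb hM W (fun w => y.coeff w) * emb hM W (fun w => z.coeff w) =
      emb hM W (fun w => (y * z).coeff w) := by
  rw [emb_eq_map, emb_eq_map, emb_eq_map, Blocks.redAlg_mul hM hy hz, map_mul]

theorem emb_smul {c : ℂ} (hc : MemLocalRing M c) {f : W → ℂ} (hf : ∀ w, MemLocalRing M (f w)) :
    emb hM W (fun w => c * f w) = Blocks.lResD hM c • emb hM W f := by
  rw [emb, emb, Finset.smul_sum]
  refine Finset.sum_congr rfl fun w _ => ?_
  rw [Blocks.lResD_mul hM hc (hf w)]
  exact (smul_smul _ _ _).symm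

omit [Fintype W] in
theorem zero_smul_res (z : MonoidAlgebra (AlgInt ⧸ M) G) : (0 : AlgInt ⧸ M) • z = 0 := by
  ext g
  simp

theorem emb_zero : emb hM W (fun _ => 0) = 0 := by
  simp [emb, Blocks.lResD_zero]

/-- The idempotent of a character is integral when `p` does not divide the order. -/
theorem idem_mem (hW : ¬ p ∣ Nat.card W) (η : IrrCharacter W) (w : W) :
    MemLocalRing M (blockCoeff {η} w) := by
  classical
  rw [Blocks.blockCoeff_eq_sum]
  simp only [Set.mem_singleton_iff, Finset.filter_eq', Finset.mem_univ, if_true,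
    Finset.sum_singleton]
  exact (Blocks.lRing hM).mul_mem (Blocks.inv_natCast_mem_lRing hM hW)
    (Blocks.isIntegral_mem_lRing hM
      ((CharCorr.irr_isIntegral η 1).mul (isIntegral_conj (CharCorr.irr_isIntegral η w))))

theorem idem_mul [DecidableEq (IrrCharacter W)] (hW : ¬ p ∣ Nat.card W) (η η' : IrrCharacter W) :
    emb hM W (fun w => blockCoeff {η} w) * emb hM W (fun w => blockCoeff {η'} w) =
      if η = η' then emb hM W (fun w => blockCoeff {η} w) else 0 := by
  classical
  have h := emb_mul hM (y := Blocks.blockIdem {η}) (z := Blocks.blockIdem {η'})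
    (fun w => by simpa using idem_mem hM hW η w) (fun w => by simpa using idem_mem hM hW η' w)
  simp only [Blocks.coeff_blockIdem] at h
  rw [h, Blocks.blockIdem_mul]
  split_ifs with he
  · subst he
    simp
  · rw [Set.singleton_inter_eq_empty.2 (by simpa using he), Blocks.blockIdem_empty]
    simpa using emb_zero hM

end Residue

namespace Data

variable [Fintype G] [Fintype C] [Fintype V]

include D

/-- Conjugation carries the idempotent of `γ` to the idempotent of a conjugate of `γ`. -/
theorem of_mul_emb {M : Ideal AlgInt} [M.IsMaximal] (hM : IsPModular p M) (n : nrm x)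
    (γ : IrrCharacter V) :
    of (AlgInt ⧸ M) G (n : G) * emb hM V (fun v => blockCoeff {γ} v) =
      emb hM V (fun v => blockCoeff {D.cj n⁻¹ γ} v) * of (AlgInt ⧸ M) G (n : G) := by
  classical
  rw [emb, emb, Finset.mul_sum, Finset.sum_mul]
  refine Fintype.sum_bijective (D.cjV n) (D.cjV_bijective n) _ _ fun v => ?_
  rw [mul_smul_comm, smul_mul_assoc, ← map_mul, ← map_mul, D.cjV_coe, inv_mul_cancel_right]
  congr 2
  rw [Blocks.blockCoeff_eq_sum, Blocks.blockCoeff_eq_sum]
  simp only [Set.mem_singleton_iff, Finset.filter_eq', Finset.mem_univ, if_true,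
    Finset.sum_singleton]
  rw [D.cj_one_apply, D.cj_apply, ← D.cjV_mul, inv_mul_cancel, D.cjV_one]

/-- The stabiliser has a complement to `⟨x⟩` containing `V`. -/
theorem exists_complement (β : IrrCharacter V) :
    ∃ T0 : Subgroup G, T0 ≤ D.stabG β ∧ V ≤ T0 ∧ ¬ p ∣ Nat.card T0 ∧
      ∀ g ∈ D.stabG β, ∃ i : ℕ, ∃ h ∈ T0, g = x ^ i * h := by
  classical
  set T := D.stabG β with hTdef
  have hCT : C ≤ T := fun c hc => ⟨⟨c, D.C_le hc⟩, D.cj_of_mem_C _ hc β, rfl⟩
  have hTN : T ≤ nrm x := by rintro _ ⟨n, -, rfl⟩; exact n.2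
  have hVT : V ≤ T := D.V_le.trans hCT
  have hxT : x ∈ T := hCT D.x_mem
  let P : Subgroup T := (Subgroup.zpowers x).subgroupOf T
  have hPx : Subgroup.zpowers x ≤ T := by rwa [Subgroup.zpowers_le]
  haveI : P.Normal := Subgroup.normal_subgroupOf_iff hPx |>.2
    fun h g hh hg => (Subgroup.mem_normalizer_iff.1 (hTN hg) h).1 hh
  haveI : (V.subgroupOf T).Normal := Subgroup.normal_subgroupOf_iff hVT |>.2
    fun h g hh hg => D.conj_V ⟨g, hTN hg⟩ hh
  have hPcard : Nat.card P = p := by
    rw [Nat.card_congr (Subgroup.subgroupOfEquivOfLe hPx).toEquiv, Nat.card_zpowers, D.hx]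
  have hidx : ¬ p ∣ P.index := fun h => D.hsq (by
    refine dvd_trans ?_ (Subgroup.card_subgroup_dvd_card T)
    rw [← Subgroup.card_mul_index P, hPcard, pow_two]
    exact mul_dvd_mul_left p h)
  obtain ⟨K, hK⟩ := Subgroup.exists_left_complement'_of_coprime (N := P)
    (by rw [hPcard]; exact hp.out.coprime_iff_not_dvd.2 hidx)
  have hKcard : Nat.card K * p = Nat.card T := by rw [← hPcard]; exact hK.card_mul_card
  have hKp : ¬ p ∣ Nat.card K := fun h => D.hsq (by
    refine dvd_trans ?_ (Subgroup.card_subgroup_dvd_card T)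
    rw [← hKcard, pow_two]
    exact mul_dvd_mul_right h p)
  have hVK : V.subgroupOf T ≤ K := by
    have hcop : Nat.Coprime (Nat.card ↥(K ⊔ V.subgroupOf T)) p := by
      refine Nat.coprime_comm.1 (hp.out.coprime_iff_not_dvd.2 fun h => ?_)
      obtain ⟨z, hz⟩ := exists_prime_orderOf_dvd_card' p h
      have hzT : orderOf (z : T) = p := by rw [Subgroup.orderOf_coe, hz]
      have hmem : (z : T) ∈ (V.subgroupOf T) ⊔ K := by rw [sup_comm]; exact z.2
      rw [← SetLike.mem_coe, Subgroup.normal_mul] at hmem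
      obtain ⟨v, hv, w, hw, hvw⟩ := hmem
      let π := QuotientGroup.mk' (V.subgroupOf T)
      have h1 : π (z : T) = π w := by
        rw [← hvw, map_mul, QuotientGroup.mk'_apply, QuotientGroup.mk'_apply,
          (QuotientGroup.eq_one_iff v).2 hv, one_mul]
      have h2 : π w ^ p = 1 := by
        rw [← h1, ← map_pow, ← hzT, pow_orderOf_eq_one, map_one]
      have h3 : orderOf (π w) ∣ Nat.card K := (orderOf_map_dvd π w).trans
        (Subgroup.orderOf_dvd_natCard _ hw)
      have h4 : π w = 1 := orderOf_eq_one_iff.1 ((hp.out.eq_one_or_self_of_dvd _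
        (orderOf_dvd_of_pow_eq_one h2)).resolve_right fun h => hKp (h ▸ h3))
      rw [← h1] at h4
      have h5 : ((z : T) : G) ∈ V := (QuotientGroup.eq_one_iff (z : T)).1 h4
      exact D.regular h5 (by rw [Subgroup.orderOf_coe, hzT])
    have hd : Nat.card ↥(K ⊔ V.subgroupOf T) ∣ Nat.card K :=
      hcop.dvd_of_dvd_mul_right (hKcard ▸ Subgroup.card_subgroup_dvd_card _)
    have heq : K = K ⊔ V.subgroupOf T :=
      Subgroup.eq_of_le_of_card_ge le_sup_left (Nat.le_of_dvd Nat.card_pos hd)
    exact heq ▸ le_sup_right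
  refine ⟨K.map T.subtype, Subgroup.map_subtype_le K, ?_, ?_, ?_⟩
  · intro v hv
    exact ⟨⟨v, hVT hv⟩, hVK hv, rfl⟩
  · rwa [Subgroup.card_map_of_injective T.subtype_injective]
  · intro g hg
    have hmem : (⟨g, hg⟩ : T) ∈ ((P ⊔ K : Subgroup T) : Set T) := by
      rw [sup_comm, hK.isCompl.sup_eq_top]; trivial
    rw [Subgroup.normal_mul] at hmem
    obtain ⟨a, ha, b, hb, hab⟩ := hmem
    have ha' : (a : G) ∈ Submonoid.powers x :=
      (isOfFinOrder_of_finite x).mem_powers_iff_mem_zpowers.2 ha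
    obtain ⟨i, hi⟩ := ha'
    exact ⟨i, b, ⟨b, hb, rfl⟩, by
      rw [show x ^ i = (a : G) from hi, ← Subgroup.coe_mul]
      exact congrArg Subtype.val hab.symm⟩

variable {M : Ideal AlgInt} [M.IsMaximal] (hM : IsPModular p M)

include hM

theorem charP_residue : CharP (AlgInt ⧸ M) p := Blocks.charP_residue hM

theorem omega_congr_hits {B : Set (IrrCharacter G)} (hB : IsPBlock M B) {β : IrrCharacter V}
    (hβ : D.Hits M B β) :
    MemLocalIdeal M (∑ v : V, blockCoeff B (v : G) * (β : V → ℂ) v / (β : V → ℂ) 1 - 1) := by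
  classical
  obtain ⟨χ, hχ⟩ := Blocks.IsPBlock.nonempty hM hB
  have h1 : ∑ c : ConjClasses G, blockCoeff B c.out * centralChar (χ : G → ℂ) c.out = 1 := by
    have h2 := Blocks.omega_eq_sum_classes χ (Blocks.blockIdem_mem_center B)
    rw [Blocks.omega_blockIdem, if_pos hχ] at h2
    simpa using h2.symm
  have h3 : ∑ v : V, blockCoeff B (v : G) * (β : V → ℂ) v / (β : V → ℂ) 1 =
      ∑ K : ConjClasses G, blockCoeff B K.out * inducedCentralChar C (D.irrC 0 β : C → ℂ) K.out := by
    have key : ∀ K : ConjClasses G, inducedCentralChar C (D.irrC 0 β : C → ℂ) K.out =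
        ∑ c ∈ Finset.univ.filter (fun c : C => ConjClasses.mk (c : G) = K),
          (D.irrC 0 β : C → ℂ) c / (D.irrC 0 β : C → ℂ) 1 := by
      intro K
      unfold inducedCentralChar
      rw [finsum_mem_eq_sum_of_inter_support_eq _ (t := Finset.univ.filter
        (fun c : C => ConjClasses.mk (c : G) = K))]
      ext c
      simp only [Set.mem_inter_iff, Set.mem_ofPred_eq, Finset.coe_filter, Finset.mem_univ, true_and,
        and_congr_left_iff]
      intro _
      conv_rhs => rw [show K = ConjClasses.mk K.out from (Quotient.out_eq K).symm]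
      rw [ConjClasses.mk_eq_mk_iff_isConj]
      exact isConj_comm
    have hcl : ∀ (K : ConjClasses G) (g : G), ConjClasses.mk g = K →
        blockCoeff B K.out = blockCoeff B g := fun K g h =>
      Blocks.blockCoeff_of_isConj B (ConjClasses.mk_eq_mk_iff_isConj.1
        ((Quotient.out_eq K).trans h.symm))
    simp only [key, Finset.mul_sum]
    rw [Finset.sum_congr rfl fun K _ => Finset.sum_congr rfl fun c hc => by
        rw [hcl K (c : G) (Finset.mem_filter.1 hc).2],
      Finset.sum_fiberwise Finset.univ (fun c : C => ConjClasses.mk (c : G))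
        (fun c => blockCoeff B (c : G) * ((D.irrC 0 β : C → ℂ) c / (D.irrC 0 β : C → ℂ) 1)),
      D.sum_C, Finset.sum_eq_single (0 : ZMod p) ?_ (fun h => absurd (Finset.mem_univ _) h)]
    · refine Finset.sum_congr rfl fun v _ => ?_
      rw [D.equivC_coe, D.irrC_equivC, D.irrC_one, D.pw_zero, one_mul, zero_mul,
        AddChar.map_zero_eq_one, mul_one, mul_div_assoc]
    · intro i _ hi
      refine Finset.sum_eq_zero fun v _ => ?_
      rw [D.equivC_coe, Blocks.blockCoeff_eq_zero_of_singular hM hB ?_, zero_mul]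
      rw [(D.commute_pw (D.V_le v.2) i).symm.orderOf_mul_eq_mul_orderOf_of_coprime
        (by rw [D.orderOf_pw hi]; exact hp.out.coprime_iff_not_dvd.2 (D.regular v.2)),
        D.orderOf_pw hi]
      exact dvd_mul_right _ _
  rw [h3, ← h1, ← Finset.sum_sub_distrib]
  refine Blocks.MemLocalIdeal.sum hM _ fun K _ => ?_
  rw [← mul_sub]
  exact Blocks.MemLocalIdeal.mul_left hM (Blocks.memLocalRing_blockCoeff hM hB _)
    (hβ.2.2 _ ((D.mem_block_iff hM 0 β β).2 rfl) χ hχ _)

open scoped Classical in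
/-- The idempotents of the extensions of `β`. -/
theorem exists_ctx {B : Set (IrrCharacter G)} (hB : IsPBlock M B) {β : IrrCharacter V}
    (hβ : D.Hits M B β) :
    ∃ (T0 : Subgroup G) (e : (D.expH β →* ℂˣ) → MonoidAlgebra (AlgInt ⧸ M) G),
      Hit.Ctx p x (D.stabG β) T0 e ∧
      ∀ j, (∑ g ∈ Finset.univ.filter (fun g : G => Commute x g),
          (Blocks.blockIdemRes hM B).coeff g • of (AlgInt ⧸ M) G g) * e j = e j := by
  obtain ⟨T0, hT0T, hVT0, hT0p, hdec⟩ := D.exists_complement β
  haveI := Fintype.ofFinite T0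
  have hT0N : T0 ≤ nrm x := fun t ht => by
    obtain ⟨n, -, rfl⟩ := hT0T ht
    exact n.2
  have hstab : ∀ t : T0, D.cj ⟨(t : G), hT0N t.2⟩ β = β := fun t => by
    obtain ⟨n, hn, hnt⟩ := hT0T t.2
    have : n = ⟨(t : G), hT0N t.2⟩ := Subtype.ext hnt
    exact this ▸ hn
  -- the exponents
  let μ : T0 →* D.expH β := MonoidHom.codRestrict (D.muHom.comp (Subgroup.inclusion hT0N)) _
    fun t => D.mem_expH.2 ⟨⟨(t : G), hT0N t.2⟩, hstab t, rfl⟩
  have hμker : ∀ t : T0, μ t = 1 ↔ (t : G) ∈ V := by
    intro t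
    rw [D.hV, ← D.mu_eq_one_iff ⟨(t : G), hT0N t.2⟩, Subtype.ext_iff]
    refine ⟨fun h => ⟨h, fun hd => hT0p ?_⟩, fun h => h.1⟩
    rw [Subgroup.orderOf_coe] at hd
    exact hd.trans (orderOf_dvd_natCard t)
  have hμsurj : Function.Surjective μ := by
    rintro ⟨h, hh⟩
    obtain ⟨n, hn, rfl⟩ := D.mem_expH.1 hh
    obtain ⟨i, t, ht, hit⟩ := hdec (n : G) ⟨n, hn, rfl⟩
    refine ⟨⟨t, ht⟩, Subtype.ext ?_⟩
    show D.mu ⟨t, hT0N ht⟩ = D.mu n
    have : n = ⟨x ^ i, D.C_le (pow_mem D.x_mem i)⟩ * ⟨t, hT0N ht⟩ := Subtype.ext hit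
    rw [this, D.mu_mul, (D.mu_eq_one_iff ⟨x ^ i, _⟩).2 (pow_mem D.x_mem i), one_mul]
  let N0 : Subgroup T0 := V.subgroupOf T0
  have hN0 : N0 = μ.ker := by ext t; exact (hμker t).symm
  haveI : N0.Normal := hN0 ▸ inferInstance
  haveI : IsCyclic (T0 ⧸ N0) := by
    refine isCyclic_of_injective
      ((D.expH β).subtype.comp (QuotientGroup.lift N0 μ hN0.le))
      ((D.expH β).subtype_injective.comp ?_)
    rw [injective_iff_map_eq_one]
    intro q
    refine QuotientGroup.induction_on q fun t ht => ?_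
    exact (QuotientGroup.eq_one_iff t).2 ((hμker t).1 ht)
  -- the extensions
  let toV : N0 →* V := (Subgroup.subgroupOfEquivOfLe hVT0).toMonoidHom
  have hβ0 : IsIrrCharacter N0 (fun n => (β : V → ℂ) (toV n)) :=
    Clifford.isIrrCharacter_pullback β.2 toV (Subgroup.subgroupOfEquivOfLe hVT0).surjective
  obtain ⟨η₀, hη₀, hη₀β⟩ := CharExtension.extends_of_isCyclic N0 hβ0 (fun g n => by
    have h := congrFun (congrArg Subtype.val (hstab g)) (toV n)
    rw [D.cj_apply] at h
    exact (congrArg (β : V → ℂ) (Subtype.ext rfl)).trans h)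
  let η : (D.expH β →* ℂˣ) → IrrCharacter T0 := fun l =>
    ⟨fun t => η₀ t * ((l.comp μ) t : ℂ), LinearTwist.isIrr_mul_hom hη₀ _⟩
  have hηV : ∀ (l : D.expH β →* ℂˣ) (n : N0),
      (η l : T0 → ℂ) (n : T0) = (β : V → ℂ) (toV n) := by
    intro l n
    show η₀ (n : T0) * ((l (μ (n : T0)) : ℂˣ) : ℂ) = _
    rw [(hμker _).2 n.2, map_one, Units.val_one, mul_one, hη₀β]
  have hηinj : Function.Injective η := by
    intro l l' h
    have hval : ∀ t, η₀ t * ((l.comp μ) t : ℂ) = η₀ t * ((l'.comp μ) t : ℂ) :=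
      fun t => congrFun (congrArg Subtype.val h) t
    have hres : IsIrrCharacter N0 (fun n : N0 => η₀ (n : T0)) := by
      convert hβ0 using 1
      exact funext hη₀β
    have h2 := LinearTwist.hom_eq_of_mul_eq N0 (irr_isCharacter ⟨η₀, hη₀⟩) hres (l.comp μ)
      (l'.comp μ) (fun n => by
        simp only [MonoidHom.comp_apply]
        rw [(hμker _).2 n.2, map_one, map_one]) hval
    ext s
    obtain ⟨t, rfl⟩ := hμsurj s
    exact congrArg Units.val (DFunLike.congr_fun h2 t)
  let e : (D.expH β →* ℂˣ) → MonoidAlgebra (AlgInt ⧸ M) G := fun l =>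
    emb hM T0 (fun t => blockCoeff {η l} t)
  have hmem : ∀ l t, MemLocalRing M (blockCoeff {η l} t) := fun l t => idem_mem hM hT0p (η l) t
  -- functions on `V` invariant under `T0`
  have hmul : ∀ (l : D.expH β →* ℂˣ) (f : V → ℂ), (∀ v, MemLocalRing M (f v)) →
      (∀ (t : T0) (v : V), f (D.cjV ⟨(t : G), hT0N t.2⟩ v) = f v) →
      MemLocalRing M ((∑ v : V, f v * (β : V → ℂ) v) / (β : V → ℂ) 1) →
      emb hM V f * e l =
        Blocks.lResD hM ((∑ v : V, f v * (β : V → ℂ) v) / (β : V → ℂ) 1) • e l := by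
    intro l f hf hinv hω
    set F : T0 → ℂ := fun t => if h : (t : G) ∈ V then f ⟨(t : G), h⟩ else 0 with hF
    have hFmem : ∀ t, MemLocalRing M (F t) := fun t => by
      simp only [hF]; split_ifs
      · exact hf _
      · exact (Blocks.lRing hM).zero_mem
    have hzc : Blocks.ofFun F ∈ Subalgebra.center ℂ (MonoidAlgebra ℂ T0) := by
      rw [Blocks.mem_center_iff_coeff]
      intro g k
      simp only [Blocks.coeff_ofFun, hF]
      have hiff : ((k * g * k⁻¹ : T0) : G) ∈ V ↔ (g : G) ∈ V := by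
        rw [← hμker, ← hμker, map_mul, map_mul, map_inv, mul_comm (μ k), mul_inv_cancel_right]
      by_cases hg : (g : G) ∈ V
      · rw [dif_pos (hiff.2 hg), dif_pos hg, ← hinv k ⟨g, hg⟩]
        rfl
      · rw [dif_neg hg, dif_neg fun h => hg (hiff.1 h)]
    have hemb : emb hM V f = emb hM T0 (fun t => (Blocks.ofFun F).coeff t) := by
      simp only [Blocks.coeff_ofFun]
      rw [emb, emb, eq_comm]
      have hinj : Function.Injective fun v : V => (⟨(v : G), hVT0 v.2⟩ : T0) :=
        fun a b h => Subtype.ext (congrArg (fun t : T0 => (t : G)) h)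
      refine (Finset.sum_subset
        (Finset.subset_univ (Finset.univ.map ⟨_, hinj⟩)) ?_).symm.trans ?_
      · intro t _ ht
        have : (t : G) ∉ V := fun h => ht (Finset.mem_map.2 ⟨⟨t, h⟩, Finset.mem_univ _, rfl⟩)
        simp only [hF, dif_neg this, Blocks.lResD_zero]
        exact zero_smul_res hM _
      · rw [Finset.sum_map]
        refine Finset.sum_congr rfl fun v _ => ?_
        simp only [hF]
        congr 2
        exact dif_pos v.2
    have hwη : Blocks.omega (η l : T0 → ℂ) (Blocks.ofFun F) =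
        (∑ v : V, f v * (β : V → ℂ) v) / (β : V → ℂ) 1 := by
      rw [Blocks.omega_ofFun]
      congr 1
      · rw [eq_comm]
        refine (Finset.sum_bij (s := (Finset.univ : Finset V))
          (fun v _ => (⟨(v : G), hVT0 v.2⟩ : T0))
          (fun v _ => Finset.mem_filter.2 ⟨Finset.mem_univ _, (v.2 : (v : G) ∈ V)⟩)
          (fun a _ b _ h => Subtype.ext (congrArg (fun t : T0 => (t : G)) h))
          (fun t ht => ⟨⟨t, (Finset.mem_filter.1 ht).2⟩, Finset.mem_univ _, rfl⟩)
          (fun v _ => ?_)).trans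
          (Finset.sum_filter_of_ne (p := fun t : T0 => (t : G) ∈ V)
            (f := fun t => F t * (η l : T0 → ℂ) t) fun t _ ht => ?_)
        · simp only [hF, dif_pos v.2]
          exact congrArg (f v * ·) (hηV l ⟨⟨(v : G), hVT0 v.2⟩, v.2⟩).symm
        · by_contra h
          exact ht (by simp only [hF, dif_neg h, zero_mul])
      · exact (hηV l 1).trans (congrArg (β : V → ℂ) (map_one toV))
    have hcx : Blocks.ofFun F * Blocks.blockIdem {η l} =
        ((∑ v : V, f v * (β : V → ℂ) v) / (β : V → ℂ) 1) • Blocks.blockIdem {η l} := by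
      refine Blocks.central_ext (mul_mem hzc (Blocks.blockIdem_mem_center _))
        (Subalgebra.smul_mem _ (Blocks.blockIdem_mem_center _) _) fun χ => ?_
      rw [Blocks.omega_mul χ hzc, map_smul, Blocks.omega_blockIdem, smul_eq_mul]
      split_ifs with h
      · rw [Set.mem_singleton_iff] at h
        rw [h, hwη]
      · simp
    show emb hM V f * emb hM T0 _ = _
    have h2 := emb_mul hM (y := Blocks.ofFun F) (z := Blocks.blockIdem {η l})
      (fun t => by simpa using hFmem t) (fun t => by simpa using hmem l t)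
    rw [hcx] at h2
    simp only [Blocks.coeff_blockIdem, MonoidAlgebra.coeff_smul, Finsupp.smul_apply,
      smul_eq_mul] at h2
    rw [hemb, h2, emb_smul hM hω (hmem l)]
  -- the idempotent of `β` on `V`
  let eb : IrrCharacter V → MonoidAlgebra (AlgInt ⧸ M) G := fun γ =>
    emb hM V (fun v => blockCoeff {γ} v)
  have hebe : ∀ l, eb β * e l = e l := by
    intro l
    have hone : (∑ v : V, blockCoeff {β} v * (β : V → ℂ) v) / (β : V → ℂ) 1 = 1 := by
      have h := Blocks.omega_blockIdem {β} β
      rw [Blocks.blockIdem, Blocks.omega_ofFun, if_pos (Set.mem_singleton β)] at h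
      exact h
    show emb hM V _ * _ = _
    rw [hmul l _ (idem_mem hM D.not_dvd_card_V β) ?_ (by rw [hone]; exact (Blocks.lRing hM).one_mem),
      hone, Blocks.lResD_one, one_smul]
    intro t v
    rw [Blocks.blockCoeff_eq_sum, Blocks.blockCoeff_eq_sum]
    simp only [Set.mem_singleton_iff, Finset.filter_eq', Finset.mem_univ, if_true,
      Finset.sum_singleton]
    rw [← D.cj_apply, hstab]
  have hcomm : ∀ l, ∀ t ∈ T0, Commute (of (AlgInt ⧸ M) G t) (e l) := by
    intro l t ht
    have hc := Subalgebra.mem_center_iff.1 (Blocks.redAlg_mem_center hM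
      (Blocks.blockIdem_mem_center ({η l} : Set (IrrCharacter T0))))
      (of (AlgInt ⧸ M) T0 ⟨t, ht⟩)
    have he : e l = MonoidAlgebra.mapDomainRingHom (AlgInt ⧸ M) T0.subtype
        (Blocks.redAlg hM (Blocks.blockIdem {η l})) := by
      rw [← emb_eq_map]
      simp [e]
    have := congrArg (MonoidAlgebra.mapDomainRingHom (AlgInt ⧸ M) T0.subtype) hc
    rw [map_mul, map_mul, ← he] at this
    have hof : MonoidAlgebra.mapDomainRingHom (AlgInt ⧸ M) T0.subtype
        (of (AlgInt ⧸ M) T0 ⟨t, ht⟩) = of (AlgInt ⧸ M) G t := by simp [MonoidAlgebra.of_apply]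
    rw [hof] at this
    exact this
  have hebcomm : ∀ l, e l * eb β = e l := by
    intro l
    have h : Commute (eb β) (e l) := Commute.sum_left _ _ _ fun v _ =>
      Commute.smul_left (hcomm l (v : G) (hVT0 v.2)) _
    rw [← h.eq, hebe]
  refine ⟨T0, e, ⟨D.hx, fun g hg => by obtain ⟨n, -, rfl⟩ := hg; exact n.2,
    ⟨⟨x, D.C_le D.x_mem⟩, D.cj_of_mem_C _ D.x_mem β, rfl⟩, hT0T, hdec, hT0p, fun l => ?_,
    fun l l' hll => ?_, hcomm, fun l g hg => coeff_emb_of_notMem hM _ hg, fun l => ?_,
    fun l l' n hn hnT => ?_⟩, fun l => ?_⟩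
  · exact (idem_mul hM hT0p (η l) (η l)).trans (if_pos rfl)
  · exact (idem_mul hM hT0p (η l) (η l')).trans (if_neg fun h => hll (hηinj h))
  · show (emb hM T0 _).coeff ((1 : T0) : G) ≠ 0
    rw [coeff_emb_of_mem]
    intro h
    rw [Blocks.lResD_eq_zero_iff hM (hmem l 1), Blocks.blockCoeff_eq_sum] at h
    simp only [Set.mem_singleton_iff, Finset.filter_eq', Finset.mem_univ, if_true,
      Finset.sum_singleton] at h
    obtain ⟨d, hd, hd0, hdd⟩ := irr_degree_dvd_card (η l)
    rw [hd, Complex.conj_natCast, ← Nat.cast_mul] at h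
    have hnd : ¬ p ∣ d := fun h' => hT0p (h'.trans (by
      rw [← show charDegree (η l : T0 → ℂ) = d from LinearTwist.charDegree_eq_of_apply_one hd]
      exact (ClassCount.degree_eq (η l)).2.1))
    have h2 := Blocks.MemLocalIdeal.mul_left hM
      ((Blocks.lRing hM).mul_mem (Blocks.isIntegral_mem_lRing hM
        (isIntegral_algebraMap (R := ℤ) (x := (Nat.card T0 : ℤ))))
        (Blocks.inv_natCast_mem_lRing hM (n := d * d)
          (fun h' => (hp.out.dvd_mul.1 h').elim hnd hnd))) h
    have hc0 : (Nat.card T0 : ℂ) ≠ 0 := Nat.cast_ne_zero.2 Nat.card_pos.ne'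
    have hdd0 : ((d * d : ℕ) : ℂ) ≠ 0 := by
      have := Nat.mul_pos hd0 hd0
      exact Nat.cast_ne_zero.2 this.ne'
    refine Blocks.not_memLocalIdeal_one hM ?_
    convert h2 using 1
    simp only [eq_intCast, Int.cast_natCast]
    field_simp
  · have hne : D.cj (⟨n, hn⟩ : nrm x)⁻¹ β ≠ β := fun h => hnT
      ⟨⟨n, hn⟩, by
        have h2 := (D.stab β).inv_mem (D.mem_stab.2 h)
        rwa [inv_inv] at h2, rfl⟩
    calc e l * of (AlgInt ⧸ M) G n * e l'
        = e l * eb β * (of (AlgInt ⧸ M) G n * eb β) * e l' := by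
          rw [hebcomm, mul_assoc (e l), mul_assoc (e l), mul_assoc, hebe]
      _ = e l * (eb β * eb (D.cj (⟨n, hn⟩ : nrm x)⁻¹ β)) * of (AlgInt ⧸ M) G n * e l' := by
          rw [show of (AlgInt ⧸ M) G n * eb β =
            eb (D.cj (⟨n, hn⟩ : nrm x)⁻¹ β) * of (AlgInt ⧸ M) G n from D.of_mul_emb hM ⟨n, hn⟩ β]
          simp only [mul_assoc]
      _ = 0 := by
          rw [show eb β * eb (D.cj (⟨n, hn⟩ : nrm x)⁻¹ β) = 0 from
            (idem_mul hM D.not_dvd_card_V β _).trans (if_neg (Ne.symm hne))]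
          simp
  · have hsum : ∑ g ∈ Finset.univ.filter (fun g : G => Commute x g),
        (Blocks.blockIdemRes hM B).coeff g • of (AlgInt ⧸ M) G g =
        emb hM V (fun v => blockCoeff B (v : G)) := by
      rw [emb]
      rw [← Finset.sum_subset (s₁ := Finset.univ.map (⟨fun v : V => (v : G), Subtype.val_injective⟩))
        (s₂ := Finset.univ.filter (fun g : G => Commute x g)) ?_ ?_, Finset.sum_map]
      · exact Finset.sum_congr rfl fun v _ => by
          rw [Blocks.coeff_blockIdemRes]; rfl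
      · intro g hg
        obtain ⟨v, -, rfl⟩ := Finset.mem_map.1 hg
        exact Finset.mem_filter.2 ⟨Finset.mem_univ _, (D.mem_C_iff.1 (D.V_le v.2)).symm⟩
      · intro g hg hgV
        rw [Blocks.coeff_blockIdemRes, Blocks.blockCoeff_eq_zero_of_singular hM hB ?_,
          Blocks.lResD_zero]
        · exact zero_smul_res hM _
        by_contra hreg
        exact hgV (Finset.mem_map.2 ⟨⟨g, (D.hV g).2
          ⟨D.mem_C_iff.2 (Finset.mem_filter.1 hg).2.symm, hreg⟩⟩, Finset.mem_univ _, rfl⟩)
    have hmem1 : MemLocalRing M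
        ((∑ v : V, blockCoeff B (v : G) * (β : V → ℂ) v) / (β : V → ℂ) 1) := by
      obtain ⟨d, hd, hd0, hdd⟩ := irr_degree_dvd_card β
      have hnd : ¬ p ∣ d := fun h' => D.not_dvd_card_V (h'.trans (by
        rw [← show charDegree (β : V → ℂ) = d from LinearTwist.charDegree_eq_of_apply_one hd]
        exact (ClassCount.degree_eq β).2.1))
      rw [hd, div_eq_mul_inv]
      exact (Blocks.lRing hM).mul_mem ((Blocks.lRing hM).sum_mem fun v _ =>
        (Blocks.lRing hM).mul_mem (Blocks.memLocalRing_blockCoeff hM hB _)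
          (Blocks.isIntegral_mem_lRing hM (CharCorr.irr_isIntegral β v)))
        (Blocks.inv_natCast_mem_lRing hM hnd)
    rw [hsum, hmul l _ (fun v => Blocks.memLocalRing_blockCoeff hM hB _) (fun t v => by
        rw [D.cjV_coe]; exact Blocks.blockCoeff_conj B _ _) hmem1,
      (Blocks.lResD_eq_iff hM hmem1 (Blocks.lRing hM).one_mem).2
        (by rw [Finset.sum_div]; exact D.omega_congr_hits hM hB hβ),
      Blocks.lResD_one, one_smul]

end Data

end CfsgLib.PrimeDefect
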